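import Groth.Agent.TateGlob.K828.LExt
import Groth.Agent.AlgSp.K601.SheafifyLim
import Groth.Agent.S9183

/-!
# Affine schemes over an affine scheme as limits of affine schemes of finite presentation (helper828)
-/

set_option autoImplicit false

universe u

open CategoryTheory CategoryTheory.Limits AlgebraicGeometry Opposite

namespace K828.LExt

variable {S : Scheme.{u}}

section factor

variable {I : Type u} [SmallCategory I] [IsCofiltered I] {D : I ⥤ Over S} {c : Cone D}
  (hc : IsLimit ((Over.forget S).mapCone c)) (hD : ∀ i, IsAffine (D.obj i).left)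

include hc hD

/-- a morphism from the limit to a scheme locally of finite presentation factors through a stage -/
theorem exists_factor (X : Over S) [LocallyOfFinitePresentation X.hom] (f : c.pt ⟶ X) :
    ∃ (i : I) (fi : D.obj i ⟶ X), c.π.app i ≫ fi = f := by
  have h1 : ∀ {i j : I} (f : i ⟶ j), IsAffineHom ((D ⋙ Over.forget S).map f) := fun {i j} f => by
    have := hD i
    have := hD j
    change IsAffineHom (D.map f).left
    infer_instance
  have h2 : ∀ i, CompactSpace ((D ⋙ Over.forget S).obj i) := fun i => by
    have := hD i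
    change CompactSpace (D.obj i).left
    infer_instance
  have h3 : ∀ i, QuasiSeparatedSpace ((D ⋙ Over.forget S).obj i) := fun i => by
    have := hD i
    change QuasiSeparatedSpace (D.obj i).left
    infer_instance
  let t : D ⋙ Over.forget S ⟶ (Functor.const I).obj S :=
    { app := fun i => (D.obj i).hom
      naturality := fun i j f => by
        change (D.map f).left ≫ (D.obj j).hom = (D.obj i).hom ≫ 𝟙 _
        rw [Over.w, Category.comp_id] }
  obtain ⟨i, g, hg, hg'⟩ := Scheme.exists_π_app_comp_eq_of_locallyOfFinitePresentation (D ⋙ Over.forget S) t X.hom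
    ((Over.forget S).mapCone c) hc f.left (by
      ext i : 2
      change (c.π.app i).left ≫ (D.obj i).hom = f.left ≫ X.hom
      rw [Over.w, Over.w]
      rfl)
  exact ⟨i, Over.homMk g hg', Over.OverMorphism.ext hg⟩

/-- two morphisms from a stage to a scheme locally of finite type which agree on the limit agree at a later stage -/
theorem exists_comp_eq (X : Over S) [LocallyOfFiniteType X.hom] {i : I} (a b : D.obj i ⟶ X)
    (h : c.π.app i ≫ a = c.π.app i ≫ b) : ∃ (j : I) (φ : j ⟶ i), D.map φ ≫ a = D.map φ ≫ b := by
  have h1 : ∀ {i j : I} (f : i ⟶ j), IsAffineHom ((D ⋙ Over.forget S).map f) := fun {i j} f => by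
    have := hD i
    have := hD j
    change IsAffineHom (D.map f).left
    infer_instance
  have h2 : ∀ i, CompactSpace ((D ⋙ Over.forget S).obj i) := fun i => by
    have := hD i
    change CompactSpace (D.obj i).left
    infer_instance
  have h3 : ∀ i, QuasiSeparatedSpace ((D ⋙ Over.forget S).obj i) := fun i => by
    have := hD i
    change QuasiSeparatedSpace (D.obj i).left
    infer_instance
  let t : D ⋙ Over.forget S ⟶ (Functor.const I).obj S :=
    { app := fun i => (D.obj i).hom
      naturality := fun i j f => by
        change (D.map f).left ≫ (D.obj j).hom = (D.obj i).hom ≫ 𝟙 _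
        rw [Over.w, Category.comp_id] }
  obtain ⟨k, φ, hφ⟩ := Scheme.exists_hom_comp_eq_comp_of_locallyOfFiniteType (D ⋙ Over.forget S) t X.hom
    ((Over.forget S).mapCone c) hc (i := i) a.left b.left (Over.w a).symm (Over.w b).symm
    (congrArg CommaMorphism.left h)
  exact ⟨k, φ, Over.OverMorphism.ext hφ⟩

end factor

section system

variable [IsAffine S]

/-- the affine `S`-scheme of an algebra over the ring of global sections of `S` -/
noncomputable def toOver (S : Scheme.{u}) [IsAffine S] : (Under Γ(S, ⊤))ᵒᵖ ⥤ Over S where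
  obj X := Over.mk (Spec.map X.unop.hom ≫ S.isoSpec.inv)
  map {X Y} f := Over.homMk (Spec.map f.unop.right) (by
    change Spec.map f.unop.right ≫ Spec.map Y.unop.hom ≫ _ = Spec.map X.unop.hom ≫ _
    rw [← Category.assoc, ← Spec.map_comp, Under.w])
  map_id X := by
    apply Over.OverMorphism.ext
    exact Spec.map_id _
  map_comp f g := by
    apply Over.OverMorphism.ext
    exact Spec.map_comp _ _

/-- Every affine `S`-scheme is a cofiltered limit of affine `S`-schemes of finite presentation. -/
theorem exists_system (T : Over S) [IsAffine T.left] :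
    ∃ (I : Type u) (_ : SmallCategory I) (_ : IsCofiltered I) (D : I ⥤ Over S) (c : Cone D),
      Nonempty (IsLimit ((Over.forget S).mapCone c)) ∧ (∀ i, fpProp S (D.obj i)) ∧ c.pt = T := by
  let _ : Algebra Γ(S, ⊤) Γ(T.left, ⊤) := T.hom.appTop.hom.toAlgebra
  obtain ⟨I, _, _, D, c, hc, hD, ⟨e⟩⟩ := Groth.Agent.S9183.result Γ(S, ⊤) Γ(T.left, ⊤)
  have : IsConnected I := IsFiltered.isConnected I
  let D' : Iᵒᵖ ⥤ Over S := D.op ⋙ toOver S
  let c' : Cone D' := (toOver S).mapCone c.op
  have hc' : IsLimit ((Over.forget S).mapCone c') :=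
    isLimitOfPreserves Scheme.Spec (isColimitOfPreserves (Under.forget Γ(S, ⊤)) hc).op
  -- the isomorphism with `T`
  let e1 : c'.pt ≅ T := (toOver S).mapIso e.symm.op ≪≫ Over.isoMk T.left.isoSpec.symm (by
    change T.left.isoSpec.inv ≫ T.hom = Spec.map T.hom.appTop ≫ S.isoSpec.inv
    rw [Scheme.isoSpec_inv_naturality])
  refine ⟨Iᵒᵖ, inferInstance, inferInstance, D', c'.extend e1.inv, ⟨?_⟩, fun i => ⟨?_, ?_⟩, rfl⟩
  · exact hc'.ofIsoLimit (Cone.ext ((Over.forget S).mapIso e1) (fun i => by
      change (c'.π.app i).left = e1.hom.left ≫ (e1.inv ≫ c'.π.app i).left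
      rw [← Over.comp_left, Iso.hom_inv_id_assoc]))
  · change IsAffine (Spec _)
    infer_instance
  · change LocallyOfFinitePresentation (Spec.map (D.obj i.unop).hom ≫ S.isoSpec.inv)
    have h1 : LocallyOfFinitePresentation (Spec.map (D.obj i.unop).hom) := by
      rw [LocallyOfFinitePresentation.SpecMap_iff]
      exact hD i.unop
    infer_instance

end system

end K828.LExt
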