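import Groth.Agent.TateGlob.K828.GalSch
import Groth.Agent.S0501
import Groth.Agent.S0505
import Groth.Agent.S0518
import Mathlib.FieldTheory.Finite.Extension
import Mathlib.Algebra.Field.ULift
import Mathlib.Algebra.Module.ULift
import Mathlib.RingTheory.Unramified.LocalRing
import Mathlib.RingTheory.Smooth.Flat
import Mathlib.RingTheory.Etale.Field
import Mathlib.RingTheory.Flat.Rank
import Mathlib.LinearAlgebra.LinearIndependent.Lemmas

/-!
# Unramified extensions of henselian local rings with finite residue field (helper828)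
-/

set_option autoImplicit false

universe u

open scoped TensorProduct
open IsLocalRing

namespace K828.Unram

theorem exists_field_ext (k : Type u) [Field k] [Finite k] (m : ℕ) [NeZero m] :
    ∃ (l : Type u) (_ : Field l) (_ : Algebra k l), Module.Finite k l ∧ Module.finrank k l = m := by
  obtain ⟨p, hp⟩ := CharP.exists k
  have hp' : Fact p.Prime := ⟨CharP.char_is_prime k p⟩
  refine ⟨ULift.{u} (FiniteField.Extension k p m), inferInstance, inferInstance, ?_, ?_⟩
  · exact Module.Finite.equiv (ULift.moduleEquiv (R := k) (M := FiniteField.Extension k p m)).symm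
  · rw [LinearEquiv.finrank_eq (ULift.moduleEquiv (R := k) (M := FiniteField.Extension k p m)),
      FiniteField.finrank_extension]

/-- Lifting of residual points of étale algebras to henselian local rings. -/
theorem exists_lift {A : Type u} [CommRing A] (C : Type u) [CommRing C] [Algebra A C] [Algebra.Etale A C] (B : Type u)
    [CommRing B] [HenselianLocalRing B] [Algebra A B] (θ : C →ₐ[A] ResidueField B) :
    ∃ f : C →ₐ[A] B, ∀ c, residue B (f c) = θ c := by
  have hq : (RingHom.ker θ.toRingHom).IsPrime := RingHom.ker_isPrime _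
  obtain ⟨f, hf, -⟩ := Groth.Agent.S0501.result A B C (RingHom.ker θ.toRingHom)
    (Ideal.ResidueField.lift (RingHom.ker θ.toRingHom) θ.toRingHom le_rfl (by
      intro x hx
      change IsUnit (θ x)
      exact isUnit_iff_ne_zero.2 hx)) (by
      ext r
      rw [RingHom.comp_apply, IsScalarTower.algebraMap_apply A C (RingHom.ker θ.toRingHom).ResidueField,
        Ideal.ResidueField.lift_algebraMap]
      exact θ.commutes r)
  refine ⟨f, fun c => ?_⟩
  rw [hf.2, Ideal.ResidueField.lift_algebraMap]
  rfl

theorem lift_unique {A : Type u} [CommRing A] (C : Type u) [CommRing C] [Algebra A C] [Algebra.Etale A C] (B : Type u)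
    [CommRing B] [HenselianLocalRing B] [Algebra A B] (f g : C →ₐ[A] B) (h : ∀ c, residue B (f c) = residue B (g c)) :
    f = g := by
  let θ : C →+* ResidueField B := (residue B).comp f.toRingHom
  have hq : (RingHom.ker θ).IsPrime := RingHom.ker_isPrime _
  have hcomap : ∀ f : C →ₐ[A] B, (∀ c, residue B (f c) = θ c) →
      Ideal.comap f.toRingHom (maximalIdeal B) = RingHom.ker θ := by
    intro f' hf'
    ext c
    rw [Ideal.mem_comap, RingHom.mem_ker, ← hf', residue_eq_zero_iff]
    rfl
  obtain ⟨f₀, -, huniq⟩ := Groth.Agent.S0501.result A B C (RingHom.ker θ)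
    (Ideal.ResidueField.lift (RingHom.ker θ) θ le_rfl (by
      intro x hx
      exact isUnit_iff_ne_zero.2 hx)) (by
      ext r
      rw [RingHom.comp_apply, IsScalarTower.algebraMap_apply A C (RingHom.ker θ).ResidueField,
        Ideal.ResidueField.lift_algebraMap]
      change residue B (f (algebraMap A C r)) = residue B (algebraMap A B r)
      rw [f.commutes])
  refine (huniq f ⟨hcomap f fun _ => rfl, fun c => ?_⟩).trans (huniq g ⟨hcomap g fun c => (h c).symm, fun c => ?_⟩).symm
  · rw [Ideal.ResidueField.lift_algebraMap]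
    rfl
  · rw [Ideal.ResidueField.lift_algebraMap, ← h]
    rfl

section

variable {A : Type u} [CommRing A] [HenselianLocalRing A] {B : Type u} [CommRing B] [Algebra A B] [Module.Finite A B]

theorem isLocalRing {l : Type u} [Field l] [Algebra (ResidueField A) l]
    (e : ResidueField A ⊗[A] B ≃ₐ[ResidueField A] l) : IsLocalRing B := by
  let ρ : B →+* l := (e : _ →+* l).comp (Algebra.TensorProduct.includeRight (R := A) (A := ResidueField A)).toRingHom
  have hρ : Function.Surjective ρ := by
    intro y
    obtain ⟨z, rfl⟩ := e.surjective y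
    induction z using TensorProduct.induction_on with
    | zero => exact ⟨0, by rw [map_zero, map_zero]⟩
    | add a b ha hb =>
      obtain ⟨x, hx⟩ := ha
      obtain ⟨y, hy⟩ := hb
      exact ⟨x + y, by rw [map_add, map_add, hx, hy]⟩
    | tmul r b =>
      obtain ⟨r, rfl⟩ := residue_surjective r
      refine ⟨r • b, ?_⟩
      change e (1 ⊗ₜ (r • b)) = _
      rw [← TensorProduct.smul_tmul]
      congr 2
      rw [Algebra.smul_def, mul_one]
      rfl
  have hmax : (RingHom.ker ρ).IsMaximal := RingHom.ker_isMaximal_of_surjective _ hρ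
  refine IsLocalRing.of_unique_max_ideal ⟨RingHom.ker ρ, hmax, fun M hM => ?_⟩
  symm
  refine hmax.eq_of_le hM.ne_top ?_
  intro b hb
  have hMc : (M.comap (algebraMap A B)).IsMaximal := Ideal.isMaximal_comap_of_isIntegral_of_isMaximal M
  have hMm : M.comap (algebraMap A B) = maximalIdeal A := eq_maximalIdeal hMc
  let θ : ResidueField A →ₐ[A] B ⧸ M := Ideal.Quotient.liftₐ (maximalIdeal A) (Algebra.ofId A (B ⧸ M)) (by
    intro a ha
    rw [← hMm] at ha
    exact Ideal.Quotient.eq_zero_iff_mem.2 ha)
  let Θ : ResidueField A ⊗[A] B →ₐ[A] B ⧸ M := Algebra.TensorProduct.lift θ (Ideal.Quotient.mkₐ A M)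
    fun _ _ => Commute.all _ _
  have h1 : (1 : ResidueField A) ⊗ₜ[A] b = 0 := by
    apply e.injective
    rw [map_zero]
    exact hb
  have h2 : Θ (1 ⊗ₜ b) = Ideal.Quotient.mk M b := by
    rw [Algebra.TensorProduct.lift_tmul, map_one, one_mul]
    rfl
  rw [h1, map_zero] at h2
  exact Ideal.Quotient.eq_zero_iff_mem.1 h2.symm

/-- The residue field of `B`. -/
theorem exists_residue_equiv {l : Type u} [Field l] [Algebra (ResidueField A) l]
    (e : ResidueField A ⊗[A] B ≃ₐ[ResidueField A] l) [IsLocalRing B] [IsLocalHom (algebraMap A B)] :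
    Nonempty (l ≃ₐ[ResidueField A] ResidueField B) := by
  let θ : ResidueField A ⊗[A] B →ₐ[ResidueField A] ResidueField B :=
    Algebra.TensorProduct.lift (Algebra.ofId _ _) (IsScalarTower.toAlgHom A B (ResidueField B)) fun _ _ => Commute.all _ _
  let ψ : l →ₐ[ResidueField A] ResidueField B := θ.comp e.symm.toAlgHom
  refine ⟨AlgEquiv.ofBijective ψ ⟨ψ.toRingHom.injective, fun y => ?_⟩⟩
  obtain ⟨b, rfl⟩ := residue_surjective y
  refine ⟨e (1 ⊗ₜ b), ?_⟩
  change θ (e.symm (e (1 ⊗ₜ b))) = _
  rw [e.symm_apply_apply, Algebra.TensorProduct.lift_tmul, map_one, one_mul]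
  rfl

end

end K828.Unram
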