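import Groth.Prelude.Def_HRes
import Mathlib.Algebra.Homology.DerivedCategory.Ext.ExactSequences
import Mathlib.Algebra.Homology.DerivedCategory.Ext.Map

/-!
# Long exact sequences for the cohomology of abelian sheaves on big sites, and their compatibility
with restriction (helper828)
-/

set_option autoImplicit false

universe u

open CategoryTheory CategoryTheory.Limits AlgebraicGeometry Opposite

namespace K828.Kit

variable {K : Precoverage Scheme.{u}}

section Abs

variable {X : Scheme.{u}} {S : ShortComplex (BigSite.Ab K X)} (hS : S.ShortExact)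

/-- The connecting map `H^n(X, S.X₃) → H^(n+1)(X, S.X₁)` of a short exact sequence of sheaves. -/
noncomputable def del (n : ℕ) : BigSite.H K X S.X₃ n →+ BigSite.H K X S.X₁ (n + 1) :=
  hS.extClass.postcomp _ rfl

theorem del_apply (n : ℕ) (x : BigSite.H K X S.X₃ n) : del hS n x = x.comp hS.extClass rfl := rfl

include hS in
theorem exact₂ (n : ℕ) (x : BigSite.H K X S.X₂ n) (hx : Sheaf.H.map S.g n x = 0) :
    ∃ y : BigSite.H K X S.X₁ n, Sheaf.H.map S.f n y = x :=
  Abelian.Ext.covariant_sequence_exact₂ _ hS x hx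

theorem exact₁ (n : ℕ) (x : BigSite.H K X S.X₁ (n + 1)) (hx : Sheaf.H.map S.f (n + 1) x = 0) :
    ∃ y : BigSite.H K X S.X₃ n, del hS n y = x :=
  Abelian.Ext.covariant_sequence_exact₁ _ hS x hx rfl

theorem exact₃ (n : ℕ) (x : BigSite.H K X S.X₃ n) (hx : del hS n x = 0) :
    ∃ y : BigSite.H K X S.X₂ n, Sheaf.H.map S.g n y = x :=
  Abelian.Ext.covariant_sequence_exact₃ _ hS x rfl hx

theorem del_map (n : ℕ) (x : BigSite.H K X S.X₂ n) : del hS n (Sheaf.H.map S.g n x) = 0 := by
  rw [del_apply, Sheaf.H.map_apply, Abelian.Ext.comp_assoc_of_second_deg_zero,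
    ShortComplex.ShortExact.comp_extClass, Abelian.Ext.comp_zero]

theorem map_del (n : ℕ) (x : BigSite.H K X S.X₃ n) : Sheaf.H.map S.f (n + 1) (del hS n x) = 0 := by
  rw [del_apply, Sheaf.H.map_apply, Abelian.Ext.comp_assoc_of_third_deg_zero,
    ShortComplex.ShortExact.extClass_comp, Abelian.Ext.comp_zero]

omit hS in
theorem map_map (S : ShortComplex (BigSite.Ab K X)) (n : ℕ) (x : BigSite.H K X S.X₁ n) :
    Sheaf.H.map S.g n (Sheaf.H.map S.f n x) = 0 := by
  rw [← Sheaf.H.map_comp_apply, S.zero, Sheaf.H.map_apply, Abelian.Ext.mk₀_zero, Abelian.Ext.comp_zero]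

/-- Naturality of the connecting map in the short exact sequence. -/
theorem map_del_naturality {S' : ShortComplex (BigSite.Ab K X)} (hS' : S'.ShortExact) (φ : S ⟶ S')
    (n : ℕ) (x : BigSite.H K X S.X₃ n) :
    Sheaf.H.map φ.τ₁ (n + 1) (del hS n x) = del hS' n (Sheaf.H.map φ.τ₃ n x) := by
  rw [del_apply, del_apply, Sheaf.H.map_apply, Sheaf.H.map_apply,
    Abelian.Ext.comp_assoc_of_third_deg_zero, Abelian.Ext.comp_assoc_of_second_deg_zero,
    ShortComplex.ShortExact.extClass_naturality hS hS' φ]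

end Abs

section Pull

variable {X Y : Scheme.{u}} (f : Y ⟶ X) {S : ShortComplex (BigSite.Ab K X)} (hS : S.ShortExact)

/-- The pullback of a short exact sequence is short exact. -/
theorem pull_shortExact {S : ShortComplex (BigSite.Ab K X)} (hS : S.ShortExact) :
    (S.map (BigSite.pullBig K f AddCommGrpCat.{u + 1})).ShortExact :=
  hS.map_of_exact _

/-- The connecting maps commute with pullback. -/
theorem pull_del (n : ℕ) (x : BigSite.H K X S.X₃ n) :
    HRes.pull K f S.X₁ (n + 1) (del hS n x) = del (pull_shortExact f hS) n (HRes.pull K f S.X₃ n x) := by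
  rw [HRes.pull_apply, HRes.pull_apply, del_apply, Abelian.Ext.mapExactFunctor_comp,
    Abelian.Ext.mapExactFunctor_extClass]
  exact (Abelian.Ext.comp_assoc _ _ _ (zero_add n) rfl (by omega)).symm

end Pull

section HU

variable {B : Scheme.{u}} {F G L : BigSite.Ab K B} {T T' T'' : Over B}

/-- Functoriality of `HU` in the sheaf. -/
noncomputable def mapHU (φ : F ⟶ G) (n : ℕ) (T : Over B) : BigSite.HU K F n T →+ BigSite.HU K G n T :=
  Sheaf.H.map ((BigSite.pullBig K T.hom AddCommGrpCat.{u + 1}).map φ) n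

theorem mapHU_id (n : ℕ) (x : BigSite.HU K F n T) : mapHU (𝟙 F) n T x = x := by
  rw [mapHU, CategoryTheory.Functor.map_id, Sheaf.H.map_id_apply]

theorem mapHU_comp (φ : F ⟶ G) (ψ : G ⟶ L) (n : ℕ) (x : BigSite.HU K F n T) :
    mapHU (φ ≫ ψ) n T x = mapHU ψ n T (mapHU φ n T x) := by
  rw [mapHU, CategoryTheory.Functor.map_comp, Sheaf.H.map_comp_apply]
  rfl

theorem mapHU_zero (n : ℕ) (x : BigSite.HU K F n T) : mapHU (0 : F ⟶ G) n T x = 0 := by
  rw [mapHU, Functor.map_zero, Sheaf.H.map_apply, Abelian.Ext.mk₀_zero, Abelian.Ext.comp_zero]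

theorem mapHU_iso_bijective (e : F ≅ G) (n : ℕ) (T : Over B) : Function.Bijective (mapHU e.hom n T) := by
  refine ⟨fun x y h => ?_, fun y => ⟨mapHU e.inv n T y, ?_⟩⟩
  · have := congrArg (mapHU e.inv n T) h
    rwa [← mapHU_comp, ← mapHU_comp, e.hom_inv_id, mapHU_id, mapHU_id] at this
  · rw [← mapHU_comp, e.inv_hom_id, mapHU_id]

/-- The iso `HRes.pullIso` is natural in the sheaf. -/
theorem pullIso_naturality (φ : F ⟶ G) (g : T' ⟶ T) :
    (BigSite.pullBig K g.left AddCommGrpCat.{u + 1}).map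
        ((BigSite.pullBig K T.hom AddCommGrpCat.{u + 1}).map φ) ≫ (HRes.pullIso K G g).hom =
      (HRes.pullIso K F g).hom ≫ (BigSite.pullBig K T'.hom AddCommGrpCat.{u + 1}).map φ := by
  simp only [HRes.pullIso, Iso.trans_hom, Iso.app_hom, Category.assoc]
  rw [← NatTrans.naturality, ← NatTrans.naturality_assoc]
  rfl

/-- Restriction is natural in the sheaf. -/
theorem resHU_map (φ : F ⟶ G) (n : ℕ) (g : T' ⟶ T) (x : BigSite.HU K F n T) :
    HRes.resHU K G n g (mapHU φ n T x) = mapHU φ n T' (HRes.resHU K F n g x) := by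
  simp only [HRes.resHU, mapHU, AddMonoidHom.comp_apply]
  rw [HRes.pull_map, ← Sheaf.H.map_comp_apply, ← Sheaf.H.map_comp_apply, pullIso_naturality]

variable {S : ShortComplex (BigSite.Ab K B)} (hS : S.ShortExact)

/-- The connecting map `HU S.X₃ n T → HU S.X₁ (n+1) T`. -/
noncomputable def delHU (n : ℕ) (T : Over B) : BigSite.HU K S.X₃ n T →+ BigSite.HU K S.X₁ (n + 1) T :=
  del (pull_shortExact T.hom hS) n

include hS in
theorem exactHU₂ (n : ℕ) (x : BigSite.HU K S.X₂ n T) (hx : mapHU S.g n T x = 0) :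
    ∃ y : BigSite.HU K S.X₁ n T, mapHU S.f n T y = x :=
  exact₂ (pull_shortExact T.hom hS) n x hx

theorem exactHU₁ (n : ℕ) (x : BigSite.HU K S.X₁ (n + 1) T) (hx : mapHU S.f (n + 1) T x = 0) :
    ∃ y : BigSite.HU K S.X₃ n T, delHU hS n T y = x :=
  exact₁ (pull_shortExact T.hom hS) n x hx

theorem exactHU₃ (n : ℕ) (x : BigSite.HU K S.X₃ n T) (hx : delHU hS n T x = 0) :
    ∃ y : BigSite.HU K S.X₂ n T, mapHU S.g n T y = x :=
  exact₃ (pull_shortExact T.hom hS) n x hx

theorem delHU_map (n : ℕ) (x : BigSite.HU K S.X₂ n T) : delHU hS n T (mapHU S.g n T x) = 0 :=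
  del_map (pull_shortExact T.hom hS) n x

theorem mapHU_del (n : ℕ) (x : BigSite.HU K S.X₃ n T) : mapHU S.f (n + 1) T (delHU hS n T x) = 0 :=
  map_del (pull_shortExact T.hom hS) n x

omit hS in
theorem mapHU_map (n : ℕ) (x : BigSite.HU K S.X₁ n T) : mapHU S.g n T (mapHU S.f n T x) = 0 :=
  map_map (S.map (BigSite.pullBig K T.hom AddCommGrpCat.{u + 1})) n x

/-- Restriction commutes with the connecting maps. -/
theorem resHU_del (n : ℕ) (g : T' ⟶ T) (x : BigSite.HU K S.X₃ n T) :
    HRes.resHU K S.X₁ (n + 1) g (delHU hS n T x) = delHU hS n T' (HRes.resHU K S.X₃ n g x) := by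
  let φ : (S.map (BigSite.pullBig K T.hom AddCommGrpCat.{u + 1})).map
      (BigSite.pullBig K g.left AddCommGrpCat.{u + 1}) ⟶ S.map (BigSite.pullBig K T'.hom AddCommGrpCat.{u + 1}) :=
    { τ₁ := (HRes.pullIso K S.X₁ g).hom
      τ₂ := (HRes.pullIso K S.X₂ g).hom
      τ₃ := (HRes.pullIso K S.X₃ g).hom
      comm₁₂ := (pullIso_naturality S.f g).symm
      comm₂₃ := (pullIso_naturality S.g g).symm }
  exact (congrArg (Sheaf.H.map (HRes.pullIso K S.X₁ g).hom (n + 1))
    (pull_del g.left (pull_shortExact T.hom hS) n x)).trans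
    (map_del_naturality (pull_shortExact g.left (pull_shortExact T.hom hS)) (pull_shortExact T'.hom hS) φ n _)

end HU

end K828.Kit
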