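import Groth.Agent.TateGlob.K828.Cartan
import Groth.Agent.AlgSp.K601.FppfSieve
import Mathlib.AlgebraicGeometry.Limits

/-!
# Disjoint unions and affine covers for the fppf topology (helper828)
-/

set_option autoImplicit false

universe u

open CategoryTheory CategoryTheory.Limits AlgebraicGeometry Opposite
open Groth.Agent.Etrest.FppfCoch K828.Cech K828.Cartan

namespace K828.FppfDisj

variable {S : Scheme.{u}}

/-- Disjoint unions in `Over S`. -/
theorem exists_coprod {ι : Type u} (W : ι → Over S) :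
    ∃ (Z : Over S) (j : ∀ i, W i ⟶ Z), (∀ i, IsOpenImmersion (j i).left) ∧
      (∀ z : Z.left, ∃ (i : ι) (w : (W i).left), (j i).left w = z) ∧
      (∀ (i i' : ι) (V : Over S) (a : V ⟶ W i) (b : V ⟶ W i'), a ≫ j i = b ≫ j i' → i ≠ i' → IsEmpty V.left) ∧
      (Finite ι → (∀ i, IsAffine (W i).left) → IsAffine Z.left) ∧
      (∀ (Y : Over S) (f : ∀ i, W i ⟶ Y), ∃ g : Z ⟶ Y, (∀ i, j i ≫ g = f i) ∧
        ((∀ i, Flat (f i).left) → Flat g.left) ∧
        ((∀ i, LocallyOfFinitePresentation (f i).left) → LocallyOfFinitePresentation g.left)) := by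
  refine ⟨Over.mk (Sigma.desc (fun i => (W i).hom)), fun i => Over.homMk (Sigma.ι (fun i => (W i).left) i)
    (by simp), fun i => ?_, fun z => ?_, ?_, ?_, ?_⟩
  · change IsOpenImmersion (Sigma.ι (fun i => (W i).left) i)
    infer_instance
  · obtain ⟨i, w, hw⟩ := (sigmaOpenCover (fun i => (W i).left)).exists_eq z
    exact ⟨i, w, hw⟩
  · intro i i' V a b hab hne
    exact isEmpty_of_commSq_sigmaι_of_ne ⟨congrArg (fun k => k.left) hab⟩ hne
  · intro _ h
    change IsAffine (∐ fun i => (W i).left)
    infer_instance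
  · intro Y f
    refine ⟨Over.homMk (Sigma.desc (fun i => (f i).left)) ?_, fun i => ?_, fun h => ?_, fun h => ?_⟩
    · dsimp
      apply Sigma.hom_ext
      intro i
      simp
    · ext
      dsimp
      simp
    · exact IsZariskiLocalAtSource.sigmaDesc (P := @Flat) h
    · exact IsZariskiLocalAtSource.sigmaDesc (P := @LocallyOfFinitePresentation) h

theorem isDisj {ι : Type u} {W : ι → Over S} {Z : Over S} (j : ∀ i, W i ⟶ Z) (h1 : ∀ i, IsOpenImmersion (j i).left)
    (h2 : ∀ z : Z.left, ∃ (i : ι) (w : (W i).left), (j i).left w = z)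
    (h3 : ∀ (i i' : ι) (V : Over S) (a : V ⟶ W i) (b : V ⟶ W i'), a ≫ j i = b ≫ j i' → i ≠ i' → IsEmpty V.left) :
    IsDisj Scheme.fppfPrecoverage j := by
  have hcov : Sieve.ofArrows W j ∈ QuotSh.J Scheme.fppfPrecoverage S Z :=
    K601.FppfSieve.ofArrows_mem_J W j (fun a => by have := h1 a; infer_instance)
      (fun a => by have := h1 a; infer_instance) h2
  intro F
  have hty := isSheaf_ty F.property
  constructor
  · intro s s' h
    refine eq_of_cover F.property hcov _ _ ?_
    rintro Y f ⟨V, g, _, ⟨i⟩, rfl⟩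
    have hi : F.obj.map (j i).op s = F.obj.map (j i).op s' := congrFun h i
    rw [← res_comp, ← res_comp, hi]
  · intro s
    have hsh := hty _ hcov
    rw [Sieve.ofArrows, ← Presieve.isSheafFor_iff_generate, Presieve.isSheafFor_arrows_iff] at hsh
    obtain ⟨t, ht, -⟩ := hsh s (fun i i' V a b hab => by
      by_cases hii : i = i'
      · subst hii
        have hm : Mono (j i) := by
          have := h1 i
          have : Mono (j i).left := inferInstance
          exact (Over.forget S).mono_of_mono_map this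
        rw [cancel_mono] at hab
        rw [hab]
      · have hV := h3 i i' V a b hab hii
        have hbot : (⊥ : Sieve V) ∈ QuotSh.J Scheme.fppfPrecoverage S V := by
          refine (K601.FppfSieve.mem_J_iff _).2 fun x => ?_
          exact hV.elim x
        exact ((hty.isSeparated _ hbot).ext (fun Y f hf => hf.elim)))
    exact ⟨t, funext ht⟩

/-- Affine fppf coverings: `T'` affine, flat, locally of finite presentation and surjective over `T`. -/
def AffCov (S : Scheme.{u}) : MorphismProperty (Over S) := fun T' _ p =>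
  IsAffine T'.left ∧ Flat p.left ∧ LocallyOfFinitePresentation p.left ∧ Surjective p.left

/-- Affine schemes. -/
def Aff (S : Scheme.{u}) : ObjectProperty (Over S) := fun T => IsAffine T.left

/-- An fppf covering sieve of an affine scheme contains the pieces of a finite disjoint union which is an affine fppf
covering. -/
theorem exists_affCov {T : Over S} (hT : IsAffine T.left) {R : Sieve T} (hR : R ∈ QuotSh.J Scheme.fppfPrecoverage S T) :
    ∃ (T' : Over S) (p : T' ⟶ T), AffCov S p ∧
    ∃ (ι : Type u) (W : ι → Over S) (w : ∀ i, W i ⟶ T'), Finite ι ∧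
      (∀ i, IsOpenImmersion (w i).left) ∧ (∀ z : T'.left, ∃ (i : ι) (x : (W i).left), (w i).left x = z) ∧
      IsDisj Scheme.fppfPrecoverage w ∧ ∀ i, R (w i ≫ p) := by
  obtain ⟨A, hA, W, p, hp, hs⟩ := K601.FppfSieve.exists_finite_affine_cover (S := S) (T := T) hR
  obtain ⟨Z, j, h1, h2, h3, h4, h5⟩ := exists_coprod W
  obtain ⟨g, hg, hg1, hg2⟩ := h5 T p
  refine ⟨Z, g, ⟨h4 hA fun a => (hp a).2.1, hg1 fun a => (hp a).2.2.1, hg2 fun a => (hp a).2.2.2, ⟨fun t => ?_⟩⟩,
    A, W, j, hA, h1, h2, isDisj j h1 h2 h3, fun a => by rw [hg]; exact (hp a).1⟩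
  obtain ⟨a, w, hw⟩ := hs t
  refine ⟨(j a).left w, ?_⟩
  rw [← hg a] at hw
  rw [← hw]
  rfl

theorem generate_mem {T' T : Over S} (p : T' ⟶ T) (h1 : Flat p.left) (h2 : LocallyOfFinitePresentation p.left)
    (h3 : Surjective p.left) : Sieve.generate (Presieve.singleton p) ∈ QuotSh.J Scheme.fppfPrecoverage S T := by
  refine (K601.FppfSieve.mem_J_iff _).2 fun t => ?_
  obtain ⟨t', ht'⟩ := h3.surj t
  exact ⟨T', p, t', ⟨T', 𝟙 T', p, Presieve.singleton_self p, Category.id_comp p⟩, h1, h2, ht'⟩

/-- The class of affine schemes is good. -/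
theorem isGood_aff : IsGood (S := S) Scheme.fppfPrecoverage (Aff S) (AffCov S) where
  rep {T' T} p hT hp n := by
    have h : IsAffine T.left := hT
    have h' := hp.1
    have hst : (MorphismProperty.inverseImage @IsAffineHom (Over.forget S)).IsStableUnderBaseChange :=
      ⟨fun sq hg => MorphismProperty.of_isPullback (P := @IsAffineHom) (sq.map (Over.forget S)) hg⟩
    obtain ⟨R, hR⟩ := exists_rep (MorphismProperty.inverseImage @IsAffineHom (Over.forget S)) p (𝟙 T)
      (inferInstanceAs (IsAffineHom p.left)) n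
    have : IsAffineHom R.π.left := hR
    exact ⟨R, isAffine_of_isAffineHom R.π.left⟩
  cov {T' T} p _ hp := generate_mem p hp.2.1 hp.2.2.1 hp.2.2.2
  refine {T} hT R hR := by
    obtain ⟨T', p, hp, ι, W, w, -, -, -, hw, hwR⟩ := exists_affCov hT hR
    exact ⟨T', p, hp, ι, W, w, hw, hwR⟩

end K828.FppfDisj
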