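import Groth.Agent.Etrest.FppfCoch
import Mathlib.CategoryTheory.Sites.LocallySurjective
import Mathlib.CategoryTheory.Sites.Whiskering
import Mathlib.Algebra.Category.Grp.Limits

/-!
# Čech acyclic presheaves for one covering morphism (helper828)

`Acy P p`: every Čech cocycle of positive degree of `P` for `p : T' ⟶ T` is a coboundary.  If `0 → G → I → Q → 0` is
exact (`LE`: sectionwise left exactness) and `G` is Čech acyclic then sections of `Q` which lift on `T'` lift on `T`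
(`exists_lift_of_acy`), and `Q` is Čech acyclic if the sections of `Q` over the fibre powers of `p` lift (`acy_quotient`).
-/

set_option autoImplicit false

universe u

open CategoryTheory CategoryTheory.Limits Opposite
open Groth.Agent.Etrest.FppfCoch

namespace K828.Cech

variable {C : Type (u + 1)} [Category.{u} C]

/-- Every Čech cocycle of positive degree is a coboundary. -/
def Acy (P : Cᵒᵖ ⥤ AddCommGrpCat.{u + 1}) {T' T : C} (p : T' ⟶ T) : Prop :=
  ∀ (n : ℕ) (c : Fam P T T' (n + 1)), IsCoch p (𝟙 T) c → IsCocycle p (𝟙 T) c →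
    ∃ b : Fam P T T' n, IsCoch p (𝟙 T) b ∧ IsCob p (𝟙 T) b c

theorem acy_of_section (P : Cᵒᵖ ⥤ AddCommGrpCat.{u + 1}) {T' T : C} (p : T' ⟶ T) (s : T ⟶ T') (hs : s ≫ p = 𝟙 T) :
    Acy P p := fun _ c hc hz => exists_cob_of_section s hs c hc hz

theorem res_comp (P : Cᵒᵖ ⥤ AddCommGrpCat.{u + 1}) {X Y Z : C} (f : X ⟶ Y) (g : Y ⟶ Z) (s : P.obj (op Z)) :
    P.map f.op (P.map g.op s) = P.map (f ≫ g).op s := by
  rw [op_comp, P.map_comp, ConcreteCategory.comp_apply]

theorem res_id (P : Cᵒᵖ ⥤ AddCommGrpCat.{u + 1}) {X : C} (s : P.obj (op X)) : P.map (𝟙 X).op s = s := by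
  rw [op_id, P.map_id, ConcreteCategory.id_apply]

theorem nat_apply {P Q : Cᵒᵖ ⥤ AddCommGrpCat.{u + 1}} (α : P ⟶ Q) {X Y : C} (f : X ⟶ Y) (s : P.obj (op Y)) :
    α.app (op X) (P.map f.op s) = Q.map f.op (α.app (op Y) s) := by
  have h := ConcreteCategory.congr_hom (α.naturality f.op) s
  rwa [ConcreteCategory.comp_apply, ConcreteCategory.comp_apply] at h

section Sheaf

variable {J : GrothendieckTopology C} {P : Cᵒᵖ ⥤ AddCommGrpCat.{u + 1}}

theorem isSheaf_ty (hP : Presheaf.IsSheaf J P) : Presieve.IsSheaf J (P ⋙ forget AddCommGrpCat.{u + 1}) :=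
  (isSheaf_iff_isSheaf_of_type _ _).1 (Presheaf.isSheaf_comp_of_isSheaf J P (forget AddCommGrpCat.{u + 1}) hP)

/-- Separatedness. -/
theorem eq_of_cover (hP : Presheaf.IsSheaf J P) {T : C} {R : Sieve T} (hR : R ∈ J T) (s s' : P.obj (op T))
    (h : ∀ ⦃Y : C⦄ (f : Y ⟶ T), R f → P.map f.op s = P.map f.op s') : s = s' :=
  ((isSheaf_ty hP).isSeparated _ hR).ext (fun _ f hf => h f hf)

/-- Separatedness for one covering morphism. -/
theorem eq_of_res_eq (hP : Presheaf.IsSheaf J P) {T' T : C} {p : T' ⟶ T}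
    (hp : Sieve.generate (Presieve.singleton p) ∈ J T) (s s' : P.obj (op T)) (h : P.map p.op s = P.map p.op s') :
    s = s' := by
  refine eq_of_cover hP hp s s' ?_
  rintro Y f ⟨Z, g, q, ⟨⟩, rfl⟩
  rw [← res_comp, ← res_comp, h]

theorem cocycle_indep {T T' : C} {p : T' ⟶ T} {y : Fam P T T' 0} (hz : IsCocycle p (𝟙 T) y) {W : C} (a : W ⟶ T)
    (x x' : W ⟶ T') (hx : x ≫ p = a) (hx' : x' ≫ p = a) : y W a (fun _ => x) = y W a (fun _ => x') := by
  have h := hz a (Fin.cons x' (fun _ => x) : Fin 2 → (W ⟶ T')) (by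
    intro i
    refine Fin.cases ?_ (fun k => ?_) i
    · rw [Fin.cons_zero, hx', Category.comp_id]
    · rw [Fin.cons_succ, hx, Category.comp_id])
  rw [dS_zero_eq] at h
  exact sub_eq_zero.1 h

/-- Descent of degree zero cocycles. -/
theorem descend (hP : Presheaf.IsSheaf J P) {T' T : C} {p : T' ⟶ T}
    (hp : Sieve.generate (Presieve.singleton p) ∈ J T) {y : Fam P T T' 0} (hy : IsCoch p (𝟙 T) y)
    (hz : IsCocycle p (𝟙 T) y) :
    ∃ s : P.obj (op T), ∀ (W : C) (a : W ⟶ T) (x : W ⟶ T'), x ≫ p = a → P.map a.op s = y W a (fun _ => x) := by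
  let R : Sieve T :=
    { arrows := fun W a => ∃ x : W ⟶ T', x ≫ p = a
      downward_closed := by
        rintro W W' a ⟨x, hx⟩ f
        exact ⟨f ≫ x, by rw [Category.assoc, hx]⟩ }
  have hR : R ∈ J T := by
    refine J.superset_covering ?_ hp
    rintro W f ⟨Z, g, q, ⟨⟩, rfl⟩
    exact ⟨g, rfl⟩
  let fam : Presieve.FamilyOfElements (P ⋙ forget AddCommGrpCat.{u + 1}) R.arrows :=
    fun W a ha => y W a (fun _ => ha.choose)
  have hcomp : fam.Compatible := by
    intro Y₁ Y₂ Z g₁ g₂ f₁ f₂ h₁ h₂ h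
    have e1 : P.map g₁.op (y Y₁ f₁ (fun _ => h₁.choose)) = y Z (g₁ ≫ f₁) (fun _ => g₁ ≫ h₁.choose) :=
      hy g₁ f₁ _ (fun _ => by rw [h₁.choose_spec, Category.comp_id])
    have e2 : P.map g₂.op (y Y₂ f₂ (fun _ => h₂.choose)) = y Z (g₂ ≫ f₂) (fun _ => g₂ ≫ h₂.choose) :=
      hy g₂ f₂ _ (fun _ => by rw [h₂.choose_spec, Category.comp_id])
    change P.map g₁.op (y Y₁ f₁ (fun _ => h₁.choose)) = P.map g₂.op (y Y₂ f₂ (fun _ => h₂.choose))
    rw [e1, e2, ← h]
    apply cocycle_indep hz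
    · rw [Category.assoc, h₁.choose_spec]
    · rw [Category.assoc, h₂.choose_spec, h]
  obtain ⟨s, hs, -⟩ := (isSheaf_ty hP) R hR fam hcomp
  refine ⟨s, fun W a x hx => ?_⟩
  have ha : R a := ⟨x, hx⟩
  have h1 : P.map a.op s = y W a (fun _ => ha.choose) := hs a ha
  rw [h1]
  exact cocycle_indep hz a _ _ ha.choose_spec hx

end Sheaf

section Exact

variable {G I Q : Cᵒᵖ ⥤ AddCommGrpCat.{u + 1}} {ι : G ⟶ I} {π : I ⟶ Q}

/-- Sectionwise left exactness. -/
structure LE (ι : G ⟶ I) (π : I ⟶ Q) : Prop where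
  inj : ∀ (W : C) (s : G.obj (op W)), ι.app (op W) s = 0 → s = 0
  comp : ∀ (W : C) (s : G.obj (op W)), π.app (op W) (ι.app (op W) s) = 0
  ex : ∀ (W : C) (s : I.obj (op W)), π.app (op W) s = 0 → ∃ t : G.obj (op W), ι.app (op W) t = s

theorem LE.inj' (h : LE ι π) {W : C} {s s' : G.obj (op W)} (e : ι.app (op W) s = ι.app (op W) s') : s = s' := by
  rw [← sub_eq_zero]
  apply h.inj
  rw [map_sub, e, sub_self]

open Classical in
/-- The cochain of `G` with given image in `I`. -/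
noncomputable def pull (ι : G ⟶ I) {U T' : C} {n : ℕ} (c : Fam I U T' n) : Fam G U T' n := fun W a x =>
  if h : ∃ t : G.obj (op W), ι.app (op W) t = c W a x then h.choose else 0

theorem pull_spec (h : LE ι π) {U T' : C} {n : ℕ} (c : Fam I U T' n) {W : C} (a : W ⟶ U)
    (x : Fin (n + 1) → (W ⟶ T')) (h0 : π.app (op W) (c W a x) = 0) :
    ι.app (op W) (pull ι c W a x) = c W a x := by
  have hex := h.ex W _ h0
  rw [pull, dif_pos hex]
  exact hex.choose_spec

/-- A cochain of `I` whose image in `Q` is a cocycle can be corrected by a cochain of `G` to a cocycle. -/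
theorem correct (h : LE ι π) {T T' : C} {p : T' ⟶ T} {n : ℕ}
    (hG : ∀ (c : Fam G T T' (n + 1)), IsCoch p (𝟙 T) c → IsCocycle p (𝟙 T) c →
      ∃ b : Fam G T T' n, IsCoch p (𝟙 T) b ∧ IsCob p (𝟙 T) b c)
    (y : Fam I T T' n) (hy : IsCoch p (𝟙 T) y) (hz : IsCocycle p (𝟙 T) (mapF π y)) :
      ∃ w : Fam I T T' n, IsCoch p (𝟙 T) w ∧ IsCocycle p (𝟙 T) w ∧
        ∀ (W : C) (a : W ⟶ T) (x : Fin (n + 1) → (W ⟶ T')),
          π.app (op W) (w W a x) = π.app (op W) (y W a x) := by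
  have h0 : ∀ {W : C} (a : W ⟶ T) (x : Fin (n + 2) → (W ⟶ T')), Compat p (𝟙 T) a x →
      π.app (op W) (dF y W a x) = 0 := by
    intro W a x hx
    rw [dF, ← dS_mapF]
    exact hz a x hx
  have hzc : IsCoch p (𝟙 T) (pull ι (dF y)) := by
    intro W W' f a x hx
    apply h.inj'
    rw [pull_spec h (dF y) _ _ (h0 _ _ (hx.comp f)), ← hy.dF f a x hx, ← pull_spec h (dF y) _ _ (h0 a x hx)]
    exact nat_apply ι f _
  have hzz : IsCocycle p (𝟙 T) (pull ι (dF y)) := by
    intro W a x hx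
    apply h.inj
    rw [← dS_mapF]
    have : dS (mapF ι (pull ι (dF y)) W a) x = dS (dF y W a) x :=
      dS_congr fun i => pull_spec h (dF y) a _ (h0 a _ (hx.face i))
    rw [this]
    exact dS_dS _ _
  obtain ⟨b, hb, hbc⟩ := hG _ hzc hzz
  refine ⟨subF y (mapF ι b), hy.sub (hb.map ι), ?_, ?_⟩
  · intro W a x hx
    rw [dS_subF, dS_mapF, hbc a x hx]
    have : ι.app (op W) (pull ι (dF y) W a x) = dF y W a x := pull_spec h (dF y) a x (h0 _ _ hx)
    rw [this]
    exact sub_self _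
  · intro W a x
    change π.app (op W) (y W a x - ι.app (op W) (b W a x)) = _
    rw [map_sub, h.comp, sub_zero]

variable {J : GrothendieckTopology C}

/-- A section of `Q` over `T` which lifts to `I` over `T'` lifts over `T`, if the Čech 1-cocycles of `G` for `p` are
coboundaries. -/
theorem exists_lift_of_acy (h : LE ι π) (hI : Presheaf.IsSheaf J I) (hQ : Presheaf.IsSheaf J Q) {T T' : C}
    {p : T' ⟶ T} (hp : Sieve.generate (Presieve.singleton p) ∈ J T)
    (hG : ∀ (c : Fam G T T' 1), IsCoch p (𝟙 T) c → IsCocycle p (𝟙 T) c →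
      ∃ b : Fam G T T' 0, IsCoch p (𝟙 T) b ∧ IsCob p (𝟙 T) b c)
    (q : Q.obj (op T)) (i : I.obj (op T')) (hi : π.app (op T') i = Q.map p.op q) :
    ∃ s : I.obj (op T), π.app (op T) s = q := by
  let y : Fam I T T' 0 := fun W _ x => I.map (x 0).op i
  have hy : IsCoch p (𝟙 T) y := fun W W' f a x _ => res_comp I f (x 0) i
  have hπ : ∀ {W : C} (a : W ⟶ T) (x : Fin 1 → (W ⟶ T')), Compat p (𝟙 T) a x →
      π.app (op W) (y W a x) = Q.map a.op q := by
    intro W a x hx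
    change π.app (op W) (I.map (x 0).op i) = _
    rw [nat_apply, hi, res_comp, hx 0, Category.comp_id]
  have hz : IsCocycle p (𝟙 T) (mapF π y) := by
    intro W a x hx
    rw [dS_zero_eq, sub_eq_zero]
    exact (hπ a (fun _ => x 1) (fun _ => hx 1)).trans (hπ a (fun _ => x 0) (fun _ => hx 0)).symm
  obtain ⟨w, hw, hwz, hwπ⟩ := correct h hG y hy hz
  obtain ⟨s, hs⟩ := descend hI hp hw hwz
  refine ⟨s, eq_of_res_eq hQ hp _ _ ?_⟩
  rw [← nat_apply, hs T' p (𝟙 T') (Category.id_comp _), hwπ]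
  exact hπ p (fun _ => 𝟙 T') (fun _ => by rw [Category.id_comp, Category.comp_id])

/-- The quotient `Q` is Čech acyclic, if `G` and `I` are and sections of `Q` lift over the fibre powers. -/
theorem acy_quotient (h : LE ι π) {T T' : C} {p : T' ⟶ T} (hG : Acy G p) (hI : Acy I p)
    (hR : ∀ n : ℕ, ∃ R : Rep p (𝟙 T) n, ∀ q : Q.obj (op R.Y), ∃ s : I.obj (op R.Y), π.app (op R.Y) s = q) :
    Acy Q p := by
  intro n c hc hz
  obtain ⟨R, hR⟩ := hR (n + 1)
  obtain ⟨s, hs⟩ := hR (c R.Y R.π R.y)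
  let y : Fam I T T' (n + 1) := ofSec R s
  have hy : IsCoch p (𝟙 T) y := isCoch_ofSec R s
  have hπy : ∀ {W : C} (a : W ⟶ T) (x : Fin (n + 2) → (W ⟶ T')), Compat p (𝟙 T) a x →
      π.app (op W) (y W a x) = c W a x := by
    intro W a x hx
    change π.app (op W) (ofSec R s W a x) = _
    rw [ofSec_apply R s a x hx, nat_apply, hs, ← ofSec_apply R (c R.Y R.π R.y) a x hx, ofSec_eq R c hc _ _ hx]
  have hzy : IsCocycle p (𝟙 T) (mapF π y) := by
    intro W a x hx
    have : dS (mapF π y W a) x = dS (c W a) x := dS_congr fun i => hπy a _ (hx.face i)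
    rw [this]
    exact hz _ _ hx
  obtain ⟨w, hw, hwz, hwπ⟩ := correct h (hG (n + 1)) y hy hzy
  obtain ⟨b, hb, hbc⟩ := hI n w hw hwz
  refine ⟨mapF π b, hb.map π, fun W a x hx => ?_⟩
  rw [hbc.map π a x hx]
  change π.app (op W) (w W a x) = _
  rw [hwπ, hπy a x hx]

end Exact

end K828.Cech
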