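import Groth.Prelude.Def_AdFn
import Groth.Agent.AdFn.K869.Approx
import Groth.Agent.FunFld.K659.ResFin
import Mathlib.RingTheory.AdicCompletion.Topology
import Mathlib.RingTheory.LocalRing.ResidueField.Basic
import Mathlib.RingTheory.Henselian

/-!
# The rings `O_v` are henselian with finite residue field (helper828)
-/

set_option autoImplicit false

universe u

open Filter AdFn

namespace K828.OvHens

variable {k K : Type u} [Field k] [Field K] [Algebra k K] (v : FunFld.Place k K)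

theorem exists_unif : ∃ π : Ov v, Valued.v (π : Kv v) = WithZero.exp (-1 : ℤ) := by
  obtain ⟨x, hx⟩ := v.2.2 (WithZero.exp (-1 : ℤ))
  have h : Valued.v (toKv v x) = WithZero.exp (-1 : ℤ) := by rw [valued_toKv, hx]
  refine ⟨⟨toKv v x, ?_⟩, h⟩
  rw [mem_Ov, h, ← WithZero.exp_zero]
  exact WithZero.exp_le_exp.2 (by norm_num)

theorem lt_one_iff (z : WithZero (Multiplicative ℤ)) : z < 1 ↔ z ≤ WithZero.exp (-1 : ℤ) := by
  rw [← WithZero.lt_mul_exp_iff_le WithZero.exp_ne_zero, ← WithZero.exp_add, neg_add_cancel, WithZero.exp_zero]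

theorem isUnit_iff (y : Ov v) : IsUnit y ↔ Valued.v (y : Kv v) = 1 := by
  constructor
  · rintro ⟨u, rfl⟩
    have h1 : Valued.v ((u : Ov v) : Kv v) * Valued.v ((↑u⁻¹ : Ov v) : Kv v) = 1 := by
      rw [← map_mul]
      have : ((u : Ov v) : Kv v) * ((↑u⁻¹ : Ov v) : Kv v) = 1 := congrArg Subtype.val u.mul_inv
      rw [this, map_one]
    have h2 : Valued.v ((u : Ov v) : Kv v) ≤ 1 := (u : Ov v).2
    have h3 : Valued.v ((↑u⁻¹ : Ov v) : Kv v) ≤ 1 := (↑u⁻¹ : Ov v).2
    exact le_antisymm h2 (h1.symm.le.trans (mul_le_of_le_one_right' h3))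
  · intro h
    have hy0 : (y : Kv v) ≠ 0 := by
      intro h0
      rw [h0, map_zero] at h
      exact zero_ne_one h
    have hinv : (y : Kv v)⁻¹ ∈ Ov v := by
      rw [mem_Ov, map_inv₀, h, inv_one]
    exact IsUnit.of_mul_eq_one ⟨_, hinv⟩ (Subtype.ext (mul_inv_cancel₀ hy0))

theorem mem_max_iff (y : Ov v) : y ∈ IsLocalRing.maximalIdeal (Ov v) ↔ Valued.v (y : Kv v) < 1 := by
  rw [IsLocalRing.mem_maximalIdeal, mem_nonunits_iff, isUnit_iff]
  exact ⟨fun h => lt_of_le_of_ne y.2 h, fun h => h.ne⟩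

theorem mem_pow_iff {π : Ov v} (hπ : Valued.v (π : Kv v) = WithZero.exp (-1 : ℤ)) (n : ℕ) (x : Ov v) :
    x ∈ (IsLocalRing.maximalIdeal (Ov v)) ^ n ↔ Valued.v (x : Kv v) ≤ Valued.v ((π : Kv v) ^ n) := by
  have hπ0 : (π : Kv v) ≠ 0 := by
    intro h
    rw [h, map_zero] at hπ
    exact WithZero.exp_ne_zero hπ.symm
  have key : ∀ (n : ℕ) (y : Ov v), y ∈ Ideal.span {π ^ n} ↔ Valued.v (y : Kv v) ≤ Valued.v ((π : Kv v) ^ n) := by
    intro n y
    rw [Ideal.mem_span_singleton']
    constructor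
    · rintro ⟨a, rfl⟩
      have ha : Valued.v (a : Kv v) ≤ 1 := a.2
      have : ((a * π ^ n : Ov v) : Kv v) = a * (π : Kv v) ^ n := by
        push_cast
        rfl
      rw [this, map_mul]
      exact mul_le_of_le_one_left' ha
    · intro h
      refine ⟨⟨y / π ^ n, ?_⟩, ?_⟩
      · rw [mem_Ov, map_div₀]
        exact div_le_one_of_le₀ h zero_le
      · apply Subtype.ext
        push_cast
        exact div_mul_cancel₀ _ (pow_ne_zero _ hπ0)
  have hmax : IsLocalRing.maximalIdeal (Ov v) = Ideal.span {π} := by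
    ext y
    rw [mem_max_iff, lt_one_iff, ← hπ]
    have := key 1 y
    rw [pow_one, pow_one] at this
    exact this.symm
  rw [hmax, Ideal.span_singleton_pow]
  exact key n x

theorem isPrecomplete : IsPrecomplete (IsLocalRing.maximalIdeal (Ov v)) (Ov v) := by
  obtain ⟨π, hπ⟩ := exists_unif v
  have hπ0 : (π : Kv v) ≠ 0 := by
    intro h
    rw [h, map_zero] at hπ
    exact WithZero.exp_ne_zero hπ.symm
  refine ⟨fun f hf => ?_⟩
  have hf' : ∀ {m n : ℕ}, m ≤ n → Valued.v ((f n : Kv v) - f m) ≤ Valued.v ((π : Kv v) ^ m) := by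
    intro m n hmn
    have h1 := hf hmn
    rw [SModEq.sub_mem, smul_eq_mul, Ideal.mul_top, mem_pow_iff v hπ] at h1
    have h2 : Valued.v ((f m : Kv v) - f n) ≤ Valued.v ((π : Kv v) ^ m) := h1
    rwa [Valuation.map_sub_swap]
  have hball : ∀ (n : ℕ) (a : Kv v), IsClosed {y : Kv v | Valued.v (y - a) ≤ Valued.v ((π : Kv v) ^ n)} := by
    intro n a
    have h1 := Valued.isClosed_closedBall (Kv v) ((Valued.v : Valuation (Kv v) _).restrict ((π : Kv v) ^ n))
    have h2 := h1.preimage (continuous_sub_right a)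
    convert h2 using 1
    ext y
    simp only [Set.mem_ofPred_eq, Set.mem_preimage, Valuation.restrict_le_iff]
  have hcau : CauchySeq (fun n => (f n : Kv v)) := by
    rw [CauchySeq, Valued.cauchy_iff]
    refine ⟨inferInstance, fun γ => ?_⟩
    have hy0 : MonoidWithZeroHom.ValueGroup₀.embedding γ.1 ≠ (0 : WithZero (Multiplicative ℤ)) :=
      (_root_.map_ne_zero _).2 γ.ne_zero
    obtain ⟨N, hN⟩ := WithZero.exists_exp_neg_natCast_lt hy0
    refine ⟨(fun n => (f n : Kv v)) '' Set.Ici N, ?_, ?_⟩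
    · exact image_mem_map (Ici_mem_atTop N)
    · rintro _ ⟨a, ha, rfl⟩ _ ⟨b, hb, rfl⟩
      rw [Valuation.restrict_lt_iff_lt_embedding]
      refine lt_of_le_of_lt ?_ hN
      have e : Valued.v ((π : Kv v) ^ N) = WithZero.exp (-(N : ℤ)) := by
        rw [map_pow, hπ, ← WithZero.exp_nsmul]
        simp
      rw [← e]
      have h1 := hf' (Set.mem_Ici.1 ha)
      have h2 := hf' (Set.mem_Ici.1 hb)
      have h3 : (f b : Kv v) - f a = (f b - f N) - (f a - f N) := by ring
      rw [h3]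
      exact (Valuation.map_sub _ _ _).trans (max_le h2 h1)
  obtain ⟨L, hL⟩ := cauchySeq_tendsto_of_complete hcau
  have hLn : ∀ n, Valued.v (L - (f n : Kv v)) ≤ Valued.v ((π : Kv v) ^ n) := by
    intro n
    refine (hball n (f n)).mem_of_tendsto hL ?_
    filter_upwards [Ici_mem_atTop n] with m hm
    exact hf' hm
  have hL1 : Valued.v L ≤ (1 : WithZero (Multiplicative ℤ)) := by
    have h1 := hLn 0
    rw [pow_zero, map_one] at h1
    have h2 : L = (L - f 0) + f 0 := by ring
    rw [h2]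
    exact (Valuation.map_add _ _ _).trans (max_le h1 (f 0).2)
  refine ⟨⟨L, hL1⟩, fun n => ?_⟩
  rw [SModEq.sub_mem, smul_eq_mul, Ideal.mul_top, mem_pow_iff v hπ]
  change Valued.v ((f n : Kv v) - L) ≤ _
  rw [Valuation.map_sub_swap]
  exact hLn n

theorem isHausdorff : IsHausdorff (IsLocalRing.maximalIdeal (Ov v)) (Ov v) := by
  obtain ⟨π, hπ⟩ := exists_unif v
  refine ⟨fun x hx => ?_⟩
  apply Subtype.ext
  by_contra h0
  have hx0 : Valued.v (x : Kv v) ≠ (0 : WithZero (Multiplicative ℤ)) := (map_ne_zero _).2 h0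
  obtain ⟨N, hN⟩ := WithZero.exists_exp_neg_natCast_lt hx0
  have h1 := hx N
  rw [SModEq.zero, smul_eq_mul, Ideal.mul_top, mem_pow_iff v hπ] at h1
  have e : Valued.v ((π : Kv v) ^ N) = WithZero.exp (-(N : ℤ)) := by
    rw [map_pow, hπ, ← WithZero.exp_nsmul]
    simp
  rw [e] at h1
  exact absurd (h1.trans_lt hN) (lt_irrefl _)

theorem henselian : HenselianLocalRing (Ov v) := by
  have := isPrecomplete v
  have := isHausdorff v
  have : IsAdicComplete (IsLocalRing.maximalIdeal (Ov v)) (Ov v) := {}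
  refine ⟨fun f hf a₀ h₁ h₂ => ?_⟩
  exact HenselianRing.is_henselian (I := IsLocalRing.maximalIdeal (Ov v)) f hf a₀ h₁ (h₂.map _)

theorem finite_residueField [Finite k] {t : K} (ht : K660.Places.IsGen k K t) :
    Finite (IsLocalRing.ResidueField (Ov v)) := by
  have h1 : FiniteDimensional k (IsLocalRing.ResidueField v.O) := K659.ResFin.IsGen.finite_residueField ht v
  have h2 : Finite (IsLocalRing.ResidueField v.O) := Module.finite_of_finite k
  let φ₀ : v.O →+* Ov v := ((toKv v).comp v.O.subtype).codRestrict (Ov v).toSubring fun x => (toKv_mem_Ov v x.1).2 x.2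
  have hφ₀ : ∀ x : v.O, Valued.v (φ₀ x : Kv v) = v.1 x := fun x => valued_toKv v x.1
  let φ : v.O →+* IsLocalRing.ResidueField (Ov v) := (IsLocalRing.residue (Ov v)).comp φ₀
  have hφ : ∀ a ∈ IsLocalRing.maximalIdeal v.O, φ a = 0 := by
    intro a ha
    change IsLocalRing.residue _ _ = 0
    rw [IsLocalRing.residue_eq_zero_iff, mem_max_iff, hφ₀]
    have h3 : ¬ IsUnit a := ha
    refine lt_of_le_of_ne a.2 fun h4 => h3 ?_
    have ha0 : (a : K) ≠ 0 := by
      intro h0
      rw [h0, map_zero] at h4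
      exact zero_ne_one h4
    have hinv : (a : K)⁻¹ ∈ v.O := by
      change v.1 (a : K)⁻¹ ≤ 1
      rw [map_inv₀, h4, inv_one]
    exact IsUnit.of_mul_eq_one ⟨_, hinv⟩ (Subtype.ext (mul_inv_cancel₀ ha0))
  have hsurj : Function.Surjective φ := by
    intro x
    obtain ⟨x, rfl⟩ := IsLocalRing.residue_surjective x
    obtain ⟨y, hy⟩ : ∃ y : K, Valued.v (toKv v y - x) < (1 : WithZero (Multiplicative ℤ)) := by
      have hd : DenseRange ((↑) : WithVal v.1 → v.1.Completion) := UniformSpace.Completion.denseRange_coe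
      have h2 : IsOpen {y : Kv v | Valued.v (y - (x : Kv v)) < (1 : WithZero (Multiplicative ℤ))} := by
        have h1 := Valued.isOpen_ball (Kv v) ((Valued.v : Valuation (Kv v) _).restrict 1)
        have h2 := h1.preimage (continuous_sub_right (x : Kv v))
        convert h2 using 1
        ext y
        simp only [Set.mem_ofPred_eq, Set.mem_preimage, map_one, Valuation.restrict_lt_one_iff]
      obtain ⟨y, hy⟩ := hd.exists_mem_open h2 ⟨x, by simp⟩
      exact ⟨WithVal.ofVal y, hy⟩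
    have hy1 : v.1 y ≤ 1 := by
      rw [← valued_toKv]
      have h2 : toKv v y = (toKv v y - x) + x := by ring
      rw [h2]
      exact (Valuation.map_add _ _ _).trans (max_le hy.le x.2)
    refine ⟨⟨y, hy1⟩, ?_⟩
    change IsLocalRing.residue _ _ = _
    rw [← sub_eq_zero, ← map_sub, IsLocalRing.residue_eq_zero_iff, mem_max_iff]
    exact hy
  let ψ : IsLocalRing.ResidueField v.O →+* IsLocalRing.ResidueField (Ov v) := Ideal.Quotient.lift _ φ hφ
  refine Finite.of_surjective ψ ?_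
  intro y
  obtain ⟨x, hx⟩ := hsurj y
  exact ⟨IsLocalRing.residue _ x, hx⟩

end K828.OvHens
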