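import Groth.Prelude.Def_BigSite
import Mathlib.CategoryTheory.Sites.LocallySurjective
import Mathlib.CategoryTheory.Sites.EpiMono
import Mathlib.CategoryTheory.Preadditive.Injective.Basic

/-!
# Cohomology theories on a big site, abstractly (helper828)

`CohT K S` records the formal properties of `T, F, n ↦ BigSite.HU K F n T`: restriction maps, functoriality in the
sheaf, connecting maps, long exact sequences, degree zero, vanishing on injectives.  All formal arguments (Cartan's
criterion, limits, ...) are done for an arbitrary `CohT`, so that the kernel never unfolds `BigSite.HU`.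
-/

set_option autoImplicit false

universe u

open CategoryTheory CategoryTheory.Limits AlgebraicGeometry Opposite

namespace K828

/-- The formal properties of the cohomology of abelian sheaves on the big site of `S`. -/
structure CohT (K : Precoverage Scheme.{u}) (S : Scheme.{u}) where
  H : BigSite.Ab K S → ℕ → Over S → Type (u + 1)
  grp : ∀ F n T, AddCommGroup (H F n T)
  res : ∀ {F : BigSite.Ab K S} {n : ℕ} {T T' : Over S} (_ : T' ⟶ T), H F n T →+ H F n T'
  res_id : ∀ {F : BigSite.Ab K S} {n : ℕ} {T : Over S} (x : H F n T), res (𝟙 T) x = x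
  res_comp : ∀ {F : BigSite.Ab K S} {n : ℕ} {T T' T'' : Over S} (g : T' ⟶ T) (g' : T'' ⟶ T') (x : H F n T),
    res (g' ≫ g) x = res g' (res g x)
  map : ∀ {F G : BigSite.Ab K S} {n : ℕ} {T : Over S} (_ : F ⟶ G), H F n T →+ H G n T
  map_id : ∀ {F : BigSite.Ab K S} {n : ℕ} {T : Over S} (x : H F n T), map (𝟙 F) x = x
  map_comp : ∀ {F G L : BigSite.Ab K S} {n : ℕ} {T : Over S} (φ : F ⟶ G) (ψ : G ⟶ L) (x : H F n T),
    map (φ ≫ ψ) x = map ψ (map φ x)
  map_res : ∀ {F G : BigSite.Ab K S} {n : ℕ} {T T' : Over S} (φ : F ⟶ G) (g : T' ⟶ T) (x : H F n T),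
    map φ (res g x) = res g (map φ x)
  del : ∀ {A : ShortComplex (BigSite.Ab K S)} (_ : A.ShortExact) {n : ℕ} {T : Over S},
    H A.X₃ n T →+ H A.X₁ (n + 1) T
  del_res : ∀ {A : ShortComplex (BigSite.Ab K S)} (hA : A.ShortExact) {n : ℕ} {T T' : Over S} (g : T' ⟶ T)
    (x : H A.X₃ n T), del hA (res g x) = res g (del hA x)
  del_nat : ∀ {A A' : ShortComplex (BigSite.Ab K S)} (hA : A.ShortExact) (hA' : A'.ShortExact) (φ : A ⟶ A')
    {n : ℕ} {T : Over S} (x : H A.X₃ n T), del hA' (map φ.τ₃ x) = map φ.τ₁ (del hA x)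
  map_map : ∀ {A : ShortComplex (BigSite.Ab K S)} {n : ℕ} {T : Over S} (x : H A.X₁ n T),
    map A.g (map A.f x) = 0
  del_map : ∀ {A : ShortComplex (BigSite.Ab K S)} (hA : A.ShortExact) {n : ℕ} {T : Over S} (x : H A.X₂ n T),
    del hA (map A.g x) = 0
  map_del : ∀ {A : ShortComplex (BigSite.Ab K S)} (hA : A.ShortExact) {n : ℕ} {T : Over S} (x : H A.X₃ n T),
    map A.f (del hA x) = 0
  exact₁ : ∀ {A : ShortComplex (BigSite.Ab K S)} (hA : A.ShortExact) {n : ℕ} {T : Over S} (x : H A.X₁ (n + 1) T),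
    map A.f x = 0 → ∃ y, del hA y = x
  exact₂ : ∀ {A : ShortComplex (BigSite.Ab K S)} (_ : A.ShortExact) {n : ℕ} {T : Over S} (x : H A.X₂ n T),
    map A.g x = 0 → ∃ y, map A.f y = x
  exact₃ : ∀ {A : ShortComplex (BigSite.Ab K S)} (hA : A.ShortExact) {n : ℕ} {T : Over S} (x : H A.X₃ n T),
    del hA x = 0 → ∃ y, map A.g y = x
  sec : ∀ {F : BigSite.Ab K S} {T : Over S}, H F 0 T ≃+ F.obj.obj (op T)
  sec_res : ∀ {F : BigSite.Ab K S} {T T' : Over S} (g : T' ⟶ T) (x : H F 0 T),
    sec (res g x) = F.obj.map g.op (sec x)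
  sec_map : ∀ {F G : BigSite.Ab K S} {T : Over S} (φ : F ⟶ G) (x : H F 0 T), sec (map φ x) = φ.hom.app (op T) (sec x)
  inj : ∀ (I : BigSite.Ab K S) [Injective I] {n : ℕ} {T : Over S} (x : H I (n + 1) T), x = 0

attribute [instance] CohT.grp

namespace CohT

variable {K : Precoverage Scheme.{u}} {S : Scheme.{u}} (𝓗 : CohT K S)

/-- An embedding into an injective sheaf, with the quotient. -/
theorem exists_injective_embedding (F : BigSite.Ab K S) :
    ∃ A : ShortComplex (BigSite.Ab K S), A.ShortExact ∧ A.X₁ = F ∧ Injective A.X₂ :=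
  ⟨ShortComplex.mk (Injective.ι F) (cokernel.π (Injective.ι F)) (cokernel.condition _),
    { exact := ShortComplex.exact_cokernel _
      mono_f := inferInstanceAs (Mono (Injective.ι F))
      epi_g := inferInstanceAs (Epi (cokernel.π (Injective.ι F))) }, rfl, inferInstanceAs (Injective (Injective.under F))⟩

section

variable {A : ShortComplex (BigSite.Ab K S)} (hA : A.ShortExact)

include hA in
/-- Sections of the quotient lift locally. -/
theorem exists_lift {T : Over S} (q : A.X₃.obj.obj (op T)) :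
    ∃ R ∈ QuotSh.J K S T, ∀ ⦃Y : Over S⦄ (f : Y ⟶ T), R f →
      ∃ a : A.X₂.obj.obj (op Y), A.g.hom.app (op Y) a = A.X₃.obj.map f.op q := by
  have := hA.epi_g
  have h : Sheaf.IsLocallySurjective A.g := (Sheaf.isLocallySurjective_iff_epi' _ A.g).mpr inferInstance
  exact ⟨_, Presheaf.imageSieve_mem (QuotSh.J K S) A.g.hom q, fun Y f hf => hf⟩

include hA in
/-- Degree one classes of the kernel are connecting images of sections, if the middle term is injective. -/
theorem exists_del [Injective A.X₂] {n : ℕ} {T : Over S} (x : 𝓗.H A.X₁ (n + 1) T) :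
    ∃ y : 𝓗.H A.X₃ n T, 𝓗.del hA y = x := 𝓗.exact₁ hA x (𝓗.inj A.X₂ _)

/-- Every class of positive degree dies on a covering. -/
theorem exists_cover_res_eq_zero (n : ℕ) : ∀ (F : BigSite.Ab K S) {T : Over S} (x : 𝓗.H F (n + 1) T),
    ∃ R ∈ QuotSh.J K S T, ∀ ⦃Y : Over S⦄ (f : Y ⟶ T), R f → 𝓗.res f x = 0 := by
  induction n with
  | zero =>
    intro F T x
    obtain ⟨A, hA, rfl, hI⟩ := exists_injective_embedding F
    obtain ⟨y, rfl⟩ := 𝓗.exists_del hA x
    obtain ⟨R, hR, h⟩ := exists_lift hA (𝓗.sec y)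
    refine ⟨R, hR, fun Y f hf => ?_⟩
    obtain ⟨a, ha⟩ := h f hf
    rw [← 𝓗.del_res, show 𝓗.res f y = 𝓗.map A.g (𝓗.sec.symm a) from ?_, 𝓗.del_map]
    apply 𝓗.sec.injective
    rw [𝓗.sec_res, 𝓗.sec_map, AddEquiv.apply_symm_apply, ha]
  | succ n ih =>
    intro F T x
    obtain ⟨A, hA, rfl, hI⟩ := exists_injective_embedding F
    obtain ⟨y, rfl⟩ := 𝓗.exists_del hA x
    obtain ⟨R, hR, h⟩ := ih A.X₃ y
    refine ⟨R, hR, fun Y f hf => ?_⟩
    rw [← 𝓗.del_res, h f hf, map_zero]

end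

end CohT

end K828
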