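import Groth.Prelude.Def_HRes
import Mathlib.CategoryTheory.Abelian.GrothendieckAxioms.Basic
import Mathlib.CategoryTheory.Limits.Final
import Mathlib.CategoryTheory.Preadditive.Injective.Basic
import Mathlib.Algebra.Category.Grp.AB

/-!
# Restriction to a localised big site preserves injective sheaves (helper828)
-/

set_option autoImplicit false

universe u

open CategoryTheory CategoryTheory.Limits AlgebraicGeometry Opposite

namespace K828.Inj

variable {S T : Scheme.{u}} (f : T ⟶ S) (V : Over S)

/-- The lifts of an `S`-scheme to a `T`-scheme. -/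
def Lf : Type u := {s : V.left ⟶ T // s ≫ f = V.hom}

/-- The distinguished costructured arrows. -/
def incl : Discrete (Lf f V) ⥤ CostructuredArrow (Over.map f).op (op V) :=
  Discrete.functor (fun s => CostructuredArrow.mk (S := (Over.map f).op)
    (Y := op (Over.mk s.1)) (Quiver.Hom.op (Over.homMk (U := V) (V := (Over.map f).obj (Over.mk s.1)) (𝟙 V.left)
      (by simpa using s.2))))

lemma hom_left_eq (d : CostructuredArrow (Over.map f).op (op V)) (s : Lf f V)
    (g : d ⟶ (incl f V).obj ⟨s⟩) : g.left.unop.left = d.hom.unop.left := by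
  have h := congrArg CommaMorphism.left (congrArg Quiver.Hom.unop (CostructuredArrow.w g))
  refine Eq.trans ?_ h
  exact (Category.id_comp _).symm

lemma eq_comp (d : CostructuredArrow (Over.map f).op (op V)) (s : Lf f V)
    (g : d ⟶ (incl f V).obj ⟨s⟩) : s.1 = d.hom.unop.left ≫ d.left.unop.hom := by
  rw [← hom_left_eq f V d s g]
  exact (Over.w g.left.unop).symm

/-- The lift defined by a costructured arrow. -/
def pt (d : CostructuredArrow (Over.map f).op (op V)) : Lf f V :=
  ⟨d.hom.unop.left ≫ d.left.unop.hom, by
    have := Over.w d.hom.unop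
    rw [Category.assoc]
    exact this⟩

/-- The distinguished morphism. -/
def ptHom (d : CostructuredArrow (Over.map f).op (op V)) :
    d ⟶ (incl f V).obj ⟨pt f V d⟩ :=
  CostructuredArrow.homMk (Quiver.Hom.op (Over.homMk (U := Over.mk (pt f V d).1) (V := d.left.unop)
    d.hom.unop.left rfl)) (by
      apply Quiver.Hom.unop_inj
      apply Over.OverMorphism.ext
      exact Category.id_comp _)

lemma hom_ext' (d : CostructuredArrow (Over.map f).op (op V)) (s : Lf f V)
    (g g' : d ⟶ (incl f V).obj ⟨s⟩) : g = g' := by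
  apply CostructuredArrow.hom_ext
  apply Quiver.Hom.unop_inj
  apply Over.OverMorphism.ext
  rw [hom_left_eq f V d s g, hom_left_eq f V d s g']

instance : (incl f V).Final where
  out d := by
    have : Nonempty (StructuredArrow d (incl f V)) := ⟨StructuredArrow.mk (ptHom f V d)⟩
    refine zigzag_isConnected ?_
    intro X Y
    obtain ⟨⟨⟨⟩⟩, ⟨s⟩, g⟩ := X
    obtain ⟨⟨⟨⟩⟩, ⟨s'⟩, g'⟩ := Y
    obtain rfl : s = s' := Subtype.ext ((eq_comp f V d s g).trans (eq_comp f V d s' g').symm)
    obtain rfl := hom_ext' f V d _ g g'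
    exact Relation.ReflTransGen.refl

theorem hasExact : HasExactColimitsOfShape (CostructuredArrow (Over.map f).op (op V)) AddCommGrpCat.{u + 1} := by
  have : AB4OfSize.{u} AddCommGrpCat.{u + 1} := AB4OfSize_shrink.{u, u + 1} AddCommGrpCat.{u + 1}
  exact hasExactColimitsOfShape_of_final AddCommGrpCat.{u + 1} (incl f V)

section

variable {C : Type*} [Category C] {D : Type*} [Category D] (E : Type*) [Category E]

set_option backward.defeqAttrib.useBackward true in
set_option backward.isDefEq.respectTransparency false in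
/-- The evaluation of `F.lan` at `X` is the colimit over the costructured arrows over `X`
(no restriction on universes). -/
noncomputable def lanEvalIso (F : C ⥤ D) (X : D) [∀ X : D, HasColimitsOfShape (CostructuredArrow F X) E] :
    F.lan ⋙ (evaluation D E).obj X ≅
      (Functor.whiskeringLeft _ _ E).obj (CostructuredArrow.proj F X) ⋙ colim :=
  NatIso.ofComponents (fun G =>
    IsColimit.coconePointUniqueUpToIso
    (Functor.isPointwiseLeftKanExtensionLeftKanExtensionUnit F G X)
    (colimit.isColimit _)) (fun {G₁ G₂} φ => by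
      apply (Functor.isPointwiseLeftKanExtensionLeftKanExtensionUnit F G₁ X).hom_ext
      intro T
      have h₁ := fun (G : C ⥤ E) => IsColimit.comp_coconePointUniqueUpToIso_hom
        (Functor.isPointwiseLeftKanExtensionLeftKanExtensionUnit F G X) (colimit.isColimit _) T
      have h₂ := congr_app (F.lanUnit.naturality φ) T.left
      dsimp at h₁ h₂ ⊢
      simp only [Category.assoc] at h₁ ⊢
      simp only [Functor.lan, Functor.lanUnit] at h₂ ⊢
      rw [reassoc_of% h₁, NatTrans.naturality_assoc, ← reassoc_of% h₂, h₁,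
        ι_colimMap, Functor.whiskerLeft_app]
      rfl)

end

theorem preservesFiniteLimits_lan : PreservesFiniteLimits
    ((Over.map f).op.lan : _ ⥤ (Over S)ᵒᵖ ⥤ AddCommGrpCat.{u + 1}) := by
  constructor
  intro J _ _
  apply preservesLimitsOfShape_of_evaluation ((Over.map f).op.lan :
    ((Over T)ᵒᵖ ⥤ AddCommGrpCat.{u + 1}) ⥤ (Over S)ᵒᵖ ⥤ AddCommGrpCat.{u + 1}) J
  intro K
  have h1 : HasExactColimitsOfShape (CostructuredArrow (Over.map f).op K) AddCommGrpCat.{u + 1} :=
    hasExact f K.unop
  have h2 : PreservesFiniteLimits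
      (colim : (CostructuredArrow (Over.map f).op K ⥤ AddCommGrpCat.{u + 1}) ⥤ _) :=
    h1.preservesFiniteLimits
  exact preservesLimitsOfShape_of_natIso
    (lanEvalIso AddCommGrpCat.{u + 1} (Over.map f).op K).symm

variable (K : Precoverage Scheme.{u})

/-- `f_big!` is exact. -/
theorem exists_leftAdjoint :
    ∃ (L : BigSite.Ab K T ⥤ BigSite.Ab K S),
      Nonempty (L ⊣ BigSite.pullBig K f AddCommGrpCat.{u + 1}) ∧ PreservesFiniteLimits L :=
  ⟨Functor.sheafPullbackConstruction.sheafPullback (Over.map f) AddCommGrpCat.{u + 1} (QuotSh.J K T) (QuotSh.J K S),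
    ⟨Functor.sheafPullbackConstruction.sheafAdjunctionContinuous _ _ _ _⟩, by
      have := preservesFiniteLimits_lan f
      have : PreservesFiniteLimits ((Over.map f).op.lan ⋙ presheafToSheaf (QuotSh.J K S) AddCommGrpCat.{u + 1}) :=
        comp_preservesFiniteLimits _ _
      apply comp_preservesFiniteLimits⟩

/-- `f_big⁻¹` preserves injective objects. -/
theorem injective_pullBig (I : BigSite.Ab K S) [Injective I] :
    Injective ((BigSite.pullBig K f AddCommGrpCat.{u + 1}).obj I) := by
  obtain ⟨L, ⟨adj⟩, hL⟩ := exists_leftAdjoint f K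
  exact Injective.injective_of_adjoint adj I

end K828.Inj
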