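import Groth.Agent.TateGlob.K828.Kit
import Groth.Agent.TateGlob.K828.Inj
import Groth.Agent.TateGlob.K828.Coh
import Groth.Agent.TateGlob.K827.Deg0b
import Mathlib.CategoryTheory.Abelian.Injective.Ext

/-!
# The cohomology theory `BigSite.HU` on a big site (helper828)
-/

set_option autoImplicit false
set_option linter.unusedVariables false

universe u

open CategoryTheory CategoryTheory.Limits AlgebraicGeometry Opposite

namespace K828.BigCoh

open K828.Kit

variable {K : Precoverage Scheme.{u}} {S : Scheme.{u}}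

/-- Injective sheaves have no higher cohomology. -/
theorem eq_zero_of_injective (I : BigSite.Ab K S) [Injective I] {n : ℕ} {T : Over S} (x : BigSite.HU K I (n + 1) T) :
    x = 0 := by
  have := K828.Inj.injective_pullBig T.hom K I
  exact Abelian.Ext.eq_zero_of_injective x

theorem resHU_id (n : ℕ) : ∀ (F : BigSite.Ab K S) {T : Over S} (x : BigSite.HU K F n T),
    HRes.resHU K F n (𝟙 T) x = x := by
  induction n with
  | zero =>
    intro F T x
    apply (K827.Deg0.hu0 K F T).injective
    rw [K827.Deg0b.hu0_resHU, op_id, F.obj.map_id]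
    rfl
  | succ n ih =>
    intro F T x
    obtain ⟨A, hA, rfl, hI⟩ := CohT.exists_injective_embedding F
    obtain ⟨y, rfl⟩ := exactHU₁ hA n x (eq_zero_of_injective A.X₂ _)
    rw [resHU_del hA n (𝟙 T) y, ih A.X₃ y]

theorem resHU_comp (n : ℕ) : ∀ (F : BigSite.Ab K S) {T T' T'' : Over S} (g : T' ⟶ T) (g' : T'' ⟶ T')
    (x : BigSite.HU K F n T),
    HRes.resHU K F n (g' ≫ g) x = HRes.resHU K F n g' (HRes.resHU K F n g x) := by
  induction n with
  | zero =>
    intro F T T' T'' g g' x
    apply (K827.Deg0.hu0 K F T'').injective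
    rw [K827.Deg0b.hu0_resHU, K827.Deg0b.hu0_resHU, K827.Deg0b.hu0_resHU, op_comp, F.obj.map_comp]
    rfl
  | succ n ih =>
    intro F T T' T'' g g' x
    obtain ⟨A, hA, rfl, hI⟩ := CohT.exists_injective_embedding F
    obtain ⟨y, rfl⟩ := exactHU₁ hA n x (eq_zero_of_injective A.X₂ _)
    rw [resHU_del hA n g y, resHU_del hA n (g' ≫ g) y, resHU_del hA n g' _, ih A.X₃ g g' y]

theorem delHU_naturality {A A' : ShortComplex (BigSite.Ab K S)} (hA : A.ShortExact) (hA' : A'.ShortExact)
    (φ : A ⟶ A') (n : ℕ) {T : Over S} (x : BigSite.HU K A.X₃ n T) :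
    delHU hA' n T (mapHU φ.τ₃ n T x) = mapHU φ.τ₁ (n + 1) T (delHU hA n T x) :=
  (map_del_naturality (pull_shortExact T.hom hA) (pull_shortExact T.hom hA')
    ((BigSite.pullBig K T.hom AddCommGrpCat.{u + 1}).mapShortComplex.map φ) n x).symm

/-- The cohomology theory `BigSite.HU` with the restriction maps `HRes.resHU`. -/
noncomputable def bigCoh (K : Precoverage Scheme.{u}) (S : Scheme.{u}) : CohT K S where
  H F n T := BigSite.HU K F n T
  grp F n T := inferInstance
  res {F n T T'} g := HRes.resHU K F n g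
  res_id {F n T} x := resHU_id n F x
  res_comp {F n T T' T''} g g' x := resHU_comp n F g g' x
  map {F G n T} φ := mapHU φ n T
  map_id {F n T} x := mapHU_id n x
  map_comp {F G L n T} φ ψ x := mapHU_comp φ ψ n x
  map_res {F G n T T'} φ g x := (resHU_map φ n g x).symm
  del {A} hA {n T} := delHU hA n T
  del_res {A} hA {n T T'} g x := (resHU_del hA n g x).symm
  del_nat {A A'} hA hA' φ {n T} x := delHU_naturality hA hA' φ n x
  map_map {A n T} x := mapHU_map n x
  del_map {A} hA {n T} x := delHU_map hA n x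
  map_del {A} hA {n T} x := mapHU_del hA n x
  exact₁ {A} hA {n T} x hx := exactHU₁ hA n x hx
  exact₂ {A} hA {n T} x hx := exactHU₂ hA n x hx
  exact₃ {A} hA {n T} x hx := exactHU₃ hA n x hx
  sec {F T} := K827.Deg0.hu0 K F T
  sec_res {F T T'} g x := K827.Deg0b.hu0_resHU K F g x
  sec_map {F G T} φ x := K827.Deg0b.hu0_map K φ T x
  inj I _ {n T} x := eq_zero_of_injective I x

end K828.BigCoh
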