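import Groth.Agent.TateGlob.K828.Cartan

/-!
# Cohomology classes on a disjoint union (helper828)
-/

set_option autoImplicit false

universe u

open CategoryTheory CategoryTheory.Limits AlgebraicGeometry Opposite
open K828.Cech K828.Cartan

namespace K828.DisjVan

variable {K : Precoverage Scheme.{u}} {S : Scheme.{u}}

/-- A class which dies on the pieces of a disjoint union is zero. -/
theorem eq_zero (𝓗 : CohT K S) {ι : Type u} {W : ι → Over S} {Z : Over S} {w : ∀ i, W i ⟶ Z} (h : IsDisj K w) (n : ℕ) :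
    ∀ (F : BigSite.Ab K S) (x : 𝓗.H F n Z), (∀ i, 𝓗.res (w i) x = 0) → x = 0 := by
  induction n with
  | zero =>
    intro F x hx
    apply 𝓗.sec.injective
    apply (h F).1
    funext i
    change F.obj.map (w i).op (𝓗.sec x) = F.obj.map (w i).op (𝓗.sec 0)
    rw [← 𝓗.sec_res, hx, ← 𝓗.sec_res]
    simp only [map_zero]
  | succ n ih =>
    intro F x hx
    obtain ⟨A, hA, rfl, hI⟩ := CohT.exists_injective_embedding F
    obtain ⟨y, rfl⟩ := 𝓗.exists_del hA x
    choose z hz using fun i => 𝓗.exact₃ hA (𝓗.res (w i) y) (by rw [𝓗.del_res, hx])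
    cases n with
    | zero =>
      obtain ⟨t, ht⟩ := (h A.X₂).2 (fun i => 𝓗.sec (z i))
      rw [show y = 𝓗.map A.g (𝓗.sec.symm t) from ?_, 𝓗.del_map]
      apply 𝓗.sec.injective
      apply (h A.X₃).1
      funext i
      have ht' : A.X₂.obj.map (w i).op t = 𝓗.sec (z i) := congrFun ht i
      change A.X₃.obj.map (w i).op (𝓗.sec y) = A.X₃.obj.map (w i).op (𝓗.sec (𝓗.map A.g (𝓗.sec.symm t)))
      rw [𝓗.sec_map, AddEquiv.apply_symm_apply, ← nat_apply, ht', ← 𝓗.sec_map, hz, 𝓗.sec_res]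
    | succ n =>
      rw [ih A.X₃ y fun i => by rw [← hz, 𝓗.inj A.X₂ (z i), map_zero], map_zero]

/-- Classes on the pieces of a finite disjoint union glue. -/
theorem exists_glue (𝓗 : CohT K S) {ι : Type u} {W : ι → Over S} {Z : Over S} {w : ∀ i, W i ⟶ Z}
    (h : IsDisj K w) (n : ℕ) :
    ∀ (F : BigSite.Ab K S) (x : ∀ i, 𝓗.H F n (W i)), ∃ y : 𝓗.H F n Z, ∀ i, 𝓗.res (w i) y = x i := by
  induction n with
  | zero =>
    intro F x
    obtain ⟨t, ht⟩ := (h F).2 (fun i => 𝓗.sec (x i))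
    refine ⟨𝓗.sec.symm t, fun i => ?_⟩
    apply 𝓗.sec.injective
    rw [𝓗.sec_res, AddEquiv.apply_symm_apply]
    exact congrFun ht i
  | succ n ih =>
    intro F x
    obtain ⟨A, hA, rfl, hI⟩ := CohT.exists_injective_embedding F
    choose y hy using fun i => 𝓗.exists_del hA (x i)
    obtain ⟨z, hz⟩ := ih A.X₃ y
    exact ⟨𝓗.del hA z, fun i => by rw [← 𝓗.del_res, hz, hy]⟩

end K828.DisjVan
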