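import Groth.Agent.TateGlob.K828.Coh
import Groth.Agent.Etrest.FppfMain3

/-!
# Étale-local vanishing of fppf classes (helper828)

If `CA F.obj` (étale-local Čech acyclicity, e.g. `F` the sheaf of points of a smooth commutative group scheme, see
`K731.SmAlg.ca_pts`), then every fppf cohomology class of `F` of positive degree dies étale-locally.
-/

set_option autoImplicit false

universe u

open CategoryTheory CategoryTheory.Limits AlgebraicGeometry Opposite
open Groth.Agent.Etrest.FppfMain Groth.Agent.Etrest.FppfLoc Groth.Agent.Etrest.BigEtSite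

namespace K828.EtDie

variable {X : Scheme.{u}}

theorem ca_step {A : ShortComplex (BigSite.Ab Scheme.fppfPrecoverage X)} (hA : A.ShortExact) [Injective A.X₂]
    (h : CA A.X₁.obj) : CA A.X₃.obj ∧ LocSurj A.g.hom := by
  have hL := leftExact_of_shortExact (X := X) hA
  have hπ : Presheaf.IsLocallySurjective (EtFppf.J X) A.g.hom := by
    have := hA.epi_g
    exact (Sheaf.isLocallySurjective_iff_epi' (φ := A.g)).2 this
  have hs := locSurj hL h A.X₂.property A.X₃.property hπ
  have := injective_obj (X := X) A.X₂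
  exact ⟨ca_quotient hL h (fun E => Presieve.isSheaf_of_le _ (JE_le_J X) (A.X₂.property E))
    (fun E => Presieve.isSheaf_of_le _ (JE_le_J X) (A.X₃.property E)) hs, hs⟩

/-- Classes die étale-locally. -/
theorem exists_etale_res_eq_zero (𝓗 : CohT Scheme.fppfPrecoverage X) (n : ℕ) :
    ∀ (F : BigSite.Ab Scheme.fppfPrecoverage X), CA F.obj → ∀ {T : Over X} (x : 𝓗.H F (n + 1) T) (t : T.left),
      ∃ (V : Over X) (g : V ⟶ T), Etale g.left ∧ t ∈ Set.range g.left ∧ 𝓗.res g x = 0 := by
  induction n with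
  | zero =>
    intro F hF T x t
    obtain ⟨A, hA, rfl, hI⟩ := CohT.exists_injective_embedding F
    obtain ⟨y, rfl⟩ := 𝓗.exists_del hA x
    obtain ⟨V, g, hg, ht, s, hs⟩ := (ca_step hA hF).2 T (𝓗.sec y) t
    refine ⟨V, g, hg, ht, ?_⟩
    rw [← 𝓗.del_res, show 𝓗.res g y = 𝓗.map A.g (𝓗.sec.symm s) from ?_, 𝓗.del_map]
    apply 𝓗.sec.injective
    rw [𝓗.sec_res, 𝓗.sec_map, AddEquiv.apply_symm_apply, hs]
  | succ n ih =>
    intro F hF T x t
    obtain ⟨A, hA, rfl, hI⟩ := CohT.exists_injective_embedding F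
    obtain ⟨y, rfl⟩ := 𝓗.exists_del hA x
    obtain ⟨V, g, hg, ht, h⟩ := ih A.X₃ (ca_step hA hF).1 y t
    exact ⟨V, g, hg, ht, by rw [← 𝓗.del_res, h, map_zero]⟩

end K828.EtDie
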