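import Groth.Agent.TateGlob.K828.Coh
import Groth.Agent.TateGlob.K828.Cech
import Groth.Agent.CGrpSh.K731.Basic
import Groth.Agent.CohtopA.CechInj

/-!
# Cartan's criterion on a big site (helper828)
-/

set_option autoImplicit false

universe u

open CategoryTheory CategoryTheory.Limits AlgebraicGeometry Opposite
open Groth.Agent.Etrest.FppfCoch K828.Cech

namespace K828.Cartan

variable {K : Precoverage Scheme.{u}} {S : Scheme.{u}}

/-- Sectionwise left exactness of a short exact sequence of sheaves. -/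
theorem le_of_shortExact {A : ShortComplex (BigSite.Ab K S)} (hA : A.ShortExact) : LE A.f.hom A.g.hom := by
  have := hA.mono_f
  constructor
  · intro W s hs
    apply K731.Basic.injective_of_mono A.f
    rw [hs]
    exact (map_zero _).symm
  · intro W s
    change (A.f ≫ A.g).hom.app (op W) s = 0
    rw [A.zero]
    rfl
  · intro W s hs
    exact K731.Basic.exists_of_exact_of_mono A hA.exact s hs

/-- Čech acyclicity of injective sheaves. -/
theorem acy_of_injective (I : BigSite.Ab K S) [Injective I] {T' T : Over S} (p : T' ⟶ T) : Acy I.obj p := by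
  have : Injective I.obj := Groth.Agent.CohtopA.CechInj.injective_presheaf_of_injective_sheaf I
  exact fun _ c hc hz => exists_cob_of_injective c hc hz

/-- The family `w` is a disjoint union decomposition as seen by all sheaves. -/
def IsDisj (K : Precoverage Scheme.{u}) {ι : Type u} {W : ι → Over S} {T' : Over S} (w : ∀ i, W i ⟶ T') : Prop :=
  ∀ F : BigSite.Ab K S, Function.Bijective
    (fun (t : F.obj.obj (op T')) (i : ι) => (F.obj.map (w i).op t : F.obj.obj (op (W i))))

/-- A class of objects and a class of coverings as in Cartan's criterion. -/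
structure IsGood (K : Precoverage Scheme.{u}) (𝒞 : ObjectProperty (Over S)) (Φ : MorphismProperty (Over S)) : Prop where
  rep : ∀ {T' T : Over S} (p : T' ⟶ T), 𝒞 T → Φ p → ∀ n, ∃ R : Rep p (𝟙 T) n, 𝒞 R.Y
  cov : ∀ {T' T : Over S} (p : T' ⟶ T), 𝒞 T → Φ p → Sieve.generate (Presieve.singleton p) ∈ QuotSh.J K S T
  refine : ∀ {T : Over S}, 𝒞 T → ∀ R ∈ QuotSh.J K S T, ∃ (T' : Over S) (p : T' ⟶ T), Φ p ∧
    ∃ (ι : Type u) (W : ι → Over S) (w : ∀ i, W i ⟶ T'), IsDisj K w ∧ ∀ i, R (w i ≫ p)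

variable {𝒞 : ObjectProperty (Over S)} {Φ : MorphismProperty (Over S)} (h : IsGood K 𝒞 Φ)

include h in
/-- Surjectivity on sections. -/
theorem exists_section_lift {A : ShortComplex (BigSite.Ab K S)} (hA : A.ShortExact)
    (hG : ∀ {T' T : Over S} (p : T' ⟶ T), 𝒞 T → Φ p → Acy A.X₁.obj p) {T : Over S} (hT : 𝒞 T)
    (q : A.X₃.obj.obj (op T)) : ∃ s : A.X₂.obj.obj (op T), A.g.hom.app (op T) s = q := by
  obtain ⟨R, hR, hR'⟩ := CohT.exists_lift hA q
  obtain ⟨T', p, hp, ι, W, w, hw, hpR⟩ := h.refine hT R hR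
  choose s hs using fun i => hR' _ (hpR i)
  obtain ⟨i, hi⟩ := (hw A.X₂).2 s
  refine exists_lift_of_acy (le_of_shortExact hA) A.X₂.property A.X₃.property (h.cov p hT hp)
    (fun c hc hz => hG p hT hp 0 c hc hz) q i ?_
  apply (hw A.X₃).1
  funext j
  have hij : A.X₂.obj.map (w j).op i = s j := congrFun hi j
  change A.X₃.obj.map (w j).op (A.g.hom.app (op T') i) = A.X₃.obj.map (w j).op (A.X₃.obj.map p.op q)
  rw [← nat_apply, hij, hs, res_comp]

include h in
/-- The quotient of an injective sheaf by an acyclic one is acyclic. -/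
theorem acy_quotient_sheaf {A : ShortComplex (BigSite.Ab K S)} (hA : A.ShortExact)
    (hI : ∀ {T' T : Over S} (p : T' ⟶ T), 𝒞 T → Φ p → Acy A.X₂.obj p)
    (hG : ∀ {T' T : Over S} (p : T' ⟶ T), 𝒞 T → Φ p → Acy A.X₁.obj p) {T' T : Over S} (p : T' ⟶ T) (hT : 𝒞 T)
    (hp : Φ p) : Acy A.X₃.obj p :=
  acy_quotient (le_of_shortExact hA) (hG p hT hp) (hI p hT hp) (fun n => by
    obtain ⟨R, hR⟩ := h.rep p hT hp n
    exact ⟨R, fun q => exists_section_lift h hA hG hR q⟩)

include h in
/-- Cartan's criterion. -/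
theorem eq_zero (𝓗 : CohT K S) (n : ℕ) : ∀ (F : BigSite.Ab K S)
    (_ : ∀ {T' T : Over S} (p : T' ⟶ T), 𝒞 T → Φ p → Acy F.obj p) {T : Over S} (_ : 𝒞 T) (x : 𝓗.H F (n + 1) T),
    x = 0 := by
  induction n with
  | zero =>
    intro F hF T hT x
    obtain ⟨A, hA, rfl, hI⟩ := CohT.exists_injective_embedding F
    obtain ⟨y, rfl⟩ := 𝓗.exists_del hA x
    obtain ⟨s, hs⟩ := exists_section_lift h hA hF hT (𝓗.sec y)
    rw [show y = 𝓗.map A.g (𝓗.sec.symm s) from ?_, 𝓗.del_map]
    apply 𝓗.sec.injective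
    rw [𝓗.sec_map, AddEquiv.apply_symm_apply, hs]
  | succ n ih =>
    intro F hF T hT x
    obtain ⟨A, hA, rfl, hI⟩ := CohT.exists_injective_embedding F
    obtain ⟨y, rfl⟩ := 𝓗.exists_del hA x
    rw [ih A.X₃ (acy_quotient_sheaf h hA (fun p _ _ => acy_of_injective A.X₂ p) hF) hT y, map_zero]

end K828.Cartan
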