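import Groth.Agent.TateGlob.K828.Limit
import Groth.Agent.TateGlob.K828.BigCoh

/-!
# The fppf limit theorem for `BigSite.HU` (helper828)
-/

set_option autoImplicit false

universe u

open CategoryTheory CategoryTheory.Limits AlgebraicGeometry Opposite
open K828.LPre K828.BigCoh

namespace K828.LimitBig

variable {S : Scheme.{u}} [IsAffine S] {I : Type u} [SmallCategory I] [IsCofiltered I] {D : I ⥤ Over S} {c : Cone D}
  (hc : IsLimit ((Over.forget S).mapCone c)) (hD : ∀ i, IsAffine (D.obj i).left) (hT : IsAffine c.pt.left)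

include hc hD hT

/-- Surjectivity of `colim H^n(T_i, F) → H^n(lim T_i, F)` for the fppf topology. -/
theorem exists_resHU {n : ℕ} {F : BigSite.Ab Scheme.fppfPrecoverage S} (hF : LP F.obj)
    (x : BigSite.HU Scheme.fppfPrecoverage F n c.pt) :
    ∃ (i : I) (y : BigSite.HU Scheme.fppfPrecoverage F n (D.obj i)),
      HRes.resHU Scheme.fppfPrecoverage F n (c.π.app i) y = x :=
  Limit.exists_res (bigCoh Scheme.fppfPrecoverage S) hc hD hT hF x

/-- Injectivity of `colim H^n(T_i, F) → H^n(lim T_i, F)` for the fppf topology. -/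
theorem exists_resHU_eq_zero {n : ℕ} {F : BigSite.Ab Scheme.fppfPrecoverage S} (hF : LP F.obj) {i : I}
    (x : BigSite.HU Scheme.fppfPrecoverage F n (D.obj i))
    (hx : HRes.resHU Scheme.fppfPrecoverage F n (c.π.app i) x = 0) :
    ∃ (j : I) (φ : j ⟶ i), HRes.resHU Scheme.fppfPrecoverage F n (D.map φ) x = 0 :=
  Limit.exists_res_eq_zero (bigCoh Scheme.fppfPrecoverage S) hc hD hT hF x hx

end K828.LimitBig
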