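import Groth.Agent.TateGlob.K828.LPre
import Groth.Prelude.Def_CGrpSh

/-!
# The sheaf of points of a group scheme of finite presentation is limit preserving (helper828)
-/

set_option autoImplicit false

universe u

open CategoryTheory CategoryTheory.Limits AlgebraicGeometry Opposite
open K828.LPre MonObj MonoidalCategory CartesianMonoidalCategory

namespace K828.LpPts

variable {S : Scheme.{u}} [IsAffine S] (𝒢 : Over S) [GrpObj 𝒢] [IsCommMonObj 𝒢] [LocallyOfFinitePresentation 𝒢.hom]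

theorem lp_ptsPre : LP (CGrpSh.ptsPre 𝒢) := by
  refine lp_of fun I _ _ D c hc hD hT => ⟨fun x => ?_, fun i x hx => ?_⟩
  · obtain ⟨i, fi, hfi⟩ := K828.LExt.exists_factor hc hD 𝒢 x.down.toMul
    refine ⟨i, ULift.up (Additive.ofMul fi), ?_⟩
    apply ULift.ext
    exact congrArg Additive.ofMul hfi
  · have h1 : c.π.app i ≫ x.down.toMul = c.π.app i ≫ (1 : D.obj i ⟶ 𝒢) := by
      rw [MonObj.comp_one]
      exact congrArg (fun z : ULift.{u + 1} (Additive (c.pt ⟶ 𝒢)) => z.down.toMul) hx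
    obtain ⟨j, φ, hφ⟩ := K828.LExt.exists_comp_eq hc hD 𝒢 _ _ h1
    refine ⟨j, φ, ?_⟩
    apply ULift.ext
    rw [MonObj.comp_one] at hφ
    exact congrArg Additive.ofMul hφ

theorem lp_pts (K : Precoverage Scheme.{u}) [(QuotSh.J K S).Subcanonical] : LP (CGrpSh.pts K 𝒢).obj := lp_ptsPre 𝒢

end K828.LpPts
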