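import Groth.Agent.TateGlob.K828.LSys
import Groth.Prelude.Def_BigSite
import Groth.Agent.TateGlob.K828.Cech

/-!
# Limit preserving abelian fppf sheaves and the limit preserving extension of a sheaf (helper828)
-/

set_option autoImplicit false

universe u

open CategoryTheory CategoryTheory.Limits AlgebraicGeometry Opposite
open K828.LExt K828.Cech

namespace K828.LPre

variable {S : Scheme.{u}}

/-- Limit preserving presheaves of abelian groups. -/
def LP (P : (Over S)ᵒᵖ ⥤ AddCommGrpCat.{u + 1}) : Prop :=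
  AlgSp.IsLimitPreserving (P ⋙ forget AddCommGrpCat.{u + 1})

theorem LP.surj {P : (Over S)ᵒᵖ ⥤ AddCommGrpCat.{u + 1}} (h : LP P) {I : Type u} [SmallCategory I] [IsCofiltered I]
    {D : I ⥤ Over S} {c : Cone D} (hc : IsLimit ((Over.forget S).mapCone c)) (hD : ∀ i, IsAffine (D.obj i).left)
    (hT : IsAffine c.pt.left) (x : P.obj (op c.pt)) : ∃ (i : I) (y : P.obj (op (D.obj i))), P.map (c.π.app i).op y = x :=
  ((K601.LimPres.isLimitPreserving_iff _).1 h D c hc hD hT).1 x

theorem LP.inj {P : (Over S)ᵒᵖ ⥤ AddCommGrpCat.{u + 1}} (h : LP P) {I : Type u} [SmallCategory I] [IsCofiltered I]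
    {D : I ⥤ Over S} {c : Cone D} (hc : IsLimit ((Over.forget S).mapCone c)) (hD : ∀ i, IsAffine (D.obj i).left)
    (hT : IsAffine c.pt.left) {i : I} (x : P.obj (op (D.obj i))) (hx : P.map (c.π.app i).op x = 0) :
    ∃ (j : I) (φ : j ⟶ i), P.map (D.map φ).op x = 0 := by
  obtain ⟨j, φ, e⟩ := ((K601.LimPres.isLimitPreserving_iff _).1 h D c hc hD hT).2 i x (0 : P.obj (op (D.obj i)))
    (hx.trans (map_zero (P.map (c.π.app i).op).hom).symm)
  exact ⟨j, φ, Eq.trans e (map_zero (P.map (D.map φ).op).hom)⟩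

theorem lp_of {P : (Over S)ᵒᵖ ⥤ AddCommGrpCat.{u + 1}}
    (h : ∀ ⦃I : Type u⦄ [SmallCategory I] [IsCofiltered I] (D : I ⥤ Over S) (c : Cone D),
      IsLimit ((Over.forget S).mapCone c) → (∀ i, IsAffine (D.obj i).left) → IsAffine c.pt.left →
      (∀ x : P.obj (op c.pt), ∃ (i : I) (y : P.obj (op (D.obj i))), P.map (c.π.app i).op y = x) ∧
      (∀ (i : I) (x : P.obj (op (D.obj i))), P.map (c.π.app i).op x = 0 →
        ∃ (j : I) (φ : j ⟶ i), P.map (D.map φ).op x = 0)) : LP P := by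
  rw [LP, K601.LimPres.isLimitPreserving_iff]
  intro I _ _ D c hc hD hT
  obtain ⟨h1, h2⟩ := h D c hc hD hT
  refine ⟨h1, fun i x x' e => ?_⟩
  change P.obj (op (D.obj i)) at x x'
  have e' : P.map (c.π.app i).op x = P.map (c.π.app i).op x' := e
  obtain ⟨j, φ, hj⟩ := h2 i (x - x') (by rw [map_sub, e', sub_self])
  refine ⟨j, φ, ?_⟩
  rw [map_sub, sub_eq_zero] at hj
  exact hj

/-- The extension is limit preserving. -/
theorem lp_pre [IsAffine S] (G : (Over S)ᵒᵖ ⥤ AddCommGrpCat.{u + 1}) : LP (pre G) := by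
  apply lp_of
  intro I _ _ D c hc hD hT
  constructor
  · intro x
    obtain ⟨X, f, s, rfl⟩ := exists_el x
    have := X.property.2
    obtain ⟨i, fi, hfi⟩ := exists_factor hc hD X.obj f
    exact ⟨i, el X fi s, by rw [map_el, hfi]⟩
  · intro i x hx
    obtain ⟨X, f, s, rfl⟩ := exists_el x
    rw [map_el] at hx
    obtain ⟨Y, a, f', hf', hs⟩ := exists_of_el_eq_zero hx
    have hX := X.property.2
    have hY := Y.property.2
    obtain ⟨j, fj, hfj⟩ := exists_factor hc hD Y.obj f'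
    -- a common stage of `i` and `j`
    obtain ⟨k, α, β, -⟩ := IsCofilteredOrEmpty.cone_objs i j
    obtain ⟨l, φ, hl⟩ := exists_comp_eq hc hD X.obj (D.map α ≫ f) (D.map β ≫ fj ≫ a.hom) (by
      rw [← Category.assoc, c.w, ← Category.assoc, c.w, ← Category.assoc, hfj, hf'])
    refine ⟨l, φ ≫ α, ?_⟩
    rw [map_el]
    have e : D.map (φ ≫ α) ≫ f = (D.map φ ≫ D.map β ≫ fj) ≫ a.hom := by
      rw [D.map_comp, Category.assoc, hl]
      simp only [Category.assoc]
    rw [el_congr e, el_comp, hs, el_zero]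

end K828.LPre
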