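import Groth.Agent.TateGlob.K828.Vanish
import Groth.Agent.TateLoc.K809.PtsPull
import Groth.Agent.TateGlob.K828.BigCoh

/-!
# Vanishing theorem, group smooth over the product only (helper828)
-/

set_option autoImplicit false
set_option linter.unusedSectionVars false

universe u

open CategoryTheory AlgebraicGeometry Limits IsLocalRing Opposite
open K828.GalSch

namespace K828.Vanish

theorem subsingleton_H_of_iso {K : Precoverage Scheme.{u}} {X : Scheme.{u}} {F F' : BigSite.Ab K X} (e : F ≅ F') (j : ℕ)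
    (h : Subsingleton (BigSite.H K X F' j)) : Subsingleton (BigSite.H K X F j) := by
  refine @Function.Injective.subsingleton _ _ (Sheaf.H.map e.hom j) ?_ h
  intro x y hxy
  have h1 := congrArg (Sheaf.H.map e.inv j) hxy
  rwa [← Sheaf.H.map_comp_apply, ← Sheaf.H.map_comp_apply, e.hom_inv_id, Sheaf.H.map_id_apply,
    Sheaf.H.map_id_apply] at h1

/-- Restriction in two steps. -/
theorem subsingleton_HU_comp (K : Precoverage Scheme.{u}) {S T : Scheme.{u}} [(QuotSh.J K S).Subcanonical]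
    [(QuotSh.J K T).Subcanonical] (f : T ⟶ S) {U : Scheme.{u}} (g : U ⟶ T) (h : U ⟶ S) (hgf : g ≫ f = h)
    (G : Over S) [GrpObj G] [IsCommMonObj G] (j : ℕ)
    (hH : Subsingleton (BigSite.HU K (CGrpSh.pts K (Red.bc f G)) j (Over.mk g))) :
    Subsingleton (BigSite.HU K (CGrpSh.pts K G) j (Over.mk h)) := by
  let γ : Over.mk h ⟶ Over.mk f := Over.homMk g hgf
  have e1 := HRes.pullIso K (CGrpSh.pts K G) γ
  have e2 := (BigSite.pullBig K g AddCommGrpCat.{u + 1}).mapIso (K809.PtsPull.ptsPull K f G)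
  exact subsingleton_H_of_iso (e1.symm ≪≫ e2) j hH

variable {O : Type u} [CommRing O]

theorem geomConn_bc (𝒢 : Over (Spec (CommRingCat.of O))) {A k : Type u} [CommRing A] [CommRing k] (φ : O →+* A)
    (ψ : A →+* k) (χ : O →+* k) (hχ : ψ.comp φ = χ) (h : GeometricallyConnected (BcPt.bcA χ 𝒢).hom) :
    GeometricallyConnected (BcPt.bcA ψ (BcPt.bcA φ 𝒢)).hom := by
  subst hχ
  have h1 : IsPullback (pullback.fst (pullback.snd 𝒢.hom (Spec.map (CommRingCat.ofHom φ)))
      (Spec.map (CommRingCat.ofHom ψ)) ≫ pullback.fst 𝒢.hom (Spec.map (CommRingCat.ofHom φ)))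
      (pullback.snd (pullback.snd 𝒢.hom (Spec.map (CommRingCat.ofHom φ)))
      (Spec.map (CommRingCat.ofHom ψ))) 𝒢.hom
      (Spec.map (CommRingCat.ofHom ψ) ≫ Spec.map (CommRingCat.ofHom φ)) :=
    ((IsPullback.of_hasPullback _ _).paste_horiz (IsPullback.of_hasPullback _ _))
  have h3 : Spec.map (CommRingCat.ofHom ψ) ≫ Spec.map (CommRingCat.ofHom φ) =
      Spec.map (CommRingCat.ofHom (ψ.comp φ)) := by
    rw [← Spec.map_comp, ← CommRingCat.ofHom_comp]
  rw [h3] at h1
  have h4 : h1.isoPullback.hom ≫ (BcPt.bcA (ψ.comp φ) 𝒢).hom = (BcPt.bcA ψ (BcPt.bcA φ 𝒢)).hom :=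
    h1.isoPullback_hom_snd
  rw [← h4]
  exact (MorphismProperty.cancel_left_of_respectsIso (P := @GeometricallyConnected) _ _).2 h

/-- **Vanishing theorem**: `(A i)` a family of henselian local `O`-algebras with finite residue fields, `𝒢` a
commutative `O`-group scheme whose base change to `∏ A i` is smooth, separated and quasi-compact, with geometrically
connected fibres at the closed points of the `A i`; then `H^n(Spec ∏ A i, 𝒢) = 0` for `n > 0`. -/
theorem subsingleton_pi (𝒢 : Over (Spec (CommRingCat.of O))) [GrpObj 𝒢] [IsCommMonObj 𝒢] {I : Type u}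
    (A : I → Type u) [∀ i, CommRing (A i)] [∀ i, HenselianLocalRing (A i)] [∀ i, Finite (ResidueField (A i))]
    (φ : O →+* ∀ i, A i) (h1 : Smooth (BcPt.bcA φ 𝒢).hom) (h2 : IsSeparated (BcPt.bcA φ 𝒢).hom)
    (h3 : QuasiCompact (BcPt.bcA φ 𝒢).hom)
    (h4 : ∀ i, GeometricallyConnected (BcPt.bcA ((algebraMap (A i) (ResidueField (A i))).comp
      ((Pi.evalRingHom A i).comp φ)) 𝒢).hom) (n : ℕ) (hn : 0 < n) :
    Subsingleton (BigSite.HU Scheme.fppfPrecoverage (CGrpSh.pts Scheme.fppfPrecoverage 𝒢) n (AdFn.specOf φ)) := by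
  obtain ⟨n, rfl⟩ := Nat.exists_eq_succ_of_ne_zero hn.ne'
  refine subsingleton_HU_comp Scheme.fppfPrecoverage (Spec.map (CommRingCat.ofHom φ))
    (Spec.map (CommRingCat.ofHom (RingHom.id (∀ i, A i)))) _ ?_ 𝒢 _ ?_
  · rw [← Spec.map_comp, ← CommRingCat.ofHom_comp]
  · refine subsingleton_of_forall_eq 0 fun x => ?_
    exact eq_zero (BcPt.bcA φ 𝒢) (BigCoh.bigCoh Scheme.fppfPrecoverage _) n A (RingHom.id (∀ i, A i)) (fun i =>
      ⟨inferInstance, inferInstance, geomConn_bc 𝒢 φ _ _ rfl (h4 i)⟩) x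

/-- **Vanishing theorem**, one ring. -/
theorem subsingleton_one (𝒢 : Over (Spec (CommRingCat.of O))) [GrpObj 𝒢] [IsCommMonObj 𝒢]
    (A : Type u) [CommRing A] [HenselianLocalRing A] [Finite (ResidueField A)]
    (φ : O →+* A) (h1 : Smooth (BcPt.bcA φ 𝒢).hom) (h2 : IsSeparated (BcPt.bcA φ 𝒢).hom)
    (h3 : QuasiCompact (BcPt.bcA φ 𝒢).hom)
    (h4 : GeometricallyConnected (BcPt.bcA ((algebraMap A (ResidueField A)).comp φ) 𝒢).hom) (n : ℕ) (hn : 0 < n) :
    Subsingleton (BigSite.HU Scheme.fppfPrecoverage (CGrpSh.pts Scheme.fppfPrecoverage 𝒢) n (AdFn.specOf φ)) := by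
  obtain ⟨n, rfl⟩ := Nat.exists_eq_succ_of_ne_zero hn.ne'
  refine subsingleton_HU_comp Scheme.fppfPrecoverage (Spec.map (CommRingCat.ofHom φ))
    (Spec.map (CommRingCat.ofHom (RingHom.id A))) _ ?_ 𝒢 _ ?_
  · rw [← Spec.map_comp, ← CommRingCat.ofHom_comp]
  · refine subsingleton_of_forall_eq 0 fun x => ?_
    let r : A →+* (∀ _ : PUnit.{u + 1}, A) := RingHom.pi fun _ => RingHom.id A
    refine eq_zeroP (BcPt.bcA φ 𝒢) (BigCoh.bigCoh Scheme.fppfPrecoverage _) n (T := AdFn.specOf (RingHom.id A)) ?_ x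
    refine ⟨PUnit.{u + 1}, fun _ => A, inferInstance, r, fun i =>
      ⟨inferInstance, inferInstance, geomConn_bc 𝒢 φ _ _ rfl h4⟩, ⟨?_⟩⟩
    exact { hom := AdFn.specOfHom r (RingHom.id A) (Pi.evalRingHom (fun _ : PUnit.{u + 1} => A) PUnit.unit) rfl
            inv := AdFn.specOfHom (RingHom.id A) r r rfl
            hom_inv_id := by
              rw [specOfHom_comp, ← specOfHom_id]
              exact specOfHom_congr _ _ (by ext; rfl) _
            inv_hom_id := by
              rw [specOfHom_comp, ← specOfHom_id]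
              exact specOfHom_congr _ _ (by ext; rfl) _ }

end K828.Vanish
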