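import Mathlib.RepresentationTheory.Homological.GroupCohomology.FiniteCyclic
import Mathlib.Algebra.Module.ULift
import Mathlib.Algebra.Category.ModuleCat.Basic

/-!
# Vanishing of the cohomology of a cyclic group, elementwise (helper828)
-/

set_option autoImplicit false

universe w v

open CategoryTheory

namespace K828.GrpCoh

/-- The inhomogeneous differential. -/
def dI {G : Type w} {M : Type v} [Monoid G] [AddCommGroup M] (ρ : G →* AddMonoid.End M) {n : ℕ}
    (f : (Fin n → G) → M) (g : Fin (n + 1) → G) : M :=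
  ρ (g 0) (f fun i => g i.succ) + ∑ j : Fin (n + 1), (-1 : ℤ) ^ ((j : ℕ) + 1) • f (Fin.contractNth j (· * ·) g)

section

variable {G M : Type v} [CommGroup G] [AddCommGroup M] (ρ : G →* AddMonoid.End M)

/-- The representation. -/
def rep : Representation (ULift.{v} ℤ) G M where
  toFun g :=
    { toFun := ρ g
      map_add' := fun x y => map_add _ x y
      map_smul' := fun r x => by
        rw [RingHom.id_apply, ULift.smul_def, ULift.smul_def, map_zsmul] }
  map_one' := by
    ext x
    change ρ 1 x = x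
    rw [map_one]
    rfl
  map_mul' g h := by
    ext x
    change ρ (g * h) x = ρ g (ρ h x)
    rw [map_mul]
    rfl

theorem d_rep {n : ℕ} (f : (Fin n → G) → M) (g : Fin (n + 1) → G) :
    (inhomogeneousCochains.d (Rep.of (rep ρ)) n) f g = dI ρ f g := by
  change ρ (g 0) (f fun i => g i.succ) + _ = _
  rw [dI]
  congr 1

theorem exists_of_tate_aux [Fintype G] (σ : G) (hσ : ∀ x, x ∈ Subgroup.zpowers σ)
    (hN : ∀ x, ∑ g, ρ g x = 0 → ∃ y, ρ σ y - y = x) (hT : ∀ x, ρ σ x = x → ∃ y, ∑ g, ρ g y = x) (n : ℕ)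
    (f : (Fin (n + 1) → G) → M) (hf : ∀ g, dI ρ f g = 0) : ∃ h : (Fin n → G) → M, ∀ g, dI ρ h g = f g := by
  let A : Rep (ULift.{v} ℤ) G := Rep.of (rep ρ)
  have hnorm : ∀ x : M, A.norm.hom x = ∑ g, ρ g x := by
    intro x
    change (Representation.norm (rep ρ)) x = _
    rw [Representation.norm, LinearMap.sum_apply]
    rfl
  have h0 : Limits.IsZero (groupCohomology A (n + 1)) := by
    rcases Nat.even_or_odd (n + 1) with he | ho
    · refine Limits.IsZero.of_iso ?_ (Rep.FiniteCyclicGroup.groupCohomologyIsoEven A σ hσ (n + 1) he)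
      rw [← ShortComplex.exact_iff_isZero_homology, ShortComplex.moduleCat_exact_iff]
      intro x hx
      obtain ⟨y, hy⟩ := hT x (sub_eq_zero.1 hx)
      exact ⟨y, (hnorm y).trans hy⟩
    · refine Limits.IsZero.of_iso ?_ (Rep.FiniteCyclicGroup.groupCohomologyIsoOdd A σ hσ (n + 1) ho)
      rw [← ShortComplex.exact_iff_isZero_homology, ShortComplex.moduleCat_exact_iff]
      intro x hx
      obtain ⟨y, hy⟩ := hN x ((hnorm x).symm.trans hx)
      exact ⟨y, hy⟩
  have h1 : (groupCohomology.inhomogeneousCochains A).ExactAt (n + 1) := by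
    rw [HomologicalComplex.exactAt_iff_isZero_homology]
    exact h0
  rw [HomologicalComplex.exactAt_iff' _ n (n + 1) (n + 2) (by simp) (by simp),
    ShortComplex.moduleCat_exact_iff] at h1
  obtain ⟨h, hh⟩ := h1 f (by
    change ((groupCohomology.inhomogeneousCochains A).d (n + 1) (n + 2)) f = 0
    rw [groupCohomology.inhomogeneousCochains.d_def]
    funext g
    exact (d_rep ρ f g).trans (hf g))
  refine ⟨h, fun g => ?_⟩
  change ((groupCohomology.inhomogeneousCochains A).d n (n + 1)) h = f at hh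
  rw [groupCohomology.inhomogeneousCochains.d_def] at hh
  rw [← d_rep]
  exact congrFun hh g

end

/-- Vanishing of the cohomology of a finite cyclic group with values in a module with vanishing Tate cohomology in two
consecutive degrees. -/
theorem exists_of_tate {G : Type} {M : Type v} [CommGroup G] [Fintype G] [AddCommGroup M] (ρ : G →* AddMonoid.End M)
    (σ : G) (hσ : ∀ x, x ∈ Subgroup.zpowers σ) (hN : ∀ x, ∑ g, ρ g x = 0 → ∃ y, ρ σ y - y = x)
    (hT : ∀ x, ρ σ x = x → ∃ y, ∑ g, ρ g y = x) (n : ℕ)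
    (f : (Fin (n + 1) → G) → M) (hf : ∀ g, dI ρ f g = 0) : ∃ h : (Fin n → G) → M, ∀ g, dI ρ h g = f g := by
  let e : ULift.{v} G ≃* G := MulEquiv.ulift
  let ρ' : ULift.{v} G →* AddMonoid.End M := ρ.comp e.toMonoidHom
  have hsum : ∀ x, ∑ g, ρ' g x = ∑ g, ρ g x := fun x => Equiv.sum_comp e.toEquiv (fun g => ρ g x)
  have hd : ∀ {n : ℕ} (f : (Fin n → G) → M) (g : Fin (n + 1) → ULift.{v} G),
      dI ρ' (fun g => f (fun i => e (g i))) g = dI ρ f (fun i => e (g i)) := by
    intro n f g
    rw [dI, dI]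
    congr 1
    refine Finset.sum_congr rfl fun j _ => ?_
    congr 2
    funext i
    rw [Fin.contractNth, Fin.contractNth]
    split_ifs
    · rfl
    · exact map_mul e _ _
    · rfl
  obtain ⟨h, hh⟩ := exists_of_tate_aux ρ' (ULift.up σ) (by
    intro x
    obtain ⟨k, hk⟩ := hσ x.down
    refine ⟨k, ?_⟩
    apply ULift.down_injective
    exact hk) (fun x hx => hN x ((hsum x).symm.trans hx)) (fun x hx => by
      obtain ⟨y, hy⟩ := hT x hx
      exact ⟨y, (hsum y).trans hy⟩) n (fun g => f (fun i => e (g i))) (fun g => (hd f g).trans (hf _))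
  refine ⟨fun g => h (fun i => ULift.up (g i)), fun g => ?_⟩
  exact (hd (fun g => h (fun i => ULift.up (g i))) (fun i => ULift.up (g i))).symm.trans
    (hh (fun i => ULift.up (g i)))

end K828.GrpCoh
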