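import Groth.Agent.TateGlob.K828.Cartan
import Groth.Agent.TateGlob.K828.GrpCoh
import Mathlib.Algebra.BigOperators.Fin

/-!
# Čech acyclicity for a cyclic Galois covering (helper828)
-/

set_option autoImplicit false

universe u

open CategoryTheory CategoryTheory.Limits AlgebraicGeometry Opposite
open Groth.Agent.Etrest.FppfCoch K828.Cech K828.Cartan

namespace K828.CycCech

variable {K : Precoverage Scheme.{u}} {S : Scheme.{u}}

/-- `w` is a disjoint union decomposition as seen by all sheaves (small index type). -/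
def Disj (K : Precoverage Scheme.{u}) {ι : Type} {W : Over S} {Z : Over S} (w : ι → (W ⟶ Z)) : Prop :=
  ∀ F : BigSite.Ab K S, Function.Bijective (fun (t : F.obj.obj (op Z)) (i : ι) =>
    (F.obj.map (w i).op t : F.obj.obj (op W)))

/-- `p : T' ⟶ T` is a torsor under the finite group `G` acting by `τ`. -/
structure IsTor (K : Precoverage Scheme.{u}) (𝒞 : ObjectProperty (Over S)) {G : Type} [CommGroup G] {T' T : Over S}
    (p : T' ⟶ T) (τ : G → (T' ⟶ T')) : Prop where
  one : τ 1 = 𝟙 T'
  mul : ∀ a b, τ (a * b) = τ a ≫ τ b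
  comp : ∀ a, τ a ≫ p = p
  mem : 𝒞 T'
  disj : ∀ {Y : Over S} (h : Y ⟶ T'), 𝒞 Y → ∃ (Z : Over S) (fst : Z ⟶ Y) (snd : Z ⟶ T'),
    IsPullback fst snd (h ≫ p) p ∧ 𝒞 Z ∧
      ∀ u : G → (Y ⟶ Z), (∀ a, u a ≫ fst = 𝟙 Y) → (∀ a, u a ≫ snd = h ≫ τ a) → Disj K u

variable {𝒞 : ObjectProperty (Over S)} {G : Type} [CommGroup G] {T' T : Over S} {p : T' ⟶ T} {τ : G → (T' ⟶ T')}

theorem exists_rep_disj (h : IsTor K 𝒞 p τ) (n : ℕ) : ∃ R : Rep p (𝟙 T) n, 𝒞 R.Y ∧
    ∀ w : (Fin n → G) → (T' ⟶ R.Y), (∀ g, w g ≫ R.π = p) →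
      (∀ g i, w g ≫ R.y i = τ (Fin.partialProd g i)) → Disj K w := by
  induction n with
  | zero =>
    refine ⟨{ Y := T'
              π := p
              y := fun _ => 𝟙 T'
              compat := fun _ => by rw [Category.id_comp, Category.comp_id]
              lift := fun a x _ => x 0
              lift_π := fun a x hx => by rw [hx 0, Category.comp_id]
              lift_y := fun a x hx i => by rw [Category.comp_id, Fin.fin_one_eq_zero i]
              hom_ext := fun f g _ h2 => by
                have := h2 0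
                rwa [Category.comp_id, Category.comp_id] at this }, h.mem, ?_⟩
    intro w _ hw F
    have h1 : ∀ g, w g = 𝟙 T' := by
      intro g
      have := hw g 0
      dsimp only at this
      rw [Category.comp_id, Fin.partialProd_zero, h.one] at this
      exact this
    constructor
    · intro s t hst
      have h2 : F.obj.map (w (fun _ => 1)).op s = F.obj.map (w (fun _ => 1)).op t := congrFun hst _
      rw [h1] at h2
      have e1 := res_id F.obj s
      have e2 := res_id F.obj t
      exact e1.symm.trans (h2.trans e2)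
    · intro s
      refine ⟨s (fun _ => 1), ?_⟩
      funext g
      change F.obj.map (w g).op _ = _
      rw [h1 g]
      refine (res_id F.obj _).trans ?_
      congr 1
      funext i
      exact i.elim0
  | succ n ih =>
    obtain ⟨R, hR, hd⟩ := ih
    obtain ⟨Z, fst, snd, hZ, hCZ, hu⟩ := h.disj (R.y (Fin.last n)) hR
    have hRc : ∀ i, R.y i ≫ p = R.π := fun i => by rw [R.compat i, Category.comp_id]
    let R' : Rep p (𝟙 T) (n + 1) :=
      { Y := Z
        π := fst ≫ R.π
        y := (Fin.snoc (fun i => fst ≫ R.y i) snd : Fin (n + 2) → (Z ⟶ T'))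
        compat := fun i => by
          rw [Category.comp_id]
          refine Fin.lastCases ?_ (fun i => ?_) i
          · rw [Fin.snoc_last, ← hZ.w, hRc]
          · rw [Fin.snoc_castSucc, Category.assoc, hRc]
        lift := fun a x hx => hZ.lift (R.lift a (fun i => x i.castSucc) (fun i => hx i.castSucc)) (x (Fin.last _)) (by
          rw [hRc, R.lift_π, hx (Fin.last _), Category.comp_id])
        lift_π := fun a x hx => by rw [← Category.assoc, hZ.lift_fst, R.lift_π]
        lift_y := fun a x hx i => by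
          refine Fin.lastCases ?_ (fun i => ?_) i
          · rw [Fin.snoc_last, hZ.lift_snd]
          · rw [Fin.snoc_castSucc, ← Category.assoc, hZ.lift_fst, R.lift_y]
        hom_ext := fun f g h1 h2 => by
          refine hZ.hom_ext (R.hom_ext _ _ ?_ fun i => ?_) ?_
          · simpa only [Category.assoc] using h1
          · simpa only [Category.assoc, Fin.snoc_castSucc] using h2 i.castSucc
          · simpa only [Fin.snoc_last] using h2 (Fin.last _) }
    refine ⟨R', hCZ, ?_⟩
    intro w hw1 hw2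
    let u : G → (R.Y ⟶ Z) := fun a => hZ.lift (𝟙 _) (R.y (Fin.last n) ≫ τ a) (by
      rw [Category.id_comp, Category.assoc, h.comp])
    have hu1 : ∀ a, u a ≫ fst = 𝟙 _ := fun a => hZ.lift_fst _ _ _
    have hu2 : ∀ a, u a ≫ snd = R.y (Fin.last n) ≫ τ a := fun a => hZ.lift_snd _ _ _
    have hud := hu u hu1 hu2
    have hcomp : ∀ g : Fin n → G, Compat p (𝟙 T) p (fun i => τ (Fin.partialProd g i)) := fun g i => by
      rw [h.comp, Category.comp_id]
    let v : (Fin n → G) → (T' ⟶ R.Y) := fun g => R.lift p (fun i => τ (Fin.partialProd g i)) (hcomp g)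
    have hv1 : ∀ g, v g ≫ R.π = p := fun g => R.lift_π _ _ _
    have hv2 : ∀ g i, v g ≫ R.y i = τ (Fin.partialProd g i) := fun g i => R.lift_y _ _ _ _
    have hvd := hd v hv1 hv2
    have key : ∀ g : Fin (n + 1) → G, w g = v (Fin.init g) ≫ u (g (Fin.last n)) := by
      intro g
      refine R'.hom_ext _ _ ?_ fun i => ?_
      · rw [hw1]
        change p = (v (Fin.init g) ≫ u (g (Fin.last n))) ≫ fst ≫ R.π
        rw [Category.assoc, ← Category.assoc (u _), hu1, Category.id_comp, hv1]
      · rw [hw2]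
        change _ = (v (Fin.init g) ≫ u (g (Fin.last n))) ≫
          (Fin.snoc (fun i => fst ≫ R.y i) snd : Fin (n + 2) → (Z ⟶ T')) i
        refine Fin.lastCases ?_ (fun i => ?_) i
        · rw [Fin.snoc_last, Category.assoc, hu2, ← Category.assoc, hv2, ← h.mul, Fin.partialProd_init,
            ← Fin.succ_last, Fin.partialProd_succ]
        · rw [Fin.snoc_castSucc, Category.assoc, ← Category.assoc (u _), hu1, Category.id_comp, hv2,
            Fin.partialProd_init]
    intro F
    constructor
    · intro s t hst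
      apply (hud F).1
      funext a
      apply (hvd F).1
      funext g
      have h2 : F.obj.map (w (Fin.snoc g a)).op s = F.obj.map (w (Fin.snoc g a)).op t := congrFun hst _
      rw [key, Fin.init_snoc, Fin.snoc_last] at h2
      change F.obj.map (v g).op (F.obj.map (u a).op s) = F.obj.map (v g).op (F.obj.map (u a).op t)
      rw [res_comp, res_comp]
      exact h2
    · intro s
      choose r hr using fun a => (hvd F).2 (fun g => s (Fin.snoc g a))
      obtain ⟨t, ht⟩ := (hud F).2 r
      refine ⟨t, funext fun g => ?_⟩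
      change F.obj.map (w g).op t = s g
      rw [key, ← res_comp]
      have h3 : F.obj.map (u (g (Fin.last n))).op t = r (g (Fin.last n)) := congrFun ht _
      have h4 : F.obj.map (v (Fin.init g)).op (r (g (Fin.last n))) = s (Fin.snoc (Fin.init g) (g (Fin.last n))) :=
        congrFun (hr (g (Fin.last n))) (Fin.init g)
      rw [h3, h4, Fin.snoc_init_self]

/-- The action on sections over `T'`. -/
noncomputable def act (h : IsTor K 𝒞 p τ) (F : BigSite.Ab K S) : G →* AddMonoid.End (F.obj.obj (op T')) where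
  toFun a := (F.obj.map (τ a).op).hom
  map_one' := by
    rw [h.one]
    ext s
    exact res_id F.obj s
  map_mul' a b := by
    rw [h.mul]
    ext s
    exact (res_comp F.obj _ _ s).symm

theorem act_apply (h : IsTor K 𝒞 p τ) (F : BigSite.Ab K S) (a : G) (s : F.obj.obj (op T')) :
    act h F a s = F.obj.map (τ a).op s := rfl

theorem dS_eq_dI (h : IsTor K 𝒞 p τ) (F : BigSite.Ab K S) {n : ℕ} {c : Fam F.obj T T' n} (hc : IsCoch p (𝟙 T) c)
    (g : Fin (n + 1) → G) : dS (c T' p) (fun i => τ (Fin.partialProd g i)) =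
      GrpCoh.dI (act h F) (fun g : Fin n → G => c T' p (fun i => τ (Fin.partialProd g i))) g := by
  rw [dS, Fin.sum_univ_succ, GrpCoh.dI]
  congr 1
  · rw [Fin.val_zero, pow_zero, one_smul, act_apply, hc (τ (g 0)) p _ (fun i => by rw [h.comp, Category.comp_id]),
      h.comp]
    congr 1
    funext i
    rw [Fin.succAbove_zero, Fin.partialProd_succ', h.mul]
    rfl
  · refine Finset.sum_congr rfl fun j _ => ?_
    rw [Fin.val_succ, Fin.partialProd_contractNth]
    rfl

/-- Čech acyclicity. -/
theorem acy (h : IsTor K 𝒞 p τ) [Fintype G] (F : BigSite.Ab K S) (σ : G) (hσ : ∀ x, x ∈ Subgroup.zpowers σ)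
    (hN : ∀ x : F.obj.obj (op T'), ∑ g, F.obj.map (τ g).op x = 0 → ∃ y : F.obj.obj (op T'),
      F.obj.map (τ σ).op y - y = x)
    (hT : ∀ x : F.obj.obj (op T'), F.obj.map (τ σ).op x = x → ∃ y : F.obj.obj (op T'),
      ∑ g, F.obj.map (τ g).op y = x) : Acy F.obj p := by
  intro n c hc hz
  have hcomp : ∀ {n : ℕ} (g : Fin n → G), Compat p (𝟙 T) p (fun i => τ (Fin.partialProd g i)) := fun g i => by
    rw [h.comp, Category.comp_id]
  obtain ⟨b₀, hb₀⟩ := GrpCoh.exists_of_tate (act h F) σ hσ hN hT n
    (fun g : Fin (n + 1) → G => c T' p (fun i => τ (Fin.partialProd g i))) (fun g => by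
      rw [← dS_eq_dI h F hc]
      exact hz p _ (hcomp g))
  obtain ⟨R, -, hR⟩ := exists_rep_disj h n
  obtain ⟨R', -, hR'⟩ := exists_rep_disj h (n + 1)
  obtain ⟨s, hs⟩ := (hR (fun g => R.lift p _ (hcomp g)) (fun g => R.lift_π _ _ _) (fun g i => R.lift_y _ _ _ _) F).2 b₀
  have hs' : ∀ g : Fin n → G, F.obj.map (R.lift p _ (hcomp g)).op s = b₀ g := fun g => congrFun hs g
  let b : Fam F.obj T T' n := ofSec R s
  have hb : IsCoch p (𝟙 T) b := isCoch_ofSec R s
  have hbg : ∀ g : Fin n → G, b T' p (fun i => τ (Fin.partialProd g i)) = b₀ g := fun g =>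
    (ofSec_apply R s p _ (hcomp g)).trans (hs' g)
  refine ⟨b, hb, ?_⟩
  have huniv : dS (b R'.Y R'.π) R'.y = c R'.Y R'.π R'.y := by
    apply (hR' (fun g => R'.lift p _ (hcomp g)) (fun g => R'.lift_π _ _ _) (fun g i => R'.lift_y _ _ _ _) F).1
    funext g
    change F.obj.map (R'.lift p _ (hcomp g)).op (dS (b R'.Y R'.π) R'.y) =
      F.obj.map (R'.lift p _ (hcomp g)).op (c R'.Y R'.π R'.y)
    have e1 := hb.dF (R'.lift p _ (hcomp g)) R'.π R'.y R'.compat
    have e2 := hc (R'.lift p _ (hcomp g)) R'.π R'.y R'.compat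
    have e3 : (fun i => R'.lift p _ (hcomp g) ≫ R'.y i) = fun i => τ (Fin.partialProd g i) :=
      funext fun i => R'.lift_y _ _ _ _
    rw [R'.lift_π, e3] at e1 e2
    refine e1.trans (Eq.trans ?_ e2.symm)
    change dS (b T' p) (fun i => τ (Fin.partialProd g i)) = _
    rw [dS_eq_dI h F hb, ← hb₀ g]
    congr 1
    funext g
    exact hbg g
  intro W a x hx
  have e1 := hb.dF (R'.lift a x hx) R'.π R'.y R'.compat
  have e2 := hc (R'.lift a x hx) R'.π R'.y R'.compat
  have e3 : (fun i => R'.lift a x hx ≫ R'.y i) = x := funext fun i => R'.lift_y _ _ _ _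
  rw [R'.lift_π, e3] at e1 e2
  refine Eq.trans e1.symm (Eq.trans ?_ e2)
  exact congrArg _ huniv

end K828.CycCech
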