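import Groth.Agent.TateGlob.K828.GalRing
import Groth.Agent.TateGlob.K828.CycCech
import Groth.Agent.TateGlob.K828.FppfDisj
import Groth.Prelude.Def_AdFn
import Mathlib.AlgebraicGeometry.Limits
import Mathlib.Algebra.Group.Pi.Units
import Mathlib.RingTheory.Henselian
import Mathlib.RingTheory.LocalRing.ResidueField.Basic
import Mathlib.Algebra.Category.Ring.Constructions
import Mathlib.CategoryTheory.Limits.Constructions.Over.Connected

/-!
# Galois coverings of affine schemes (helper828)
-/

set_option autoImplicit false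

universe u

open CategoryTheory CategoryTheory.Limits AlgebraicGeometry Opposite
open K828.Cartan K828.CycCech
open scoped TensorProduct

namespace K828.GalSch

variable {O : Type u} [CommRing O]

/-- Galois extensions, with ring homomorphisms. -/
structure IsGalH {A B : Type u} [CommRing A] [CommRing B] {G : Type} [CommGroup G] (f : A →+* B)
    (τ : G →* (B →+* B)) : Prop where
  comm : ∀ a x, τ a (f x) = f x
  inj : Function.Injective f
  inv : ∀ b : B, (∀ a, τ a b = b) → b ∈ Set.range f
  sep : ∀ a : G, a ≠ 1 → ∃ b : B, IsUnit (b - τ a b)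

theorem IsGalH.pi {I : Type u} {A B : I → Type u} [∀ i, CommRing (A i)] [∀ i, CommRing (B i)] {G : Type} [CommGroup G]
    {f : ∀ i, A i →+* B i} {τ : ∀ i, G →* (B i →+* B i)} (h : ∀ i, IsGalH (f i) (τ i))
    (T : G →* ((∀ i, B i) →+* (∀ i, B i))) (hT : ∀ a x i, T a x i = τ i a (x i)) :
    IsGalH (RingHom.pi fun i => (f i).comp (Pi.evalRingHom A i)) T where
  comm a x := by
    funext i
    rw [hT]
    exact (h i).comm a (x i)
  inj x y hxy := by
    funext i
    exact (h i).inj (congrFun hxy i)
  inv b hb := by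
    choose x hx using fun i => (h i).inv (b i) (fun a => by rw [← hT, hb])
    exact ⟨x, funext hx⟩
  sep a ha := by
    choose b hb using fun i => (h i).sep a ha
    refine ⟨b, Pi.isUnit_iff.2 fun i => ?_⟩
    rw [Pi.sub_apply, hT]
    exact hb i

/-- The product action. -/
def piAct {I : Type u} {B : I → Type u} [∀ i, CommRing (B i)] {G : Type} [CommGroup G] (τ : ∀ i, G →* (B i →+* B i)) :
    G →* ((∀ i, B i) →+* (∀ i, B i)) where
  toFun a := RingHom.pi fun i => (τ i a).comp (Pi.evalRingHom B i)
  map_one' := by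
    ext x i
    change τ i 1 (x i) = x i
    rw [map_one]
    rfl
  map_mul' a b := by
    ext x i
    change τ i (a * b) (x i) = τ i a (τ i b (x i))
    rw [map_mul]
    rfl

theorem piAct_apply {I : Type u} {B : I → Type u} [∀ i, CommRing (B i)] {G : Type} [CommGroup G]
    (τ : ∀ i, G →* (B i →+* B i)) (a : G) (x : ∀ i, B i) (i : I) : piAct τ a x i = τ i a (x i) := rfl

section

variable {A B : Type u} [CommRing A] [CommRing B] {G : Type} [CommGroup G] {f : A →+* B} {τ : G →* (B →+* B)}

/-- The action by algebra homomorphisms. -/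
def toAlg [Algebra A B] (hf : algebraMap A B = f) (h : IsGalH f τ) : G →* (B →ₐ[A] B) where
  toFun a := { τ a with commutes' := fun r => by subst hf; exact h.comm a r }
  map_one' := by
    ext x
    change τ 1 x = x
    rw [map_one]
    rfl
  map_mul' a b := by
    ext x
    change τ (a * b) x = τ a (τ b x)
    rw [map_mul]
    rfl

theorem isGal [Algebra A B] (hf : algebraMap A B = f) (h : IsGalH f τ) : GalRing.IsGal (toAlg hf h) where
  inj := by subst hf; exact h.inj
  inv := by subst hf; exact h.inv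
  sep := h.sep

/-- `C ⊗_A B ≅ ∏_G C`. -/
theorem isPushout [Finite G] (h : IsGalH f τ) {C : Type u} [CommRing C] (c : B →+* C) :
    IsPushout (CommRingCat.ofHom (c.comp f)) (CommRingCat.ofHom f)
      (CommRingCat.ofHom (RingHom.pi fun _ : G => RingHom.id C))
      (CommRingCat.ofHom (RingHom.pi fun a : G => c.comp (τ a))) := by
  classical
  have := Fintype.ofFinite G
  let : Algebra A B := f.toAlgebra
  let : Algebra A C := (c.comp f).toAlgebra
  let h2 : Algebra A (G → C) := (RingHom.pi fun _ : G => c.comp f).toAlgebra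
  let c' : B →ₐ[A] C := { c with commutes' := fun _ => rfl }
  have hb := GalRing.Φ_bijective (isGal rfl h) c'
  let e := RingEquiv.ofBijective (GalRing.Φ (toAlg rfl h) c').toRingHom hb
  refine (CommRingCat.isPushout_tensorProduct A C B).of_iso (Iso.refl _) (Iso.refl _) (Iso.refl _)
    e.toCommRingCatIso ?_ ?_ ?_ ?_
  · rfl
  · rfl
  · ext x a
    change GalRing.Φ (toAlg rfl h) c' (x ⊗ₜ 1) a = x
    rw [GalRing.Φ_tmul, map_one, map_one, mul_one]
  · ext x a
    change GalRing.Φ (toAlg rfl h) c' (1 ⊗ₜ x) a = c (τ a x)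
    rw [GalRing.Φ_tmul, one_mul]
    rfl

/-- `C ⊗_A B ≅ ∏_G C`, with index set in the right universe. -/
theorem isPushout' [Finite G] (h : IsGalH f τ) {C : Type u} [CommRing C] (c : B →+* C) :
    IsPushout (CommRingCat.ofHom (c.comp f)) (CommRingCat.ofHom f)
      (CommRingCat.ofHom (RingHom.pi fun _ : ULift.{u} G => RingHom.id C))
      (CommRingCat.ofHom (RingHom.pi fun a : ULift.{u} G => c.comp (τ a.down))) := by
  let e : (G → C) ≃+* (ULift.{u} G → C) :=
    { toFun := fun x a => x a.down
      invFun := fun x a => x (ULift.up a)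
      map_mul' := fun _ _ => rfl
      map_add' := fun _ _ => rfl }
  refine (isPushout h c).of_iso (Iso.refl _) (Iso.refl _) (Iso.refl _) e.toCommRingCatIso ?_ ?_ ?_ ?_
  · rfl
  · rfl
  · ext x a
    rfl
  · ext x a
    rfl

/-- Pull-backs of spectra. -/
theorem isPullback_specOf {A B C D : Type u} [CommRing A] [CommRing B] [CommRing C] [CommRing D] {f : A →+* B}
    {g : A →+* C} {j : C →+* D} {k : B →+* D} (h : IsPushout (CommRingCat.ofHom g) (CommRingCat.ofHom f)
      (CommRingCat.ofHom j) (CommRingCat.ofHom k)) (φA : O →+* A) (φB : O →+* B) (φC : O →+* C) (φD : O →+* D)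
    (hB : f.comp φA = φB) (hC : g.comp φA = φC) (hjD : j.comp φC = φD) (hkD : k.comp φB = φD) :
    IsPullback (AdFn.specOfHom φC φD j hjD) (AdFn.specOfHom φB φD k hkD) (AdFn.specOfHom φA φC g hC)
      (AdFn.specOfHom φA φB f hB) := by
  refine IsPullback.of_map (Over.forget _) ?_ (isPullback_SpecMap_of_isPushout _ _ _ _ h)
  ext1
  exact (isPullback_SpecMap_of_isPushout _ _ _ _ h).w

/-- Finite products of rings. -/
theorem isDisj_pi {ι : Type u} [Finite ι] (R : ι → Type u) [∀ i, CommRing (R i)] (φ : O →+* ∀ i, R i)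
    (ψ : ∀ i, O →+* R i) (hψ : ∀ i, (Pi.evalRingHom R i).comp φ = ψ i) :
    IsDisj Scheme.fppfPrecoverage (fun i => AdFn.specOfHom φ (ψ i) (Pi.evalRingHom R i) (hψ i)) := by
  refine FppfDisj.isDisj _ (fun i => ?_) (fun z => ?_) ?_
  · change IsOpenImmersion (Spec.map (CommRingCat.ofHom (Pi.evalRingHom (R ·) i)))
    infer_instance
  · let R' : ι → CommRingCat.{u} := fun i => CommRingCat.of (R i)
    obtain ⟨z', rfl⟩ := (show Function.Surjective (sigmaSpec R') from
      (inferInstance : Surjective (sigmaSpec R')).surj) z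
    obtain ⟨i, w, rfl⟩ := (sigmaOpenCover (fun i => Spec (R' i))).exists_eq z'
    refine ⟨i, w, ?_⟩
    change Spec.map (CommRingCat.ofHom (Pi.evalRingHom (R ·) i)) w = sigmaSpec R' ((Sigma.ι (fun i => Spec (R' i)) i) w)
    rw [← Scheme.Hom.comp_apply, ι_sigmaSpec]
  · intro i i' V a b hab hne
    let R' : ι → CommRingCat.{u} := fun i => CommRingCat.of (R i)
    have h1 : a.left ≫ Spec.map (CommRingCat.ofHom (Pi.evalRingHom (R ·) i)) =
        b.left ≫ Spec.map (CommRingCat.ofHom (Pi.evalRingHom (R ·) i')) := congrArg (fun k => k.left) hab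
    refine isEmpty_of_commSq_sigmaι_of_ne (g := fun i => Spec (R' i)) (i := i) (j := i') (a := a.left) (b := b.left)
      ⟨?_⟩ hne
    rw [← cancel_mono (sigmaSpec R'), Category.assoc, Category.assoc, ι_sigmaSpec, ι_sigmaSpec]
    exact h1

/-- Small index types. -/
theorem disj_of_isDisj {K : Precoverage Scheme.{u}} {S : Scheme.{u}} {ι : Type} {W Z : Over S} {w : ι → (W ⟶ Z)}
    (h : IsDisj K (fun i : ULift.{u} ι => w i.down)) : Disj K w := by
  intro F
  constructor
  · intro s t hst
    apply (h F).1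
    funext i
    exact congrFun hst i.down
  · intro s
    obtain ⟨t, ht⟩ := (h F).2 (fun i => s i.down)
    exact ⟨t, funext fun i => congrFun ht (ULift.up i)⟩

theorem exists_ringHom {A B : Type u} [CommRing A] [CommRing B] (φ : O →+* A) (ψ : O →+* B)
    (h : AdFn.specOf ψ ⟶ AdFn.specOf φ) : ∃ (c : A →+* B) (hc : c.comp φ = ψ), h = AdFn.specOfHom φ ψ c hc := by
  obtain ⟨c, hc⟩ : ∃ c : CommRingCat.of A ⟶ CommRingCat.of B, Spec.map c = h.left :=
    ⟨Spec.preimage h.left, Spec.map_preimage _⟩
  have h1 : c.hom.comp φ = ψ := by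
    have h2 : Spec.map c ≫ Spec.map (CommRingCat.ofHom φ) = Spec.map (CommRingCat.ofHom ψ) := by
      rw [hc]
      exact Over.w h
    rw [← Spec.map_comp] at h2
    exact congrArg CommRingCat.Hom.hom (Spec.map_injective h2)
  refine ⟨c.hom, h1, ?_⟩
  ext1
  exact hc.symm

theorem specOfHom_comp {A B C : Type u} [CommRing A] [CommRing B] [CommRing C] (φ : O →+* A) (ψ : O →+* B)
    (χ : O →+* C) (a : A →+* B) (ha : a.comp φ = ψ) (b : B →+* C) (hb : b.comp ψ = χ) :
    AdFn.specOfHom ψ χ b hb ≫ AdFn.specOfHom φ ψ a ha = AdFn.specOfHom φ χ (b.comp a) (by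
      rw [RingHom.comp_assoc, ha, hb]) := by
  ext1
  change Spec.map (CommRingCat.ofHom b) ≫ Spec.map (CommRingCat.ofHom a) = Spec.map (CommRingCat.ofHom (b.comp a))
  rw [← Spec.map_comp, ← CommRingCat.ofHom_comp]

theorem specOfHom_id {A : Type u} [CommRing A] (φ : O →+* A) : AdFn.specOfHom φ φ (RingHom.id A) rfl = 𝟙 _ := by
  ext1
  change Spec.map (CommRingCat.ofHom (RingHom.id A)) = 𝟙 _
  rw [CommRingCat.ofHom_id, Spec.map_id]

theorem specOfHom_congr {A B : Type u} [CommRing A] [CommRing B] (φ : O →+* A) (ψ : O →+* B) {a b : A →+* B}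
    (h : a = b) (ha : a.comp φ = ψ) : AdFn.specOfHom φ ψ a ha = AdFn.specOfHom φ ψ b (by rw [← h, ha]) := by
  subst h
  rfl

/-- Henselian local rings with finite residue field. -/
def GoodR (A : Type u) [CommRing A] : Prop := ∃ _ : HenselianLocalRing A, Finite (IsLocalRing.ResidueField A)

/-- Spectra of products of `O`-algebras in the class `P`. -/
def ClsP (P : ∀ (A : Type u) [CommRing A], (O →+* A) → Prop) : ObjectProperty (Over (Spec (CommRingCat.of O))) :=
  fun T => ∃ (I : Type u) (A : I → Type u) (_ : ∀ i, CommRing (A i)) (φ : O →+* ∀ i, A i),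
    (∀ i, P (A i) ((Pi.evalRingHom A i).comp φ)) ∧ Nonempty (T ≅ AdFn.specOf φ)

/-- Spectra of products of henselian local rings with finite residue fields. -/
abbrev Cls (O : Type u) [CommRing O] : ObjectProperty (Over (Spec (CommRingCat.of O))) := ClsP fun A _ _ => GoodR A

theorem isTorP (P : ∀ (A : Type u) [CommRing A], (O →+* A) → Prop) [Finite G] {I : Type u} {B : I → Type u}
    [∀ i, CommRing (B i)] {A : Type u} [CommRing A]
    {f : A →+* ∀ i, B i} {τ : G →* ((∀ i, B i) →+* (∀ i, B i))} (h : IsGalH f τ)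
    (φ : O →+* A) (hB : ∀ i, P (B i) ((Pi.evalRingHom B i).comp (f.comp φ))) :
    IsTor Scheme.fppfPrecoverage (ClsP P) (AdFn.specOfHom φ (f.comp φ) f rfl)
      (fun a => AdFn.specOfHom (f.comp φ) (f.comp φ) (τ a) (RingHom.ext fun x => h.comm a (φ x))) where
  one := by
    rw [← specOfHom_id]
    exact specOfHom_congr _ _ (map_one τ) _
  mul a b := by
    rw [specOfHom_comp]
    exact specOfHom_congr _ _ (map_mul τ a b) _
  comp a := by
    rw [specOfHom_comp]
    exact specOfHom_congr _ _ (RingHom.ext fun x => h.comm a x) _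
  mem := ⟨I, B, inferInstance, f.comp φ, hB, ⟨Iso.refl _⟩⟩
  disj {Y} k hY := by
    obtain ⟨I', A', _, γ, hA', ⟨e⟩⟩ := hY
    obtain ⟨c, hc, hk⟩ := exists_ringHom (f.comp φ) γ (e.inv ≫ k)
    let C : Type u := ∀ i, A' i
    let γZ : O →+* (ULift.{u} G → C) := (RingHom.pi fun _ : ULift.{u} G => RingHom.id C).comp γ
    have hsnd : (RingHom.pi fun a : ULift.{u} G => c.comp (τ a.down)).comp (f.comp φ) = γZ := by
      refine RingHom.ext fun x => funext fun a => ?_
      change c (τ a.down (f (φ x))) = γ x
      rw [h.comm, ← hc]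
      rfl
    have h0 := isPullback_specOf (isPushout' h c) φ (f.comp φ) γ γZ rfl (by rw [RingHom.comp_assoc, hc]) rfl hsnd
    let fst := AdFn.specOfHom γ γZ (RingHom.pi fun _ : ULift.{u} G => RingHom.id C) rfl
    let snd := AdFn.specOfHom (f.comp φ) γZ (RingHom.pi fun a : ULift.{u} G => c.comp (τ a.down)) hsnd
    have hkp : (e.inv ≫ k) ≫ AdFn.specOfHom φ (f.comp φ) f rfl =
        AdFn.specOfHom φ γ (c.comp f) (by rw [RingHom.comp_assoc, hc]) := by
      rw [hk, specOfHom_comp]
    refine ⟨AdFn.specOf γZ, fst ≫ e.inv, snd, ?_, ?_, ?_⟩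
    · refine h0.of_iso (Iso.refl _) e.symm (Iso.refl _) (Iso.refl _) ?_ ?_ ?_ ?_
      · rw [Iso.refl_hom, Category.id_comp, Iso.symm_hom]
      · rw [Iso.refl_hom, Iso.refl_hom, Category.id_comp, Category.comp_id]
      · rw [Iso.refl_hom, Category.comp_id, Iso.symm_hom, ← Category.assoc]
        exact hkp.symm
      · rw [Iso.refl_hom, Iso.refl_hom, Category.id_comp, Category.comp_id]
    · let r : (ULift.{u} G → C) ≃+* (∀ x : ULift.{u} G × I', A' x.2) :=
        { toFun := fun y x => y x.1 x.2
          invFun := fun y a i => y (a, i)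
          map_mul' := fun _ _ => rfl
          map_add' := fun _ _ => rfl }
      refine ⟨ULift.{u} G × I', fun x => A' x.2, inferInstance, (r : _ →+* _).comp γZ, ?_, ⟨?_⟩⟩
      · intro x
        exact hA' x.2
      exact { hom := AdFn.specOfHom _ _ (r.symm : _ →+* _) (by ext x; rfl)
              inv := AdFn.specOfHom _ _ (r : _ →+* _) rfl
              hom_inv_id := by
                rw [specOfHom_comp, ← specOfHom_id]
                exact specOfHom_congr _ _ (by ext; rfl) _
              inv_hom_id := by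
                rw [specOfHom_comp, ← specOfHom_id]
                exact specOfHom_congr _ _ (by ext; rfl) _ }
    · intro u hu1 hu2
      have key : ∀ a : G, u a = e.hom ≫ AdFn.specOfHom γZ γ (Pi.evalRingHom (fun _ : ULift.{u} G => C) (ULift.up a)) rfl := by
        intro a
        refine h0.hom_ext ?_ ?_
        · rw [Category.assoc, specOfHom_comp]
          have h1 : u a ≫ fst = e.hom := by
            rw [← cancel_mono e.inv, Category.assoc, hu1, e.hom_inv_id]
          refine h1.trans ?_
          have h2 : AdFn.specOfHom γ γ ((Pi.evalRingHom (fun _ : ULift.{u} G => C) (ULift.up a)).comp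
              (RingHom.pi fun _ : ULift.{u} G => RingHom.id C)) rfl = 𝟙 _ := specOfHom_id γ
          rw [h2, Category.comp_id]
        · rw [Category.assoc, specOfHom_comp]
          refine (hu2 a).trans ?_
          rw [show k = e.hom ≫ e.inv ≫ k by rw [e.hom_inv_id_assoc], hk, Category.assoc, specOfHom_comp]
          rfl
      have h3 := isDisj_pi (fun _ : ULift.{u} G => C) γZ (fun _ => γ) (fun _ => rfl)
      intro F
      refine (disj_of_isDisj (w := fun a : G => u a) (fun F => ?_)) F
      have h4 := h3 F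
      have h5 : (fun (t : F.obj.obj (op (AdFn.specOf γZ))) (i : ULift.{u} G) =>
          (F.obj.map (u i.down).op t : F.obj.obj (op Y))) = fun t i => F.obj.map e.hom.op (F.obj.map
            (AdFn.specOfHom γZ γ (Pi.evalRingHom (fun _ : ULift.{u} G => C) i) rfl).op t) := by
        funext t i
        rw [key, Cech.res_comp]
      rw [h5]
      have hinv : ∀ s : F.obj.obj (op Y), F.obj.map e.hom.op (F.obj.map e.inv.op s) = s := fun s => by
        rw [Cech.res_comp, e.hom_inv_id, Cech.res_id]
      have hinv' : ∀ s : F.obj.obj (op (AdFn.specOf γ)), F.obj.map e.inv.op (F.obj.map e.hom.op s) = s := fun s => by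
        rw [Cech.res_comp, e.inv_hom_id, Cech.res_id]
      constructor
      · intro s t hst
        apply h4.1
        funext i
        have := congrArg (F.obj.map e.inv.op) (congrFun hst i)
        dsimp only at this
        rwa [hinv', hinv'] at this
      · intro s
        obtain ⟨t, ht⟩ := h4.2 (fun i => F.obj.map e.inv.op (s i))
        refine ⟨t, funext fun i => ?_⟩
        have := congrArg (F.obj.map e.hom.op) (congrFun ht i)
        dsimp only at this
        rwa [hinv] at this

theorem isTor [Finite G] {I : Type u} {B : I → Type u} [∀ i, CommRing (B i)] {A : Type u} [CommRing A]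
    {f : A →+* ∀ i, B i} {τ : G →* ((∀ i, B i) →+* (∀ i, B i))} (h : IsGalH f τ) (hB : ∀ i, GoodR (B i))
    (φ : O →+* A) :
    IsTor Scheme.fppfPrecoverage (Cls O) (AdFn.specOfHom φ (f.comp φ) f rfl)
      (fun a => AdFn.specOfHom (f.comp φ) (f.comp φ) (τ a) (RingHom.ext fun x => h.comm a (φ x))) :=
  isTorP _ h φ hB

end

end K828.GalSch
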