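import Groth.Agent.TateGlob.K828.LAcy
import Groth.Agent.TateGlob.K828.FppfDisj

/-!
# The fppf limit theorem over an affine base (helper828)

For a limit preserving abelian sheaf `F` on the big fppf site of an affine scheme `S`, and a cofiltered limit `T` of affine
`S`-schemes `T_i`: `colim H^n(T_i, F) = H^n(T, F)`, in elementwise form (`exists_res`, `exists_res_eq_zero`).
-/

set_option autoImplicit false

universe u

open CategoryTheory CategoryTheory.Limits AlgebraicGeometry Opposite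
open Groth.Agent.Etrest.FppfCoch K828.LExt K828.Cech K828.LPre K828.LSheaf K828.LAcy K828.Cartan K828.FppfDisj

namespace K828.Limit

variable {S : Scheme.{u}}

theorem fp_comp {X Y : Over S} (f : X ⟶ Y) (hX : IsAffine X.left) (hf : LocallyOfFinitePresentation f.left)
    (hY : LocallyOfFinitePresentation Y.hom) : fpProp S X := by
  refine ⟨hX, ?_⟩
  rw [← Over.w f]
  infer_instance

/-- The limit preserving sheaf attached to an injective sheaf is Čech acyclic for affine coverings (base changed from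
finite presentation). -/
theorem acyE_lps [IsAffine S] (I : AbF S) [Injective I] {T T' U : Over S} (hT : fpProp S T) (hT' : IsAffine T'.left)
    (hU : fpProp S U) (p : T' ⟶ T) (hp : LocallyOfFinitePresentation p.left) (e : U ⟶ T) :
    AcyE (lps I).obj p e := by
  have hI : Injective I.obj := Groth.Agent.CohtopA.CechInj.injective_presheaf_of_injective_sheaf I
  refine acyE_of_bijective (Q := I.obj) (kap I).hom (fun n c hc hz => exists_cob_of_injective c hc hz) fun n => ?_
  let Φ : MorphismProperty (Over S) :=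
    MorphismProperty.inverseImage (@IsAffineHom ⊓ @LocallyOfFinitePresentation) (Over.forget S)
  have hΦ : Φ.IsStableUnderBaseChange :=
    ⟨fun sq hg => MorphismProperty.of_isPullback (P := @IsAffineHom ⊓ @LocallyOfFinitePresentation)
      (sq.map (Over.forget S)) hg⟩
  have h1 : IsAffine T.left := hT.1
  have hpa : IsAffineHom p.left := inferInstance
  obtain ⟨R, hR⟩ := exists_rep Φ p e ⟨hpa, hp⟩ n
  have h2 : IsAffineHom R.π.left := hR.1
  have h3 : LocallyOfFinitePresentation R.π.left := hR.2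
  have h4 : IsAffine U.left := hU.1
  have hY : fpProp S R.Y := fp_comp R.π (isAffine_of_isAffineHom R.π.left) h3 hU.2
  exact ⟨R, fun s => kap_surj I ⟨R.Y, hY⟩ s, fun t ht => kap_inj I ⟨R.Y, hY⟩ t ht⟩

/-- The limit preserving sheaf attached to an injective sheaf is Čech acyclic for affine coverings. -/
theorem acy_lps [IsAffine S] (I : AbF S) [Injective I] {T T' : Over S} (p : T' ⟶ T) (hT : IsAffine T.left)
    (hp : AffCov S p) : Acy (lps I).obj p := by
  obtain ⟨J, _, _, D, c, ⟨hc⟩, hD, rfl⟩ := exists_system T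
  obtain ⟨i, W₀, p₀, q, h1, h2, h3, sq⟩ := K601.CoverDesc.exists_descend_member D c hc (fun i => (hD i).1)
    K601.Stage.admissible_flat p hp.1 hp.2.1 hp.2.2.1
  refine acy_of_acyE sq ?_
  have key : AcyE (lps I).obj p₀ (c.π.app i ≫ 𝟙 _) := by
    refine acyE_limit (lp_lps I) hc (fun i => (hD i).1) hT (hD i).1 h1 p₀ (𝟙 _) fun j φ => ?_
    exact acyE_lps I (hD i) h1 (hD j) p₀ h3 _
  exact acyE_congr key (Category.comp_id _)

/-- Higher cohomology of affine schemes with coefficients in the limit preserving sheaf attached to an injective sheaf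
vanishes. -/
theorem eq_zero_lps [IsAffine S] (𝓗 : CohT Scheme.fppfPrecoverage S) (I : AbF S) [Injective I] {n : ℕ} {T : Over S}
    (hT : IsAffine T.left) (x : 𝓗.H (lps I) (n + 1) T) : x = 0 :=
  Cartan.eq_zero isGood_aff 𝓗 n (lps I) (fun p hT hp => acy_lps I p hT hp) hT x

/-- The quotient of limit preserving sheaves is limit preserving. -/
theorem lp_quotient {A : ShortComplex (AbF S)} (hA : A.ShortExact) (h1 : LP A.X₁.obj) (h2 : LP A.X₂.obj) :
    LP A.X₃.obj := by
  have hLE := le_of_shortExact hA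
  -- the presheaf quotient
  let Q : (Over S)ᵒᵖ ⥤ AddCommGrpCat.{u + 1} := cokernel A.f.hom
  let π : A.X₂.obj ⟶ Q := cokernel.π A.f.hom
  let η : Q ⟶ A.X₃.obj := cokernel.desc A.f.hom A.g.hom (by
    have := congrArg (fun z => z.hom) A.zero
    exact this)
  have hπη : π ≫ η = A.g.hom := cokernel.π_desc _ _ _
  have hπη' : ∀ {T : Over S} (x : A.X₂.obj.obj (op T)), η.app (op T) (π.app (op T) x) = A.g.hom.app (op T) x := by
    intro T x
    rw [← hπη]
    rfl
  have hπ : ∀ (T : Over S) (x : Q.obj (op T)), ∃ y : A.X₂.obj.obj (op T), π.app (op T) y = x := by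
    intro T
    have : Epi π := inferInstanceAs (Epi (cokernel.π A.f.hom))
    have h : Epi (π.app (op T)) := inferInstance
    exact (AddCommGrpCat.epi_iff_surjective _).1 h
  have hfπ : ∀ {T : Over S} (x : A.X₁.obj.obj (op T)), π.app (op T) (A.f.hom.app (op T) x) = 0 := by
    intro T x
    have : A.f.hom ≫ π = 0 := cokernel.condition _
    have h := congr_app this (op T)
    exact ConcreteCategory.congr_hom h x
  have hη : ∀ {T : Over S} (x : Q.obj (op T)), η.app (op T) x = 0 → x = 0 := by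
    intro T x hx
    obtain ⟨y, rfl⟩ := hπ T x
    rw [hπη'] at hx
    obtain ⟨z, rfl⟩ := hLE.ex T y hx
    exact hfπ z
  refine lp_of_locally η (fun {T} x hx => ⟨⊤, (JF S).top_mem T, fun {W} p _ => by rw [hη x hx, map_zero]⟩)
    (fun {T} s => ?_) A.X₃.property ?_
  · obtain ⟨R, hR, h⟩ := CohT.exists_lift hA s
    exact ⟨R, hR, fun {W} p hp => by
      obtain ⟨a, ha⟩ := h p hp
      exact ⟨π.app (op W) a, by rw [hπη', ha]⟩⟩
  · apply lp_of
    intro I _ _ D c hc hD hT
    constructor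
    · intro x
      obtain ⟨y, rfl⟩ := hπ _ x
      obtain ⟨i, z, rfl⟩ := h2.surj hc hD hT y
      exact ⟨i, π.app _ z, by rw [← nat_apply]; rfl⟩
    · intro i x hx
      obtain ⟨y, rfl⟩ := hπ _ x
      have hy : A.g.hom.app (op c.pt) (A.X₂.obj.map (c.π.app i).op y) = 0 := by
        rw [← hπη', nat_apply, hx, map_zero]
      obtain ⟨z, hz⟩ := hLE.ex _ _ hy
      obtain ⟨j, w, rfl⟩ := h1.surj hc hD hT z
      obtain ⟨k, α, β, -⟩ := IsCofilteredOrEmpty.cone_objs i j
      obtain ⟨l, φ, hl⟩ := h2.inj hc hD hT (i := k)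
        (A.X₂.obj.map (D.map α).op y - A.f.hom.app _ (A.X₁.obj.map (D.map β).op w)) (by
          rw [map_sub, res_comp, c.w, ← nat_apply, res_comp, c.w]
          exact sub_eq_zero.2 hz.symm)
      refine ⟨l, φ ≫ α, ?_⟩
      rw [map_sub, res_comp, sub_eq_zero, ← D.map_comp] at hl
      rw [← nat_apply, hl, ← nat_apply, hfπ]

/-- A limit preserving sheaf embeds into a limit preserving sheaf with vanishing higher cohomology on affine schemes. -/
theorem exists_embedding [IsAffine S] (𝓗 : CohT Scheme.fppfPrecoverage S) (F : AbF S) (hF : LP F.obj) :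
    ∃ A : ShortComplex (AbF S), A.ShortExact ∧ A.X₁ = F ∧ LP A.X₂.obj ∧ LP A.X₃.obj ∧
      ∀ (n : ℕ) (T : Over S) (_ : IsAffine T.left) (x : 𝓗.H A.X₂ (n + 1) T), x = 0 := by
  obtain ⟨B, hB, rfl, hI⟩ := CohT.exists_injective_embedding F
  obtain ⟨ι, hι⟩ := exists_mono hF B.f (le_of_shortExact hB).inj
  let A : ShortComplex (AbF S) := ShortComplex.mk ι (cokernel.π ι) (cokernel.condition _)
  have hA : A.ShortExact :=
    { exact := ShortComplex.exact_cokernel _
      mono_f := hι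
      epi_g := inferInstanceAs (Epi (cokernel.π ι)) }
  have h2 : LP A.X₂.obj := lp_lps B.X₂
  exact ⟨A, hA, rfl, h2, lp_quotient hA hF h2, fun n T hT x => eq_zero_lps 𝓗 B.X₂ hT x⟩

section main

variable [IsAffine S] (𝓗 : CohT Scheme.fppfPrecoverage S)
  {I : Type u} [SmallCategory I] [IsCofiltered I] {D : I ⥤ Over S} {c : Cone D}
  (hc : IsLimit ((Over.forget S).mapCone c)) (hD : ∀ i, IsAffine (D.obj i).left) (hT : IsAffine c.pt.left)

include hc hD hT in
theorem main (n : ℕ) : ∀ (F : AbF S) (_ : LP F.obj),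
    (∀ x : 𝓗.H F n c.pt, ∃ (i : I) (y : 𝓗.H F n (D.obj i)), 𝓗.res (c.π.app i) y = x) ∧
    (∀ (i : I) (x : 𝓗.H F n (D.obj i)), 𝓗.res (c.π.app i) x = 0 → ∃ (j : I) (φ : j ⟶ i), 𝓗.res (D.map φ) x = 0) := by
  induction n with
  | zero =>
    intro F hF
    constructor
    · intro x
      obtain ⟨i, y, hy⟩ := hF.surj hc hD hT (𝓗.sec x)
      refine ⟨i, 𝓗.sec.symm y, 𝓗.sec.injective ?_⟩
      rw [𝓗.sec_res, AddEquiv.apply_symm_apply, hy]
    · intro i x hx
      obtain ⟨j, φ, h⟩ := hF.inj hc hD hT (𝓗.sec x) (by rw [← 𝓗.sec_res, hx, map_zero])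
      exact ⟨j, φ, 𝓗.sec.injective (by rw [𝓗.sec_res, h, map_zero])⟩
  | succ n ih =>
    intro F hF
    obtain ⟨A, hA, rfl, h2, h3, hv⟩ := exists_embedding 𝓗 F hF
    constructor
    · intro x
      obtain ⟨y, rfl⟩ := 𝓗.exact₁ hA x (hv n _ hT _)
      obtain ⟨i, z, rfl⟩ := (ih A.X₃ h3).1 y
      exact ⟨i, 𝓗.del hA z, by rw [𝓗.del_res]⟩
    · intro i x hx
      obtain ⟨y, rfl⟩ := 𝓗.exact₁ hA x (hv n _ (hD i) _)
      rw [← 𝓗.del_res] at hx
      obtain ⟨z, hz⟩ := 𝓗.exact₃ hA _ hx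
      obtain ⟨j, w, rfl⟩ := (ih A.X₂ h2).1 z
      obtain ⟨k, α, β, -⟩ := IsCofilteredOrEmpty.cone_objs i j
      obtain ⟨l, φ, hl⟩ := (ih A.X₃ h3).2 k (𝓗.res (D.map α) y - 𝓗.map A.g (𝓗.res (D.map β) w)) (by
        rw [map_sub, ← 𝓗.res_comp, c.w, ← 𝓗.map_res, ← 𝓗.res_comp, c.w, hz, sub_self])
      refine ⟨l, φ ≫ α, ?_⟩
      rw [map_sub, sub_eq_zero, ← 𝓗.res_comp, ← D.map_comp, ← 𝓗.map_res] at hl
      rw [← 𝓗.del_res, hl, 𝓗.del_map]

include hc hD hT in
/-- Surjectivity in the limit theorem. -/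
theorem exists_res {n : ℕ} {F : AbF S} (hF : LP F.obj) (x : 𝓗.H F n c.pt) :
    ∃ (i : I) (y : 𝓗.H F n (D.obj i)), 𝓗.res (c.π.app i) y = x := (main 𝓗 hc hD hT n F hF).1 x

include hc hD hT in
/-- Injectivity in the limit theorem. -/
theorem exists_res_eq_zero {n : ℕ} {F : AbF S} (hF : LP F.obj) {i : I} (x : 𝓗.H F n (D.obj i))
    (hx : 𝓗.res (c.π.app i) x = 0) : ∃ (j : I) (φ : j ⟶ i), 𝓗.res (D.map φ) x = 0 :=
  (main 𝓗 hc hD hT n F hF).2 i x hx

end main

end K828.Limit
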