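import Groth.Agent.TateGlob.K828.RingLim
import Groth.Agent.TateGlob.K828.Limit
import Groth.Agent.TateGlob.K828.DisjVan
import Groth.Agent.TateGlob.K828.GalSch

/-!
# The adele ring as a limit (helper828)
-/

set_option autoImplicit false
set_option linter.unusedSectionVars false

universe u

open CategoryTheory CategoryTheory.Limits AlgebraicGeometry Opposite
open AdFn K828.Cartan K828.GalSch K828.LPre

namespace K828.AdLim

section disj

variable {O : Type u} [CommRing O]

/-- Finite products of rings, up to isomorphism. -/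
theorem isDisj_of_bijective {ι : Type u} [Finite ι] {A : Type u} [CommRing A] (R : ι → Type u) [∀ i, CommRing (R i)]
    (φ : O →+* A) (ψ : ∀ i, O →+* R i) (χ : ∀ i, A →+* R i) (hχ : ∀ i, (χ i).comp φ = ψ i)
    (hb : Function.Bijective (RingHom.pi χ)) :
    IsDisj Scheme.fppfPrecoverage (fun i => AdFn.specOfHom φ (ψ i) (χ i) (hχ i)) := by
  let e : A ≃+* ∀ i, R i := RingEquiv.ofBijective _ hb
  let φ' : O →+* ∀ i, R i := (e : A →+* _).comp φ
  have h1 := isDisj_pi R φ' ψ hχ
  let α : AdFn.specOf φ' ⟶ AdFn.specOf φ := AdFn.specOfHom φ φ' (e : A →+* _) rfl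
  let β : AdFn.specOf φ ⟶ AdFn.specOf φ' := AdFn.specOfHom φ' φ (e.symm : _ →+* A)
    (RingHom.ext fun x => e.symm_apply_apply (φ x))
  have hαβ : α ≫ β = 𝟙 _ := by
    rw [specOfHom_comp, ← specOfHom_id]
    exact specOfHom_congr _ _ (RingHom.ext fun x => e.apply_symm_apply x) _
  have hβα : β ≫ α = 𝟙 _ := by
    rw [specOfHom_comp, ← specOfHom_id]
    exact specOfHom_congr _ _ (RingHom.ext fun x => e.symm_apply_apply x) _
  have hw : ∀ i, AdFn.specOfHom φ' (ψ i) (Pi.evalRingHom R i) (hχ i) ≫ α = AdFn.specOfHom φ (ψ i) (χ i) (hχ i) := by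
    intro i
    rw [specOfHom_comp]
    exact specOfHom_congr _ _ (RingHom.ext fun x => rfl) _
  have hw' : ∀ i, AdFn.specOfHom φ (ψ i) (χ i) (hχ i) ≫ β = AdFn.specOfHom φ' (ψ i) (Pi.evalRingHom R i) (hχ i) := by
    intro i
    rw [← hw, Category.assoc, hαβ, Category.comp_id]
  intro F
  constructor
  · intro s t hst
    have h2 : F.obj.map α.op s = F.obj.map α.op t := by
      apply (h1 F).1
      funext i
      have h3 : F.obj.map (AdFn.specOfHom φ (ψ i) (χ i) (hχ i)).op s =
        F.obj.map (AdFn.specOfHom φ (ψ i) (χ i) (hχ i)).op t := congrFun hst i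
      rw [← hw, ← Cech.res_comp, ← Cech.res_comp] at h3
      exact h3
    have h3 := congrArg (F.obj.map β.op) h2
    rwa [Cech.res_comp, Cech.res_comp, hβα, Cech.res_id, Cech.res_id] at h3
  · intro s
    obtain ⟨t, ht⟩ := (h1 F).2 s
    refine ⟨F.obj.map β.op t, funext fun i => ?_⟩
    change F.obj.map (AdFn.specOfHom φ (ψ i) (χ i) (hχ i)).op (F.obj.map β.op t) = s i
    rw [Cech.res_comp, hw']
    exact congrFun ht i

end disj

section ad

variable {k K : Type u} [Field k] [Field K] [Algebra k K]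

/-- adeles integral outside `T` -/
def AdT (T : Set (FunFld.Place k K)) : Subring (AdeleRing k K) where
  carrier := {x | ∀ v ∉ T, AdeleRing.proj v x ∈ Ov v}
  mul_mem' ha hb v hv := by rw [map_mul]; exact (Ov v).mul_mem _ _ (ha v hv) (hb v hv)
  one_mem' v hv := by rw [map_one]; exact (Ov v).one_mem
  add_mem' ha hb v hv := by rw [map_add]; exact (Ov v).add_mem _ _ (ha v hv) (hb v hv)
  zero_mem' v hv := by rw [map_zero]; exact (Ov v).zero_mem
  neg_mem' ha v hv := by rw [map_neg]; exact (Ov v).neg_mem _ (ha v hv)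

variable (S : Set (FunFld.Place k K))

/-- index set -/
abbrev Idx : Type u := {T : Finset (FunFld.Place k K) // S ⊆ ↑T}

instance : IsDirectedOrder (Idx S) := ⟨fun T₁ T₂ => by
  classical
  exact ⟨⟨T₁.1 ∪ T₂.1, fun v hv => Finset.mem_coe.2 (Finset.mem_union_left _ (T₁.2 hv))⟩,
    fun v hv => Finset.mem_union_left _ hv, fun v hv => Finset.mem_union_right _ hv⟩⟩

variable {S}

theorem nonempty_idx (hS : S.Finite) : Nonempty (Idx S) := ⟨⟨hS.toFinset, fun v hv => by simpa using hv⟩⟩

variable (S) in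
/-- The directed family of subrings. -/
def R : Idx S →o Subring (AdeleRing k K) where
  toFun T := AdT (↑T.1 : Set (FunFld.Place k K))
  monotone' T₁ T₂ h x hx v hv := hx v fun hv' => hv (h hv')

theorem exists_mem (hS : S.Finite) (a : AdeleRing k K) : ∃ T, a ∈ R S T := by
  classical
  have h : {v | ¬ AdeleRing.proj v a ∈ Ov v}.Finite := a.2
  refine ⟨⟨hS.toFinset ∪ h.toFinset, fun v hv => ?_⟩, fun v hv => ?_⟩
  · rw [Finset.mem_coe, Finset.mem_union]
    exact Or.inl ((Set.Finite.mem_toFinset hS).2 hv)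
  · by_contra hc
    apply hv
    rw [Finset.mem_coe, Finset.mem_union]
    exact Or.inr ((Set.Finite.mem_toFinset h).2 hc)

/-- `O_S → ∏_{v ∉ T} O_v` for `S ⊆ T`. -/
noncomputable def toOHat' {T : Set (FunFld.Place k K)} (h : S ⊆ T) : SInt S →+* OHat T :=
  RingHom.pi fun w : {w : FunFld.Place k K // w ∉ T} => SInt.toOv S (fun hw => w.2 (h hw))

theorem toOHat'_self : toOHat' (le_refl S) = SInt.toOHat S := rfl

variable [HasFinitePoles k K]

theorem toAd_mem (T : Idx S) (x : SInt S) : SInt.toAd S x ∈ R S T := fun v hv =>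
  (SInt.toOv S (fun hv' => hv (T.2 hv')) x).2

/-- The stage. -/
noncomputable abbrev stage (T : Idx S) : Over (Spec (CommRingCat.of (SInt S))) :=
  specOf (RingLim.st (SInt.toAd S) (R S) toAd_mem T)

/-- The projection to a stage. -/
noncomputable def toStage (T : Idx S) : specOf (SInt.toAd S) ⟶ stage T :=
  specOfHom _ _ (R S T).subtype (RingHom.ext fun _ => rfl)

/-- transition maps -/
noncomputable def tr {T T' : Idx S} (h : T ≤ T') : stage T' ⟶ stage T :=
  specOfHom _ _ (Subring.inclusion ((R S).monotone h)) (RingHom.ext fun _ => rfl)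

/-- `Spec K_v → stage` -/
noncomputable def stKv (T : Idx S) (v : FunFld.Place k K) : specOf (SInt.toKv S v) ⟶ stage T :=
  specOfHom _ _ ((AdeleRing.proj v).comp (R S T).subtype) (RingHom.ext fun _ => rfl)

/-- The projection `AdT T → ∏_{v ∉ T} O_v`. -/
noncomputable def prO (T : Idx S) : R S T →+* OHat (↑T.1 : Set (FunFld.Place k K)) :=
  RingHom.pi fun w => ((AdeleRing.proj w.1).comp (R S T).subtype).codRestrict (Ov w.1).toSubring fun x => x.2 w.1 w.2

/-- `Spec ∏_{v ∉ T} O_v → stage` -/
noncomputable def stO (T : Idx S) : specOf (toOHat' T.2) ⟶ stage T :=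
  specOfHom _ _ (prO T) (RingHom.ext fun _ => rfl)

/-- `Spec O_v → Spec ∏_{w ∉ T} O_w` -/
noncomputable def oHatOv (T : Set (FunFld.Place k K)) (h : S ⊆ T) {v : FunFld.Place k K} (hv : v ∉ T) :
    specOf (SInt.toOv S (fun hw => hv (h hw))) ⟶ specOf (toOHat' h) :=
  specOfHom _ _ (Pi.evalRingHom (fun w : {w : FunFld.Place k K // w ∉ T} => Ov w.1) ⟨v, hv⟩) (RingHom.ext fun _ => rfl)

omit [HasFinitePoles k K] in
theorem oHatOv_self {v : FunFld.Place k K} (hv : v ∉ S) : oHatOv S (le_refl S) hv = ohatResHom S hv := rfl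

theorem toStage_tr {T T' : Idx S} (h : T ≤ T') : toStage T' ≫ tr h = toStage T := by
  rw [toStage, tr, specOfHom_comp]
  rfl

theorem adProj_toStage (T : Idx S) (v : FunFld.Place k K) : adProjSHom S v ≫ toStage T = stKv T v := by
  rw [adProjSHom, toStage, specOfHom_comp]
  rfl

theorem int_stO (T : Idx S) {v : FunFld.Place k K} (hv : v ∉ (↑T.1 : Set (FunFld.Place k K))) :
    intResHom S (fun hw => hv (T.2 hw)) ≫ oHatOv _ T.2 hv ≫ stO T = stKv T v := by
  rw [intResHom, oHatOv, stO, specOfHom_comp, specOfHom_comp]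
  rfl

/-- index of the pieces -/
abbrev Pc (T : Idx S) : Type u := Option {v : FunFld.Place k K // v ∈ T.1}

/-- rings of the pieces -/
abbrev pcR (T : Idx S) : Pc T → Type u
  | none => OHat (↑T.1 : Set (FunFld.Place k K))
  | some v => Kv v.1

noncomputable instance (T : Idx S) : ∀ i, CommRing (pcR T i)
  | none => inferInstanceAs (CommRing (OHat (↑T.1 : Set (FunFld.Place k K))))
  | some v => inferInstanceAs (CommRing (Kv v.1))

/-- structure maps of the pieces -/
noncomputable def pcψ (T : Idx S) : ∀ i, SInt S →+* pcR T i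
  | none => toOHat' T.2
  | some v => SInt.toKv S v.1

/-- projections to the pieces -/
noncomputable def pcχ (T : Idx S) : ∀ i, R S T →+* pcR T i
  | none => prO T
  | some v => (AdeleRing.proj v.1).comp (R S T).subtype

theorem pcχ_comp (T : Idx S) (i : Pc T) : (pcχ T i).comp (RingLim.st (SInt.toAd S) (R S) toAd_mem T) = pcψ T i := by
  cases i <;> rfl

theorem pc_bijective (T : Idx S) : Function.Bijective (RingHom.pi (pcχ T)) := by
  classical
  constructor
  · intro x y hxy
    apply Subtype.ext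
    apply Subtype.ext
    funext v
    by_cases hv : v ∈ T.1
    · exact congrFun hxy (some ⟨v, hv⟩)
    · have h1 : prO T x = prO T y := congrFun hxy none
      exact congrArg Subtype.val (congrFun h1 ⟨v, hv⟩)
  · intro z
    let a : ∀ v, Kv v := fun v => if hv : v ∈ T.1 then z (some ⟨v, hv⟩) else
      ((show OHat (↑T.1 : Set (FunFld.Place k K)) from z none) ⟨v, hv⟩ : Ov v).1
    have ha1 : ∀ v (hv : v ∈ T.1), a v = z (some ⟨v, hv⟩) := fun v hv => dif_pos hv
    have ha2 : ∀ v (hv : v ∉ T.1), a v = ((show OHat (↑T.1 : Set (FunFld.Place k K)) from z none) ⟨v, hv⟩ : Ov v).1 :=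
      fun v hv => dif_neg hv
    have ha3 : ∀ v (_ : v ∉ T.1), a v ∈ Ov v := fun v hv => by
      rw [ha2 v hv]
      exact Subtype.property _
    have ha4 : ∀ᶠ v in Filter.cofinite, a v ∈ (Ov v : Set (Kv v)) := by
      rw [Filter.eventually_cofinite]
      refine T.1.finite_toSet.subset fun v hv => ?_
      by_contra hc
      exact hv (ha3 v hc)
    refine ⟨⟨⟨a, ha4⟩, fun v hv => ha3 v hv⟩, ?_⟩
    funext i
    match i with
    | none =>
      change prO T ⟨⟨a, ha4⟩, fun v hv => ha3 v hv⟩ = z none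
      funext v
      apply Subtype.ext
      exact ha2 v.1 v.2
    | some v => exact ha1 v.1 v.2

end ad

end K828.AdLim
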