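import Groth.Agent.Sga3B.BcPts
import Groth.Agent.TateLoc.K809.KerDer
import Groth.Prelude.Def_AdFn

/-!
# Points of a base change, affine case (helper828)
-/

set_option autoImplicit false

universe u

open CategoryTheory MonoidalCategory CartesianMonoidalCategory AlgebraicGeometry Limits MonObj
open Groth.Agent.Sga3B.BcPts Groth.Agent.Books.AffBridge

namespace K828.BcPt

noncomputable section

variable {O A : Type u} [CommRing O] [CommRing A] (φ : O →+* A) (𝒢 : Over (Spec (CommRingCat.of O)))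

/-- The base change to `A`. -/
abbrev bcA : Over (Spec (CommRingCat.of A)) := Red.bc (Spec.map (CommRingCat.ofHom φ)) 𝒢

section

variable (S : Type u) [CommRing S] [Algebra A S]

/-- The comparison of the two structures of scheme over `O`. -/
def iso : (Over.map (Spec.map (CommRingCat.ofHom φ))).obj (SpecOver A S) ≅ AdFn.specOf ((algebraMap A S).comp φ) :=
  Over.isoMk (Iso.refl _) (by
    change 𝟙 _ ≫ Spec.map (CommRingCat.ofHom ((algebraMap A S).comp φ)) =
      Spec.map (CommRingCat.ofHom (algebraMap A S)) ≫ Spec.map (CommRingCat.ofHom φ)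
    rw [Category.id_comp, ← Spec.map_comp, ← CommRingCat.ofHom_comp])

/-- `S`-points of the base change. -/
def equiv [GrpObj 𝒢] : (AdFn.specOf ((algebraMap A S).comp φ) ⟶ 𝒢) ≃* (SpecOver A S ⟶ bcA φ 𝒢) where
  toFun x := bcEquiv _ (SpecOver A S) 𝒢 ((iso φ S).hom ≫ x)
  invFun y := (iso φ S).inv ≫ (bcEquiv _ (SpecOver A S) 𝒢).symm y
  left_inv x := by
    change (iso φ S).inv ≫ (bcEquiv _ (SpecOver A S) 𝒢).symm (bcEquiv _ (SpecOver A S) 𝒢 ((iso φ S).hom ≫ x)) = x
    rw [Equiv.symm_apply_apply, Iso.inv_hom_id_assoc]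
  right_inv y := by
    change bcEquiv _ (SpecOver A S) 𝒢 ((iso φ S).hom ≫ (iso φ S).inv ≫ (bcEquiv _ (SpecOver A S) 𝒢).symm y) = y
    rw [Iso.hom_inv_id_assoc, Equiv.apply_symm_apply]
  map_mul' x y := by
    rw [MonObj.comp_mul, bcEquiv_mul]

theorem equiv_apply [GrpObj 𝒢] (x : AdFn.specOf ((algebraMap A S).comp φ) ⟶ 𝒢) :
    equiv φ 𝒢 S x = bcEquiv _ (SpecOver A S) 𝒢 ((iso φ S).hom ≫ x) := rfl

end

variable {S S' : Type u} [CommRing S] [Algebra A S] [CommRing S'] [Algebra A S']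

theorem equiv_comp [GrpObj 𝒢] (δ : S →ₐ[A] S') (h : (δ : S →+* S').comp ((algebraMap A S).comp φ) =
    (algebraMap A S').comp φ) (x : AdFn.specOf ((algebraMap A S).comp φ) ⟶ 𝒢) :
    equiv φ 𝒢 S' (AdFn.specOfHom _ _ (δ : S →+* S') h ≫ x) = specMap A δ ≫ equiv φ 𝒢 S x := by
  rw [equiv_apply, equiv_apply, ← comp_bcEquiv]
  congr 1

end

end K828.BcPt
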