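import Groth.Agent.TateGlob.K828.RingLim
import Groth.Agent.TateGlob.K828.AdLim
import Groth.Agent.TateGlob.K828.BcPt
import Groth.Agent.TateGlob.K829.SIntBase
import Groth.Agent.S9191
import Groth.Agent.S18877
import Groth.Agent.Fdesc.GeomConn
import Mathlib.AlgebraicGeometry.Geometrically.Connected

/-!
# Spreading out smoothness and geometric connectedness over the rings of `S`-integers (helper828)
-/

set_option autoImplicit false
set_option linter.unusedSectionVars false

universe u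

open CategoryTheory CategoryTheory.Limits AlgebraicGeometry Opposite
open AdFn FunFld K660.Places

namespace K828.SpreadK

variable {k K : Type u} [Field k] [Field K] [Algebra k K] {S : Set (FunFld.Place k K)}

variable (S) in
/-- The directed family of the rings `O_T`, `S ⊆ T`, as subrings of `K`. -/
def RK : AdLim.Idx S →o Subring K where
  toFun T := (SInt (↑T.1 : Set (Place k K))).toSubring
  monotone' T T' h x hx v hv := hx v (fun hv' => hv (h hv'))

theorem mem_RK (T : AdLim.Idx S) (x : K) : x ∈ RK S T ↔ ∀ v ∉ (↑T.1 : Set (Place k K)), v.1 x ≤ 1 := Iff.rfl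

theorem toK_mem (T : AdLim.Idx S) (x : SInt S) : SInt.toK S x ∈ RK S T := fun v hv => x.2 v fun hv' => hv (T.2 hv')

theorem exists_mem_RK [HasFinitePoles k K] (hS : S.Finite) (x : K) : ∃ T, x ∈ RK S T := by
  classical
  have h : {v : Place k K | 1 < v.1 x}.Finite := HasFinitePoles.finite_poles x
  refine ⟨⟨hS.toFinset ∪ h.toFinset, fun v hv => ?_⟩, fun v hv => ?_⟩
  · rw [Finset.mem_coe, Finset.mem_union]
    exact Or.inl ((Set.Finite.mem_toFinset hS).2 hv)
  · by_contra hc
    apply hv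
    rw [Finset.mem_coe, Finset.mem_union]
    exact Or.inr ((Set.Finite.mem_toFinset h).2 (not_le.1 hc))

/-- `O_S → O_T` -/
abbrev stK (T : AdLim.Idx S) : SInt S →+* RK S T := RingLim.st (SInt.toK S) (RK S) toK_mem T

/-- The diagram. -/
noncomputable abbrev DK (S : Set (Place k K)) : (AdLim.Idx S)ᵒᵖ ⥤ Scheme.{u} :=
  RingLim.diag (SInt.toK S) (RK S) toK_mem ⋙ Over.forget _

/-- The cone. -/
noncomputable abbrev CK (S : Set (Place k K)) : Cone (DK S) :=
  (Over.forget _).mapCone (RingLim.cone (SInt.toK S) (RK S) toK_mem)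

instance {i j : (AdLim.Idx S)ᵒᵖ} (f : i ⟶ j) : IsAffineHom ((DK S).map f) := by
  change IsAffineHom (Spec.map _)
  infer_instance

theorem isNoetherian {x : K} (h : IsGen k K x) (hne : S.Nonempty) (T : AdLim.Idx S) :
    AlgebraicGeometry.IsNoetherian ((DK S).obj (op T)) := by
  have h1 := (K829.SIntBase.isDedekind h (S := (↑T.1 : Set (Place k K))) T.1.finite_toSet (hne.mono T.2)).1
  have h2 : IsNoetherianRing (SInt (↑T.1 : Set (Place k K))) := inferInstance
  have h3 : IsNoetherianRing (RK S T) := h2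
  exact (inferInstance : AlgebraicGeometry.IsNoetherian (Spec (CommRingCat.of (RK S T))))

section spread

variable (𝒢 : Over (Spec (CommRingCat.of (SInt S)))) (T₀ : AdLim.Idx S)

/-- base change to the stage `T₀` -/
noncomputable abbrev f₀ : pullback 𝒢.hom (Spec.map (CommRingCat.ofHom (stK T₀))) ⟶ (DK S).obj (op T₀) :=
  pullback.snd 𝒢.hom (Spec.map (CommRingCat.ofHom (stK T₀)))

/-- `Spec K → Spec O_T` -/
noncomputable abbrev πK (T : AdLim.Idx S) : Spec (CommRingCat.of K) ⟶ Spec (CommRingCat.of (RK S T)) :=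
  Spec.map (CommRingCat.ofHom (RK S T).subtype)

theorem exists_isPullback : ∃ qX : pullback 𝒢.hom (Spec.map (CommRingCat.ofHom (SInt.toK S))) ⟶
    pullback 𝒢.hom (Spec.map (CommRingCat.ofHom (stK T₀))),
    IsPullback qX (pullback.snd 𝒢.hom (Spec.map (CommRingCat.ofHom (SInt.toK S)))) (f₀ 𝒢 T₀) (πK T₀) := by
  have h0 : πK T₀ ≫ Spec.map (CommRingCat.ofHom (stK T₀)) = Spec.map (CommRingCat.ofHom (SInt.toK S)) := by
    rw [← Spec.map_comp]
    rfl
  have h1 : IsPullback (pullback.fst 𝒢.hom (Spec.map (CommRingCat.ofHom (SInt.toK S))))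
      (pullback.snd 𝒢.hom (Spec.map (CommRingCat.ofHom (SInt.toK S)))) 𝒢.hom
      (πK T₀ ≫ Spec.map (CommRingCat.ofHom (stK T₀))) := by
    rw [h0]
    exact IsPullback.of_hasPullback _ _
  have h2 := IsPullback.of_hasPullback 𝒢.hom (Spec.map (CommRingCat.ofHom (stK T₀)))
  refine ⟨h2.lift (pullback.fst 𝒢.hom (Spec.map (CommRingCat.ofHom (SInt.toK S))))
    (pullback.snd 𝒢.hom (Spec.map (CommRingCat.ofHom (SInt.toK S))) ≫ πK T₀)
    (by rw [h1.w, Category.assoc]), ?_⟩
  exact IsPullback.of_right (by rw [h2.lift_fst]; exact h1) (h2.lift_snd _ _ _) h2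

theorem exists_smooth [HasFinitePoles k K] {x : K} (h : IsGen k K x) (hS : S.Finite) (hne : S.Nonempty)
    [LocallyOfFiniteType 𝒢.hom] [QuasiCompact 𝒢.hom] [QuasiSeparated 𝒢.hom]
    (hsm : Smooth (pullback.snd 𝒢.hom (Spec.map (CommRingCat.ofHom (SInt.toK S))))) :
    ∃ T : AdLim.Idx S, Smooth (BcPt.bcA (stK T) 𝒢).hom := by
  have := AdLim.nonempty_idx hS
  let T₀ : AdLim.Idx S := Classical.arbitrary _
  obtain ⟨hc⟩ := RingLim.nonempty_isLimit (SInt.toK S) (RK S) toK_mem (exists_mem_RK hS)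
  obtain ⟨qX, hX⟩ := exists_isPullback 𝒢 T₀
  have hN := isNoetherian h hne T₀
  have hft : LocallyOfFiniteType (f₀ 𝒢 T₀) :=
    inferInstanceAs (LocallyOfFiniteType (pullback.snd 𝒢.hom (Spec.map (CommRingCat.ofHom (stK T₀)))))
  have hfp : LocallyOfFinitePresentation (f₀ 𝒢 T₀) := LocallyOfFinitePresentation.iff_locallyOfFiniteType.2 hft
  have hcs : CompactSpace ↑(pullback 𝒢.hom (Spec.map (CommRingCat.ofHom (stK T₀)))) :=
    QuasiCompact.compactSpace_of_compactSpace (pullback.snd 𝒢.hom (Spec.map (CommRingCat.ofHom (stK T₀))))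
  have hqs : QuasiSeparatedSpace ↑(pullback 𝒢.hom (Spec.map (CommRingCat.ofHom (stK T₀)))) :=
    quasiSeparatedSpace_of_quasiSeparated (pullback.snd 𝒢.hom (Spec.map (CommRingCat.ofHom (stK T₀))))
  have hY : IsPullback (πK T₀) (𝟙 (Spec (CommRingCat.of K))) (𝟙 (Spec (CommRingCat.of (RK S T₀)))) (πK T₀) :=
    IsPullback.of_vert_isIso ⟨(Category.comp_id _).trans (Category.id_comp _).symm⟩
  have hcs' : CompactSpace ↑((DK S).obj (op T₀)) := inferInstanceAs (CompactSpace (Spec (CommRingCat.of (RK S T₀))))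
  have hqs' : QuasiSeparatedSpace ↑((DK S).obj (op T₀)) :=
    inferInstanceAs (QuasiSeparatedSpace (Spec (CommRingCat.of (RK S T₀))))
  obtain ⟨i, φ, Xi, Yi, fi, gi, pY, pX, h1, h2, h3⟩ := Groth.Agent.S9191.result (DK S) (CK S) hc (op T₀)
    (f₀ 𝒢 T₀) (𝟙 _) (pullback.snd 𝒢.hom (Spec.map (CommRingCat.ofHom (SInt.toK S)))) (𝟙 _)
    (πK T₀) qX hY hX
  refine ⟨i.unop, ?_⟩
  have hgi : IsIso gi := h1.isIso_snd_of_isIso
  have h4 : pY = gi ≫ (DK S).map φ := by rw [← h1.w, Category.comp_id]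
  have h5 : IsPullback pX (fi ≫ gi) (f₀ 𝒢 T₀) ((DK S).map φ) := by
    have := h2.paste_vert h1
    rwa [Category.comp_id] at this
  have h6 := h5.paste_horiz (IsPullback.of_hasPullback 𝒢.hom (Spec.map (CommRingCat.ofHom (stK T₀))))
  have h7 : (DK S).map φ ≫ Spec.map (CommRingCat.ofHom (stK T₀)) = Spec.map (CommRingCat.ofHom (stK i.unop)) := by
    change Spec.map _ ≫ Spec.map _ = _
    rw [← Spec.map_comp]
    rfl
  rw [h7] at h6
  have h8 : h6.isoPullback.hom ≫ (BcPt.bcA (stK i.unop) 𝒢).hom = fi ≫ gi := h6.isoPullback_hom_snd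
  have h9 : Smooth (fi ≫ gi) := inferInstance
  rw [← h8] at h9
  exact (MorphismProperty.cancel_left_of_respectsIso (P := @Smooth) _ _).1 h9

/-- A morphism with a section and preconnected geometric fibres is geometrically connected. -/
theorem geomConn_of_section {X Y : Scheme.{u}} (f : X ⟶ Y) (e : Y ⟶ X) (he : e ≫ f = 𝟙 Y)
    (h : ∀ (Ω : Type u) [Field Ω] [IsAlgClosed Ω] (t : Spec (CommRingCat.of Ω) ⟶ Y), PreconnectedSpace ↑(pullback f t)) :
    GeometricallyConnected f := by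
  refine ⟨geometrically_iff_of_isClosedUnderIsomorphisms.mpr fun L _ y ↦ ?_⟩
  let Ω := AlgebraicClosure L
  let j : Spec (CommRingCat.of Ω) ⟶ Spec (CommRingCat.of L) := Spec.map (CommRingCat.ofHom (algebraMap L Ω))
  have h1 := h Ω (j ≫ y)
  have hj : Surjective j := by
    refine ⟨fun x => ?_⟩
    have : Subsingleton (Spec (CommRingCat.of L)) := inferInstanceAs (Subsingleton (PrimeSpectrum L))
    exact ⟨IsLocalRing.closedPoint Ω, Subsingleton.elim _ _⟩
  have h2 : IsPullback (pullback.map f (j ≫ y) f y (𝟙 _) j (𝟙 _) (by rw [Category.id_comp, Category.comp_id])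
      (by rw [Category.comp_id])) (pullback.snd f (j ≫ y)) (pullback.snd f y) j := by
    refine IsPullback.of_right ?_ ?_ (IsPullback.of_hasPullback f y)
    · rw [pullback.map, pullback.lift_fst, Category.comp_id]
      exact IsPullback.of_hasPullback f (j ≫ y)
    · rw [pullback.map, pullback.lift_snd]
  have h3 : Surjective (pullback.map f (j ≫ y) f y (𝟙 _) j (𝟙 _) (by rw [Category.id_comp, Category.comp_id])
      (by rw [Category.comp_id])) := MorphismProperty.of_isPullback h2.flip hj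
  have h4 : Nonempty ↑(pullback f (j ≫ y)) := by
    let s : Spec (CommRingCat.of Ω) ⟶ pullback f (j ≫ y) := pullback.lift ((j ≫ y) ≫ e) (𝟙 _) (by
      rw [Category.assoc, he, Category.comp_id, Category.id_comp])
    exact ⟨s (IsLocalRing.closedPoint Ω)⟩
  have h5 : ConnectedSpace ↑(pullback f (j ≫ y)) := { toPreconnectedSpace := h1, toNonempty := h4 }
  exact h3.surj.connectedSpace (Scheme.Hom.continuous _)

theorem exists_geomConn [HasFinitePoles k K] {x : K} (h : IsGen k K x) (hS : S.Finite) (hne : S.Nonempty)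
    [LocallyOfFiniteType 𝒢.hom] [QuasiCompact 𝒢.hom] (e : Spec (CommRingCat.of (SInt S)) ⟶ 𝒢.left) (he : e ≫ 𝒢.hom = 𝟙 _)
    (hc' : GeometricallyConnected (pullback.snd 𝒢.hom (Spec.map (CommRingCat.ofHom (SInt.toK S))))) :
    ∃ T : AdLim.Idx S, GeometricallyConnected (BcPt.bcA (stK T) 𝒢).hom := by
  have := AdLim.nonempty_idx hS
  let T₀ : AdLim.Idx S := Classical.arbitrary _
  obtain ⟨hc⟩ := RingLim.nonempty_isLimit (SInt.toK S) (RK S) toK_mem (exists_mem_RK hS)
  obtain ⟨qX, hX⟩ := exists_isPullback 𝒢 T₀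
  have hft : LocallyOfFiniteType (f₀ 𝒢 T₀) :=
    inferInstanceAs (LocallyOfFiniteType (pullback.snd 𝒢.hom (Spec.map (CommRingCat.ofHom (stK T₀)))))
  have hqc : QuasiCompact (f₀ 𝒢 T₀) :=
    inferInstanceAs (QuasiCompact (pullback.snd 𝒢.hom (Spec.map (CommRingCat.ofHom (stK T₀)))))
  have hN : ∀ i, AlgebraicGeometry.IsNoetherian ((DK S).obj i) := fun i => isNoetherian h hne i.unop
  obtain ⟨i, a, hi⟩ := Groth.Agent.S18877.result (DK S) (CK S) hc (op T₀) (f₀ 𝒢 T₀)
    (pullback.snd 𝒢.hom (Spec.map (CommRingCat.ofHom (SInt.toK S)))) qX hX (by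
      intro Ω _ _ t
      have : ConnectedSpace ↑(pullback (pullback.snd 𝒢.hom (Spec.map (CommRingCat.ofHom (SInt.toK S)))) t) :=
        GeometricallyConnected.geometrically_connectedSpace
          (f := pullback.snd 𝒢.hom (Spec.map (CommRingCat.ofHom (SInt.toK S)))) _ _ _ (.of_hasPullback _ _)
      exact this.toPreconnectedSpace)
  refine ⟨i.unop, ?_⟩
  have h7 : (DK S).map a ≫ Spec.map (CommRingCat.ofHom (stK T₀)) = Spec.map (CommRingCat.ofHom (stK i.unop)) := by
    change Spec.map _ ≫ Spec.map _ = _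
    rw [← Spec.map_comp]
    rfl
  have hg := IsPullback.of_hasPullback 𝒢.hom (Spec.map (CommRingCat.ofHom (stK i.unop)))
  refine geomConn_of_section _ (hg.lift (Spec.map (CommRingCat.ofHom (stK i.unop)) ≫ e) (𝟙 _) (by
    rw [Category.assoc, he, Category.comp_id, Category.id_comp])) (hg.lift_snd _ _ _) ?_
  intro Ω _ _ t
  have h8 := hi Ω t
  have h9 := (IsPullback.of_hasPullback (f₀ 𝒢 T₀) (t ≫ (DK S).map a)).paste_horiz
    (IsPullback.of_hasPullback 𝒢.hom (Spec.map (CommRingCat.ofHom (stK T₀))))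
  have h10 := (IsPullback.of_hasPullback (pullback.snd 𝒢.hom (Spec.map (CommRingCat.ofHom (stK i.unop)))) t).paste_horiz
    (IsPullback.of_hasPullback 𝒢.hom (Spec.map (CommRingCat.ofHom (stK i.unop))))
  have h11 : (t ≫ (DK S).map a) ≫ Spec.map (CommRingCat.ofHom (stK T₀)) =
      t ≫ Spec.map (CommRingCat.ofHom (stK i.unop)) := (Category.assoc _ _ _).trans (congrArg (t ≫ ·) h7)
  rw [h11] at h9
  let ε := IsPullback.isoIsPullback _ _ h9 h10
  refine ⟨?_⟩
  rw [← (Scheme.homeoOfIso ε).surjective.range_eq]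
  exact @isPreconnected_range _ _ _ _ h8 _ (Scheme.homeoOfIso ε).continuous

end spread

end K828.SpreadK
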