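import Groth.Agent.TateGlob.K828.OvHens
import Groth.Agent.TateGlob.K828.SpreadK
import Groth.Agent.TateGlob.K828.Vanish2

/-!
# Vanishing of `H^n(∏_{v ∉ T} O_v, 𝒢)` for smooth connected generic fibre (helper828)
-/

set_option autoImplicit false
set_option linter.unusedSectionVars false

universe u

open CategoryTheory CategoryTheory.Limits AlgebraicGeometry Opposite MonoidalCategory CartesianMonoidalCategory MonObj
open AdFn FunFld K660.Places K828.AdLim

namespace K828.OHatVan

section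

variable {O : Type u} [CommRing O] (𝒢 : Over (Spec (CommRingCat.of O)))

/-- Base change of properties. -/
theorem prop_comp (P : MorphismProperty Scheme.{u}) [P.IsStableUnderBaseChange] {k k' : Type u} [CommRing k]
    [CommRing k'] (ψ : O →+* k) (g : k →+* k') (χ : O →+* k') (hχ : g.comp ψ = χ)
    (h : P (BcPt.bcA ψ 𝒢).hom) : P (BcPt.bcA χ 𝒢).hom := by
  subst hχ
  let G := 𝒢.hom
  have h1 : IsPullback (pullback.fst G (Spec.map (CommRingCat.ofHom (g.comp ψ))))
      (pullback.snd G (Spec.map (CommRingCat.ofHom (g.comp ψ)))) G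
      (Spec.map (CommRingCat.ofHom g) ≫ Spec.map (CommRingCat.ofHom ψ)) := by
    have h2 : Spec.map (CommRingCat.ofHom g) ≫ Spec.map (CommRingCat.ofHom ψ) =
      Spec.map (CommRingCat.ofHom (g.comp ψ)) := by rw [← Spec.map_comp, ← CommRingCat.ofHom_comp]
    rw [h2]
    exact IsPullback.of_hasPullback _ _
  have h3 := IsPullback.of_hasPullback G (Spec.map (CommRingCat.ofHom ψ))
  have h4 : IsPullback (h3.lift (pullback.fst G (Spec.map (CommRingCat.ofHom (g.comp ψ))))
      (pullback.snd G (Spec.map (CommRingCat.ofHom (g.comp ψ))) ≫ Spec.map (CommRingCat.ofHom g))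
      (by rw [h1.w, Category.assoc])) (pullback.snd G (Spec.map (CommRingCat.ofHom (g.comp ψ))))
      (pullback.snd G (Spec.map (CommRingCat.ofHom ψ))) (Spec.map (CommRingCat.ofHom g)) :=
    IsPullback.of_right (by rw [h3.lift_fst]; exact h1) (h3.lift_snd _ _ _) h3
  exact MorphismProperty.of_isPullback (P := P) h4 h

end

/-- A connected group scheme over a field is geometrically connected. -/
theorem geomConn_of_connected {K : Type u} [Field K] (A : Over (Spec (CommRingCat.of K))) [GrpObj A]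
    [ConnectedSpace A.left] : GeometricallyConnected A.hom := by
  have h0 : (η[A] : 𝟙_ (Over (Spec (CommRingCat.of K))) ⟶ A).left ≫ A.hom = 𝟙 _ := Over.w _
  have h1 : GeometricallyConnected ((η[A] : 𝟙_ (Over (Spec (CommRingCat.of K))) ⟶ A).left ≫ A.hom) := by
    rw [h0]
    refine ⟨fun L _ y T fst snd h => ?_⟩
    have : IsIso snd := h.isIso_snd_of_isIso
    have e := Scheme.homeoOfIso (asIso snd)
    exact e.symm.surjective.connectedSpace e.symm.continuous
  have : ConnectedSpace (𝟙_ (Over (Spec (CommRingCat.of K)))).left :=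
    inferInstanceAs (ConnectedSpace (Spec (CommRingCat.of K)))
  exact Groth.Agent.Fdesc.GeomConn.geometricallyConnected_of_hom A.hom
    (η[A] : 𝟙_ (Over (Spec (CommRingCat.of K))) ⟶ A).left

section

variable {k K : Type u} [Field k] [Field K] [Algebra k K] {S : Set (FunFld.Place k K)}

/-- `O_T → O_v` -/
noncomputable def stOv (T : Idx S) {v : Place k K} (hv : v ∉ (↑T.1 : Set (Place k K))) : SpreadK.RK S T →+* Ov v :=
  ((toKv v).comp (SpreadK.RK S T).subtype).codRestrict (Ov v).toSubring fun x => (toKv_mem_Ov v x.1).2 (x.2 v hv)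

/-- `O_T → ∏_{v ∉ T'} O_v` -/
noncomputable def stOHat (T : Idx S) {T' : Set (Place k K)} (h : (↑T.1 : Set (Place k K)) ⊆ T') :
    SpreadK.RK S T →+* OHat T' :=
  RingHom.pi fun w => stOv T fun hw => w.2 (h hw)

theorem stOHat_comp (T : Idx S) {T' : Set (Place k K)} (h : (↑T.1 : Set (Place k K)) ⊆ T') :
    (stOHat T h).comp (SpreadK.stK T) = toOHat' (T.2.trans h) := rfl

theorem stOv_comp (T : Idx S) {v : Place k K} (hv : v ∉ (↑T.1 : Set (Place k K))) :
    (stOv T hv).comp (SpreadK.stK T) = SInt.toOv S (fun hw => hv (T.2 hw)) := rfl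

/-- **Vanishing**: for `𝒢` over `O_S` with smooth connected generic fibre, `H^n(∏_{v ∉ T} O_v, 𝒢) = 0` for `n > 0` and
`T` large, and `H^n(O_v, 𝒢) = 0` for almost all `v`. -/
theorem exists_vanish [Finite k] [HasFinitePoles k K] {t : K} (ht : IsGen k K t) (hS : S.Finite) (hne : S.Nonempty)
    (𝒢 : Over (Spec (CommRingCat.of (SInt S)))) [GrpObj 𝒢] [IsCommMonObj 𝒢] [IsSeparated 𝒢.hom]
    [LocallyOfFiniteType 𝒢.hom] [QuasiCompact 𝒢.hom]
    (hsm : Smooth (pullback.snd 𝒢.hom (Spec.map (CommRingCat.ofHom (SInt.toK S)))))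
    (hconn : ConnectedSpace ↑(pullback 𝒢.hom (Spec.map (CommRingCat.ofHom (SInt.toK S))))) :
    ∃ T₀ : Idx S, (∀ T : Idx S, T₀ ≤ T → ∀ n : ℕ, 0 < n → Subsingleton
      (BigSite.HU Scheme.fppfPrecoverage (CGrpSh.pts Scheme.fppfPrecoverage 𝒢) n (specOf (toOHat' T.2)))) ∧
      ∀ (v : Place k K) (hv : v ∉ (↑T₀.1 : Set (Place k K))) (n : ℕ), 0 < n → Subsingleton
        (BigSite.HU Scheme.fppfPrecoverage (CGrpSh.pts Scheme.fppfPrecoverage 𝒢) n
          (specOf (SInt.toOv S (fun hw => hv (T₀.2 hw))))) := by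
  have hgc : GeometricallyConnected (pullback.snd 𝒢.hom (Spec.map (CommRingCat.ofHom (SInt.toK S)))) := by
    have h1 : ConnectedSpace (BcPt.bcA (SInt.toK S) 𝒢).left := hconn
    exact geomConn_of_connected (BcPt.bcA (SInt.toK S) 𝒢)
  obtain ⟨T₁, h1⟩ := SpreadK.exists_smooth 𝒢 ht hS hne hsm
  obtain ⟨T₂, h2⟩ := SpreadK.exists_geomConn 𝒢 ht hS hne (η[𝒢] : 𝟙_ _ ⟶ 𝒢).left (Over.w _) hgc
  obtain ⟨T₀, hT₁, hT₂⟩ := exists_ge_ge T₁ T₂
  have hhens : ∀ v : Place k K, HenselianLocalRing (Ov v) := OvHens.henselian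
  have hfin : ∀ v : Place k K, Finite (IsLocalRing.ResidueField (Ov v)) := fun v => OvHens.finite_residueField v ht
  refine ⟨T₀, fun T hT n hn => ?_, fun v hv n hn => ?_⟩
  · refine Vanish.subsingleton_pi 𝒢 (fun w : {w : Place k K // w ∉ (↑T.1 : Set (Place k K))} => Ov w.1) (toOHat' T.2)
      ?_ ?_ ?_ ?_ n hn
    · exact prop_comp 𝒢 @Smooth _ (stOHat T₁ (fun w hw => (hT₁.trans hT) hw)) _ rfl h1
    · exact inferInstanceAs (IsSeparated (pullback.snd _ _))
    · exact inferInstanceAs (QuasiCompact (pullback.snd _ _))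
    · intro w
      exact prop_comp 𝒢 @GeometricallyConnected _ ((IsLocalRing.residue (Ov w.1)).comp
        (stOv T₂ (fun hw => w.2 ((hT₂.trans hT) hw)))) _ rfl h2
  · have := hhens v
    have := hfin v
    refine Vanish.subsingleton_one 𝒢 (Ov v) (SInt.toOv S (fun hw => hv (T₀.2 hw))) ?_ ?_ ?_ ?_ n hn
    · exact prop_comp 𝒢 @Smooth _ (stOv T₁ (fun hw => hv (hT₁ hw))) _ rfl h1
    · exact inferInstanceAs (IsSeparated (pullback.snd _ _))
    · exact inferInstanceAs (QuasiCompact (pullback.snd _ _))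
    · exact prop_comp 𝒢 @GeometricallyConnected _ ((IsLocalRing.residue (Ov v)).comp
        (stOv T₂ (fun hw => hv (hT₂ hw)))) _ rfl h2

end

end K828.OHatVan
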