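import Groth.Agent.TateGlob.K828.Main67
import Groth.Agent.TateGlob.K828.LpPts
import Groth.Agent.TateGlob.K963.AsmBig
import Groth.Agent.TateGlob.K829.SIntBase

/-!
# `H^n(A_K, 𝒢) → ∏_v H^n(K_v, 𝒢)` when the cohomology of `∏ O_v` vanishes (helper828)

* `selfMdl`: a flat separated group over `O_S` as a model of its generic fibre;
* `oZero_of_mdl`: vanishing for the enlargements of the model gives `K963.Asm.OZero`.
-/

set_option autoImplicit false
set_option linter.unusedSectionVars false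

universe u

open CategoryTheory CategoryTheory.Limits AlgebraicGeometry Opposite MonoidalCategory CartesianMonoidalCategory MonObj
open AdFn FunFld K660.Places K828.AdLim K620.GMod

namespace K828.Main64

variable {k K : Type u} [Field k] [Field K] [Algebra k K] {S : Set (Place k K)}

/-- A group over `O_S` as a model of its generic fibre. -/
noncomputable def selfMdl (𝒢 : Over (Spec (CommRingCat.of (SInt S)))) [GrpObj 𝒢] [IsCommMonObj 𝒢] [Flat 𝒢.hom]
    [IsSeparated 𝒢.hom] [LocallyOfFinitePresentation 𝒢.hom] [QuasiCompact 𝒢.hom] :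
    MdlS S (Red.bc (Spec.map (CommRingCat.ofHom (SInt.toK S))) 𝒢) where
  X := 𝒢
  e := Iso.refl _
  mon := by
    rw [Iso.refl_hom]
    infer_instance

/-- Vanishing for the enlargements of a model. -/
theorem oZero_of_mdl (𝒢 : Over (Spec (CommRingCat.of (SInt S)))) [GrpObj 𝒢] [IsCommMonObj 𝒢] [Flat 𝒢.hom]
    [IsSeparated 𝒢.hom] [LocallyOfFinitePresentation 𝒢.hom] [QuasiCompact 𝒢.hom] (n : ℕ) {T₁ : Set (Place k K)}
    (h : ∀ (T : Set (Place k K)), T.Finite → ∀ (h : S ⊆ T), T₁ ⊆ T → Subsingleton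
      (AdFn.HOHat Scheme.fppfPrecoverage T (CGrpSh.pts Scheme.fppfPrecoverage ((selfMdl 𝒢).enl h).X) n)) :
    K963.Asm.OZero (BigCoh.bigCoh Scheme.fppfPrecoverage _) (CGrpSh.pts Scheme.fppfPrecoverage 𝒢) n T₁ := by
  intro T hT hST hT₁ x
  have h1 := h T hT hST hT₁
  have h2 : Subsingleton (BigSite.HU Scheme.fppfPrecoverage (CGrpSh.pts Scheme.fppfPrecoverage 𝒢) n
      (specOf (K963.AdLev.toOH hST))) := by
    refine Vanish.subsingleton_HU_comp Scheme.fppfPrecoverage (inclS hST)
      (Spec.map (CommRingCat.ofHom (SInt.toOHat T))) _ ?_ 𝒢 n h1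
    rw [← Spec.map_comp]
    rfl
  exact @Subsingleton.elim _ h2 _ _

end K828.Main64
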