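import Groth.Agent.TateGlob.K828.AdLim

/-!
# The cohomology of the adele ring (helper828)

`F` a limit preserving abelian sheaf on the big fppf site of `Spec O_S`.
-/

set_option autoImplicit false
set_option linter.unusedSectionVars false

universe u

open CategoryTheory CategoryTheory.Limits AlgebraicGeometry Opposite
open AdFn K828.Cartan K828.GalSch K828.LPre

namespace K828.AdLim

variable {k K : Type u} [Field k] [Field K] [Algebra k K] {S : Set (FunFld.Place k K)}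
  [HasFinitePoles k K] (𝓗 : CohT Scheme.fppfPrecoverage (Spec (CommRingCat.of (SInt S)))) {n : ℕ}
  {F : BigSite.Ab Scheme.fppfPrecoverage (Spec (CommRingCat.of (SInt S)))}

/-- Every class over the adele ring comes from a stage. -/
theorem exists_stage (hS : S.Finite) (hF : LP F.obj) (x : 𝓗.H F n (specOf (SInt.toAd S))) (T₀ : Idx S) :
    ∃ (T : Idx S) (_ : T₀ ≤ T) (y : 𝓗.H F n (stage T)), 𝓗.res (toStage T) y = x := by
  have := nonempty_idx hS
  obtain ⟨hc⟩ := RingLim.nonempty_isLimit (SInt.toAd S) (R S) toAd_mem (exists_mem hS)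
  obtain ⟨T, y, hy⟩ := Limit.exists_res 𝓗 hc (fun i => inferInstance) inferInstance hF x
  obtain ⟨T', h1, h2⟩ := exists_ge_ge T₀ T.unop
  refine ⟨T', h1, 𝓗.res (tr h2) y, ?_⟩
  rw [← 𝓗.res_comp, toStage_tr]
  exact hy

/-- A class at a stage which dies over the adele ring dies at a later stage. -/
theorem exists_tr_eq_zero (hS : S.Finite) (hF : LP F.obj) {T : Idx S} (y : 𝓗.H F n (stage T))
    (hy : 𝓗.res (toStage T) y = 0) : ∃ (T' : Idx S) (h : T ≤ T'), 𝓗.res (tr h) y = 0 := by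
  have := nonempty_idx hS
  obtain ⟨hc⟩ := RingLim.nonempty_isLimit (SInt.toAd S) (R S) toAd_mem (exists_mem hS)
  obtain ⟨T', φ, h⟩ := Limit.exists_res_eq_zero 𝓗 hc (fun i => inferInstance) inferInstance hF (i := op T) y hy
  exact ⟨T'.unop, φ.unop.le, h⟩

theorem isDisj_stage (T : Idx S) : IsDisj Scheme.fppfPrecoverage
    (fun i : Pc T => specOfHom (RingLim.st (SInt.toAd S) (R S) toAd_mem T) (pcψ T i) (pcχ T i) (pcχ_comp T i)) :=
  isDisj_of_bijective _ _ _ _ _ (pc_bijective T)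

theorem stage_eq_zero (T : Idx S) (y : 𝓗.H F n (stage T)) (h1 : ∀ v ∈ T.1, 𝓗.res (stKv T v) y = 0)
    (h2 : 𝓗.res (stO T) y = 0) : y = 0 := by
  refine DisjVan.eq_zero 𝓗 (isDisj_stage T) n F y fun i => ?_
  match i with
  | none => exact h2
  | some v => exact h1 v.1 v.2

theorem exists_stage_class (T : Idx S) (a : ∀ v ∈ T.1, 𝓗.H F n (specOf (SInt.toKv S v)))
    (b : 𝓗.H F n (specOf (toOHat' T.2))) : ∃ y : 𝓗.H F n (stage T), 𝓗.res (stO T) y = b ∧
      ∀ v (hv : v ∈ T.1), 𝓗.res (stKv T v) y = a v hv := by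
  obtain ⟨y, hy⟩ := DisjVan.exists_glue 𝓗 (isDisj_stage T) n F (fun i =>
    match i with
    | none => b
    | some v => a v.1 v.2)
  exact ⟨y, hy none, fun v hv => hy (some ⟨v, hv⟩)⟩

theorem res_int_stO (T : Idx S) {v : FunFld.Place k K} (hv : v ∉ (↑T.1 : Set (FunFld.Place k K)))
    (y : 𝓗.H F n (stage T)) : 𝓗.res (intResHom S (fun hw => hv (T.2 hw))) (𝓗.res (oHatOv _ T.2 hv)
      (𝓗.res (stO T) y)) = 𝓗.res (stKv T v) y := by
  rw [← 𝓗.res_comp, ← 𝓗.res_comp, Category.assoc, int_stO]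

theorem res_ad (T : Idx S) (v : FunFld.Place k K) (y : 𝓗.H F n (stage T)) :
    𝓗.res (adProjSHom S v) (𝓗.res (toStage T) y) = 𝓗.res (stKv T v) y := by
  rw [← 𝓗.res_comp, adProj_toStage]

/-- Injectivity criterion. -/
theorem eq_zero_of_forall (hS : S.Finite) (hF : LP F.obj) (T₀ : Idx S)
    (h : ∀ T, T₀ ≤ T → ∀ z : 𝓗.H F n (specOf (toOHat' T.2)),
      (∀ v (hv : v ∉ (↑T.1 : Set (FunFld.Place k K))), 𝓗.res (intResHom S (fun hw => hv (T.2 hw)))
        (𝓗.res (oHatOv _ T.2 hv) z) = 0) → z = 0)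
    (x : 𝓗.H F n (specOf (SInt.toAd S))) (hx : ∀ v, 𝓗.res (adProjSHom S v) x = 0) : x = 0 := by
  obtain ⟨T, hT, y, rfl⟩ := exists_stage 𝓗 hS hF x T₀
  have hy : ∀ v, 𝓗.res (stKv T v) y = 0 := fun v => by rw [← res_ad, hx]
  rw [stage_eq_zero 𝓗 T y (fun v _ => hy v) (h T hT _ fun v hv => by rw [res_int_stO, hy]), map_zero]

/-- Surjectivity criterion. -/
theorem exists_of_eventually (T₀ : Idx S)
    (h : ∀ T, T₀ ≤ T → ∀ w : ∀ v (hv : v ∉ (↑T.1 : Set (FunFld.Place k K))),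
      𝓗.H F n (specOf (SInt.toOv S (fun hw => hv (T.2 hw)))), ∃ z : 𝓗.H F n (specOf (toOHat' T.2)),
        ∀ v hv, 𝓗.res (oHatOv _ T.2 hv) z = w v hv)
    (y : ∀ v, 𝓗.H F n (specOf (SInt.toKv S v)))
    (hy : ∀ᶠ v in Filter.cofinite, ∃ (hv : v ∉ S) (w : 𝓗.H F n (specOf (SInt.toOv S hv))),
      𝓗.res (intResHom S hv) w = y v) :
    ∃ x : 𝓗.H F n (specOf (SInt.toAd S)), ∀ v, 𝓗.res (adProjSHom S v) x = y v := by
  classical
  let T₁ : Idx S := ⟨T₀.1 ∪ hy.toFinset, fun v hv => Finset.mem_coe.2 (Finset.mem_union_left _ (T₀.2 hv))⟩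
  have h1 : ∀ v, v ∉ (↑T₁.1 : Set (FunFld.Place k K)) → ∃ (hv : v ∉ S) (w : 𝓗.H F n (specOf (SInt.toOv S hv))),
      𝓗.res (intResHom S hv) w = y v := by
    intro v hv
    by_contra hc
    exact hv (Finset.mem_coe.2 (Finset.mem_union_right _ ((Set.Finite.mem_toFinset hy).2 hc)))
  choose hv' w hw using h1
  obtain ⟨z, hz⟩ := h T₁ (fun v hv => Finset.mem_union_left _ hv) w
  obtain ⟨t, ht1, ht2⟩ := exists_stage_class 𝓗 T₁ (fun v _ => y v) z
  refine ⟨𝓗.res (toStage T₁) t, fun v => ?_⟩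
  rw [res_ad]
  by_cases hv : v ∈ T₁.1
  · exact ht2 v hv
  · rw [← res_int_stO 𝓗 T₁ (v := v) hv, ht1, hz, hw]

/-- Classes over the adele ring are integral almost everywhere. -/
theorem eventually_int (hS : S.Finite) (hF : LP F.obj) (x : 𝓗.H F n (specOf (SInt.toAd S))) :
    ∀ᶠ v in Filter.cofinite, ∃ (hv : v ∉ S) (w : 𝓗.H F n (specOf (SInt.toOv S hv))),
      𝓗.res (intResHom S hv) w = 𝓗.res (adProjSHom S v) x := by
  obtain ⟨T, -, y, rfl⟩ := exists_stage 𝓗 hS hF x (nonempty_idx hS).some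
  rw [Filter.eventually_cofinite]
  refine T.1.finite_toSet.subset fun v hv => ?_
  by_contra hc
  exact hv ⟨fun hw => hc (T.2 hw), 𝓗.res (oHatOv _ T.2 hc) (𝓗.res (stO T) y), by rw [res_int_stO, res_ad]⟩

/-- Classes over the adele ring vanish almost everywhere if the cohomology of the `∏_{v ∉ T} O_v` vanishes. -/
theorem eventually_zero (hS : S.Finite) (hF : LP F.obj) (T₀ : Idx S)
    (h : ∀ T, T₀ ≤ T → ∀ z : 𝓗.H F n (specOf (toOHat' T.2)), z = 0) (x : 𝓗.H F n (specOf (SInt.toAd S))) :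
    ∀ᶠ v in Filter.cofinite, 𝓗.res (adProjSHom S v) x = 0 := by
  obtain ⟨T, hT, y, rfl⟩ := exists_stage 𝓗 hS hF x T₀
  rw [Filter.eventually_cofinite]
  refine T.1.finite_toSet.subset fun v hv => ?_
  by_contra hc
  exact hv (by rw [res_ad, ← res_int_stO 𝓗 T hc, h T hT (𝓗.res (stO T) y), map_zero, map_zero])

end K828.AdLim
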