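import Groth.Agent.TateGlob.K828.OHatVan
import Groth.Agent.TateGlob.K620.ModS
import Groth.Agent.TateGlob.K620.MdlPts

/-!
# Models with vanishing cohomology over `∏ O_v` (helper828)
-/

set_option autoImplicit false
set_option linter.unusedSectionVars false

universe u

open CategoryTheory CategoryTheory.Limits AlgebraicGeometry Opposite MonoidalCategory CartesianMonoidalCategory MonObj
open AdFn FunFld K660.Places K828.AdLim K620.GMod

namespace K828.Main67

/-- Restriction in two steps, reversed. -/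
theorem subsingleton_HU_bc (K : Precoverage Scheme.{u}) {S T : Scheme.{u}} [(QuotSh.J K S).Subcanonical]
    [(QuotSh.J K T).Subcanonical] (f : T ⟶ S) {U : Scheme.{u}} (g : U ⟶ T) (h : U ⟶ S) (hgf : g ≫ f = h)
    (G : Over S) [GrpObj G] [IsCommMonObj G] (j : ℕ)
    (hH : Subsingleton (BigSite.HU K (CGrpSh.pts K G) j (Over.mk h))) :
    Subsingleton (BigSite.HU K (CGrpSh.pts K (Red.bc f G)) j (Over.mk g)) := by
  let gg : Over.mk h ⟶ Over.mk f := Over.homMk g hgf
  have e1 := HRes.pullIso K (CGrpSh.pts K G) gg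
  have e2 := (BigSite.pullBig K g AddCommGrpCat.{u + 1}).mapIso (K809.PtsPull.ptsPull K f G)
  exact Vanish.subsingleton_H_of_iso (e2.symm ≪≫ e1) j hH

variable {k K : Type u} [Field k] [Field K] [Algebra k K]

theorem main [Finite k] [HasFinitePoles k K] {t : K} (ht : IsGen k K t) (G : Over (Spec (CommRingCat.of K))) [GrpObj G]
    [IsCommMonObj G] [IsSeparated G.hom] [Smooth G.hom] [QuasiCompact G.hom] [ConnectedSpace G.left] :
    ∃ (S : Set (Place k K)) (_ : S.Finite) (_ : S.Nonempty) (M : MdlS S G), ∀ n : ℕ, 0 < n →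
      Subsingleton (AdFn.HOHat Scheme.fppfPrecoverage S (CGrpSh.pts Scheme.fppfPrecoverage M.X) n) := by
  have : K620.Sys.FinPoles k K := K620.Sys.finPoles_of_isGen ht
  obtain ⟨S₁, hS₁, hne₁, -, ⟨M⟩⟩ := exists_mdlS (k := k) G (Set.finite_empty)
  have hsm : Smooth (pullback.snd M.X.hom (Spec.map (CommRingCat.ofHom (SInt.toK S₁)))) := by
    have h1 : M.e.hom.left ≫ G.hom = (Red.bc (Spec.map (CommRingCat.ofHom (SInt.toK S₁))) M.X).hom := Over.w M.e.hom
    have h2 : IsIso M.e.hom.left := inferInstance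
    have h3 : Smooth (M.e.hom.left ≫ G.hom) := inferInstance
    rw [h1] at h3
    exact h3
  have hconn : ConnectedSpace ↑(pullback M.X.hom (Spec.map (CommRingCat.ofHom (SInt.toK S₁)))) := by
    let ε : G.left ≅ pullback M.X.hom (Spec.map (CommRingCat.ofHom (SInt.toK S₁))) :=
      (Over.forget _).mapIso M.e.symm
    exact (Scheme.homeoOfIso ε).surjective.connectedSpace (Scheme.homeoOfIso ε).continuous
  obtain ⟨T₀, hT₀, -⟩ := OHatVan.exists_vanish ht hS₁ hne₁ M.X hsm hconn
  refine ⟨(↑T₀.1 : Set (Place k K)), T₀.1.finite_toSet, hne₁.mono T₀.2, M.enl T₀.2, fun n hn => ?_⟩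
  exact subsingleton_HU_bc Scheme.fppfPrecoverage (inclS T₀.2)
    (Spec.map (CommRingCat.ofHom (SInt.toOHat (↑T₀.1 : Set (Place k K)))))
    (Spec.map (CommRingCat.ofHom (toOHat' T₀.2))) (by rw [← Spec.map_comp]; rfl) M.X n (hT₀ T₀ le_rfl n hn)

end K828.Main67
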