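import Groth.Agent.TateGlob.K828.Cartan

/-!
# Cartan's criterion, second form (helper828)

`𝒞` a class of objects, `Φ` a class of covering morphisms; all classes of `F` over objects of `𝒞` die on coverings of
the class `Φ` and `F` is Čech acyclic for them: then the cohomology of `F` vanishes on `𝒞` in positive degrees.
-/

set_option autoImplicit false

universe u

open CategoryTheory CategoryTheory.Limits AlgebraicGeometry Opposite
open Groth.Agent.Etrest.FppfCoch K828.Cech K828.Cartan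

namespace K828.Cartan2

variable {K : Precoverage Scheme.{u}} {S : Scheme.{u}} (𝒞 : ObjectProperty (Over S)) (Φ : MorphismProperty (Over S))

/-- Objects and coverings. -/
structure IsGood (K : Precoverage Scheme.{u}) (𝒞 : ObjectProperty (Over S)) (Φ : MorphismProperty (Over S)) : Prop where
  rep : ∀ {T' T : Over S} (p : T' ⟶ T), 𝒞 T → Φ p → ∀ n, ∃ R : Rep p (𝟙 T) n, 𝒞 R.Y
  cov : ∀ {T' T : Over S} (p : T' ⟶ T), 𝒞 T → Φ p → Sieve.generate (Presieve.singleton p) ∈ QuotSh.J K S T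

/-- Classes of `F` of positive degree over objects of `𝒞` die on `Φ`-coverings. -/
def Dies (𝓗 : CohT K S) (F : BigSite.Ab K S) : Prop :=
  ∀ (n : ℕ) {T : Over S}, 𝒞 T → ∀ x : 𝓗.H F (n + 1) T, ∃ (T' : Over S) (p : T' ⟶ T), Φ p ∧ 𝓗.res p x = 0

variable {𝒞 Φ}

theorem dies_quotient {𝓗 : CohT K S} {A : ShortComplex (BigSite.Ab K S)} (hA : A.ShortExact) [Injective A.X₂]
    (h : Dies 𝒞 Φ 𝓗 A.X₁) : Dies 𝒞 Φ 𝓗 A.X₃ := by
  intro n T hT x
  obtain ⟨T', p, hp, h0⟩ := h (n + 1) hT (𝓗.del hA x)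
  refine ⟨T', p, hp, ?_⟩
  rw [← 𝓗.del_res] at h0
  obtain ⟨y, hy⟩ := 𝓗.exact₃ hA _ h0
  rw [← hy, 𝓗.inj A.X₂ y, map_zero]

/-- Degree one. -/
theorem exists_section_lift (h : IsGood K 𝒞 Φ) {𝓗 : CohT K S} {A : ShortComplex (BigSite.Ab K S)}
    (hA : A.ShortExact) (hd : Dies 𝒞 Φ 𝓗 A.X₁)
    (hG : ∀ {T' T : Over S} (p : T' ⟶ T), 𝒞 T → Φ p → Acy A.X₁.obj p) {T : Over S} (hT : 𝒞 T)
    (q : A.X₃.obj.obj (op T)) : ∃ s : A.X₂.obj.obj (op T), A.g.hom.app (op T) s = q := by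
  obtain ⟨T', p, hp, h0⟩ := hd 0 hT (𝓗.del hA (𝓗.sec.symm q))
  rw [← 𝓗.del_res] at h0
  obtain ⟨y, hy⟩ := 𝓗.exact₃ hA _ h0
  refine exists_lift_of_acy (le_of_shortExact hA) A.X₂.property A.X₃.property (h.cov p hT hp)
    (fun c hc hz => hG p hT hp 0 c hc hz) q (𝓗.sec y) ?_
  rw [← 𝓗.sec_map, hy, 𝓗.sec_res, AddEquiv.apply_symm_apply]

/-- Cartan's criterion. -/
theorem eq_zero (h : IsGood K 𝒞 Φ) (𝓗 : CohT K S) (n : ℕ) : ∀ (F : BigSite.Ab K S) (_ : Dies 𝒞 Φ 𝓗 F)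
    (_ : ∀ {T' T : Over S} (p : T' ⟶ T), 𝒞 T → Φ p → Acy F.obj p) {T : Over S} (_ : 𝒞 T) (x : 𝓗.H F (n + 1) T),
    x = 0 := by
  induction n with
  | zero =>
    intro F hd hF T hT x
    obtain ⟨A, hA, rfl, hI⟩ := CohT.exists_injective_embedding F
    obtain ⟨y, rfl⟩ := 𝓗.exists_del hA x
    obtain ⟨s, hs⟩ := exists_section_lift h hA hd hF hT (𝓗.sec y)
    rw [show y = 𝓗.map A.g (𝓗.sec.symm s) from ?_, 𝓗.del_map]
    apply 𝓗.sec.injective
    rw [𝓗.sec_map, AddEquiv.apply_symm_apply, hs]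
  | succ n ih =>
    intro F hd hF T hT x
    obtain ⟨A, hA, rfl, hI⟩ := CohT.exists_injective_embedding F
    obtain ⟨y, rfl⟩ := 𝓗.exists_del hA x
    rw [ih A.X₃ (dies_quotient hA hd) (fun p hT hp => acy_quotient (le_of_shortExact hA) (hF p hT hp)
      (acy_of_injective A.X₂ p) (fun n => by
        obtain ⟨R, hR⟩ := h.rep p hT hp n
        exact ⟨R, fun q => exists_section_lift h hA hd hF hR q⟩)) hT y, map_zero]

end K828.Cartan2
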