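import Mathlib.RingTheory.TensorProduct.Pi
import Mathlib.RingTheory.Finiteness.Basic
import Mathlib.RingTheory.Flat.Basic
import Mathlib.Algebra.Module.Projective
import Mathlib.RingTheory.FinitePresentation
import Mathlib.Algebra.Module.FinitePresentation
import Mathlib.RingTheory.LocalRing.ResidueField.Basic
import Mathlib.RingTheory.Nakayama

/-!
# Galois extensions of rings (helper828)

`IsGal τ`: the finite commutative group `G` acts on the `A`-algebra `B`, `A` is the ring of invariants and for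
`a ≠ 1` there is `b` with `b - τ a b` a unit.  Then `C ⊗_A B ≅ ∏_G C` for `h : B → C`, and `B` is finite projective.
-/

set_option autoImplicit false
set_option linter.unusedSectionVars false

universe u

open scoped TensorProduct

namespace K828.GalRing

variable {A B : Type u} [CommRing A] [CommRing B] [Algebra A B] {G : Type} [CommGroup G]

/-- Galois extensions. -/
structure IsGal (τ : G →* (B →ₐ[A] B)) : Prop where
  inj : Function.Injective (algebraMap A B)
  inv : ∀ b : B, (∀ a, τ a b = b) → b ∈ Set.range (algebraMap A B)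
  sep : ∀ a : G, a ≠ 1 → ∃ b : B, IsUnit (b - τ a b)

variable {τ : G →* (B →ₐ[A] B)}

theorem τ_mul (a b : G) (x : B) : τ (a * b) x = τ a (τ b x) := by
  rw [map_mul]; rfl

theorem τ_one (x : B) : τ 1 x = x := by
  rw [map_one]; rfl

/-- The functions `a ↦ ∑ x_j τ_a(y_j)` form a subring. -/
def sub (τ : G →* (B →ₐ[A] B)) : Subring (G → B) where
  carrier := {f | ∃ (ι : Type) (_ : Fintype ι) (x y : ι → B), ∀ a, f a = ∑ j, x j * τ a (y j)}
  mul_mem' := by
    rintro f g ⟨ι, _, x, y, hf⟩ ⟨ι', _, x', y', hg⟩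
    refine ⟨ι × ι', inferInstance, fun j => x j.1 * x' j.2, fun j => y j.1 * y' j.2, fun a => ?_⟩
    rw [Pi.mul_apply, hf, hg, Finset.sum_mul_sum, Fintype.sum_prod_type]
    refine Finset.sum_congr rfl fun i _ => Finset.sum_congr rfl fun i' _ => ?_
    rw [map_mul]
    ring
  one_mem' := ⟨Unit, inferInstance, fun _ => 1, fun _ => 1, fun a => by simp⟩
  add_mem' := by
    rintro f g ⟨ι, _, x, y, hf⟩ ⟨ι', _, x', y', hg⟩
    refine ⟨ι ⊕ ι', inferInstance, Sum.elim x x', Sum.elim y y', fun a => ?_⟩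
    rw [Pi.add_apply, hf, hg, Fintype.sum_sum_type]
    rfl
  zero_mem' := ⟨Empty, inferInstance, fun _ => 0, fun _ => 0, fun a => by simp⟩
  neg_mem' := by
    rintro f ⟨ι, _, x, y, hf⟩
    refine ⟨ι, inferInstance, fun j => - x j, y, fun a => ?_⟩
    rw [Pi.neg_apply, hf, ← Finset.sum_neg_distrib]
    exact Finset.sum_congr rfl fun i _ => (neg_mul _ _).symm

variable (h : IsGal τ) [Fintype G] [DecidableEq G]

include h in
theorem exists_pairs : ∃ (ι : Type) (_ : Fintype ι) (x y : ι → B), ∀ a, ∑ j, x j * τ a (y j) = if a = 1 then 1 else 0 := by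
  have h1 : ∀ a : G, a ≠ 1 → ∃ f ∈ sub τ, f 1 = 1 ∧ f a = 0 := by
    intro a ha
    obtain ⟨b, hb⟩ := h.sep a ha
    obtain ⟨u, hu⟩ := hb
    refine ⟨fun c => ↑u⁻¹ * (τ c b - τ a b), ⟨Bool, inferInstance, fun i => if i then (↑u⁻¹ : B) else - (↑u⁻¹ * τ a b),
      fun i => if i then b else 1, fun c => ?_⟩, ?_, ?_⟩
    · rw [Fintype.sum_bool]
      simp only [↓reduceIte, Bool.false_eq_true, map_one, mul_one]
      ring
    · dsimp only
      rw [τ_one, ← hu, Units.inv_mul]
    · dsimp only
      rw [sub_self, mul_zero]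
  choose! f hf hf1 hf0 using h1
  let g : G → B := ∏ a ∈ Finset.univ.erase (1 : G), f a
  have hg : g ∈ sub τ := (sub τ).prod_mem fun a ha => hf a (Finset.ne_of_mem_erase ha)
  obtain ⟨ι, hι, x, y, hxy⟩ := hg
  refine ⟨ι, hι, x, y, fun a => ?_⟩
  rw [← hxy a]
  change (∏ a ∈ Finset.univ.erase (1 : G), f a) a = _
  rw [Finset.prod_apply]
  split_ifs with ha
  · rw [ha]
    exact Finset.prod_eq_one fun c hc => hf1 c (Finset.ne_of_mem_erase hc)
  · exact Finset.prod_eq_zero (Finset.mem_erase.2 ⟨ha, Finset.mem_univ a⟩) (hf0 a ha)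

include h in
theorem exists_trace (b : B) : ∃ t : A, algebraMap A B t = ∑ a, τ a b := by
  refine h.inv _ fun c => ?_
  rw [map_sum]
  refine Eq.trans ?_ (Equiv.sum_comp (Equiv.mulLeft c) (fun a => τ a b))
  exact Finset.sum_congr rfl fun a _ => (τ_mul c a b).symm

/-- The trace. -/
noncomputable def tr : B →ₗ[A] A where
  toFun b := (exists_trace h b).choose
  map_add' b c := by
    apply h.inj
    rw [map_add, (exists_trace h _).choose_spec, (exists_trace h b).choose_spec, (exists_trace h c).choose_spec,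
      ← Finset.sum_add_distrib]
    exact Finset.sum_congr rfl fun a _ => map_add _ _ _
  map_smul' r b := by
    apply h.inj
    rw [RingHom.id_apply, smul_eq_mul, map_mul, (exists_trace h _).choose_spec, (exists_trace h b).choose_spec,
      Finset.mul_sum]
    exact Finset.sum_congr rfl fun a _ => by rw [map_smul, Algebra.smul_def]

theorem algebraMap_tr (b : B) : algebraMap A B (tr h b) = ∑ a, τ a b := (exists_trace h b).choose_spec

section pairs

variable {ι : Type} [Fintype ι] {x y : ι → B} (hxy : ∀ a, ∑ j, x j * τ a (y j) = if a = 1 then 1 else 0)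

include hxy in
theorem sum_tr (b : B) : ∑ j, tr h (b * x j) • y j = b := by
  have h1 : ∀ j, tr h (b * x j) • y j = ∑ a, τ a b * (τ a (x j) * y j) := by
    intro j
    rw [Algebra.smul_def, algebraMap_tr, Finset.sum_mul]
    exact Finset.sum_congr rfl fun a _ => by rw [map_mul, mul_assoc]
  rw [Finset.sum_congr rfl fun j _ => h1 j, Finset.sum_comm]
  have h2 : ∀ a, ∑ j, τ a b * (τ a (x j) * y j) = if a = 1 then b else 0 := by
    intro a
    rw [← Finset.mul_sum]
    have h3 : ∑ j, τ a (x j) * y j = τ a (∑ j, x j * τ a⁻¹ (y j)) := by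
      rw [map_sum]
      refine Finset.sum_congr rfl fun j _ => ?_
      rw [map_mul, ← τ_mul, mul_inv_cancel, τ_one]
    rw [h3, hxy]
    by_cases ha : a = 1
    · subst ha
      rw [inv_one, if_pos rfl, if_pos rfl, τ_one, τ_one, mul_one]
    · rw [if_neg (inv_ne_one.2 ha), if_neg ha, map_zero, mul_zero]
  rw [Finset.sum_congr rfl fun a _ => h2 a, Finset.sum_ite_eq' Finset.univ 1 (fun _ => b), if_pos (Finset.mem_univ _)]

/-- The map `C ⊗_A B → ∏_G C`. -/
noncomputable def Φ (τ : G →* (B →ₐ[A] B)) {C : Type u} [CommRing C] [Algebra A C] (f : B →ₐ[A] C) :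
    C ⊗[A] B →ₐ[C] (G → C) :=
  Algebra.TensorProduct.lift (Algebra.ofId C (G → C)) (AlgHom.pi fun a => f.comp (τ a))
    fun _ _ => Commute.all _ _

theorem Φ_tmul {C : Type u} [CommRing C] [Algebra A C] (f : B →ₐ[A] C) (c : C) (b : B) (a : G) :
    Φ τ f (c ⊗ₜ b) a = c * f (τ a b) := by
  rw [Φ, Algebra.TensorProduct.lift_tmul]
  rfl

include h in
theorem Φ_bijective {C : Type u} [CommRing C] [Algebra A C] (f : B →ₐ[A] C) : Function.Bijective (Φ τ f) := by
  obtain ⟨ι, _, x, y, hxy⟩ := exists_pairs h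
  let Ψ : (G → C) →+ C ⊗[A] B :=
    { toFun := fun g => ∑ a, ∑ j, (g a * f (τ a (x j))) ⊗ₜ[A] y j
      map_zero' := by simp
      map_add' := fun g g' => by
        rw [← Finset.sum_add_distrib]
        refine Finset.sum_congr rfl fun a _ => ?_
        rw [← Finset.sum_add_distrib]
        refine Finset.sum_congr rfl fun j _ => ?_
        rw [Pi.add_apply, add_mul, TensorProduct.add_tmul] }
  have hΨ : ∀ g : G → C, Ψ g = ∑ a, ∑ j, (g a * f (τ a (x j))) ⊗ₜ[A] y j := fun _ => rfl
  refine Function.bijective_iff_has_inverse.2 ⟨Ψ, fun z => ?_, fun g => ?_⟩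
  · induction z using TensorProduct.induction_on with
    | zero => rw [map_zero, map_zero]
    | add z w hz hw => rw [map_add, map_add, hz, hw]
    | tmul c b =>
      rw [hΨ, Finset.sum_comm]
      have h1 : ∀ j, ∑ a, (Φ τ f (c ⊗ₜ b) a * f (τ a (x j))) ⊗ₜ[A] y j = c ⊗ₜ[A] (tr h (b * x j) • y j) := by
        intro j
        rw [← TensorProduct.sum_tmul]
        have h2 : ∑ a, Φ τ f (c ⊗ₜ b) a * f (τ a (x j)) = tr h (b * x j) • c := by
          rw [Algebra.smul_def, ← f.commutes, algebraMap_tr, map_sum, Finset.sum_mul]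
          refine Finset.sum_congr rfl fun a _ => ?_
          rw [Φ_tmul, map_mul, map_mul]
          ring
        rw [h2, TensorProduct.smul_tmul]
      rw [Finset.sum_congr rfl fun j _ => h1 j, ← TensorProduct.tmul_sum, sum_tr h hxy]
  · funext b
    rw [hΨ, map_sum, Finset.sum_apply]
    have h1 : ∀ a, (Φ τ f (∑ j, (g a * f (τ a (x j))) ⊗ₜ[A] y j)) b = if a = b then g a else 0 := by
      intro a
      rw [map_sum, Finset.sum_apply]
      have h2 : ∀ j, Φ τ f ((g a * f (τ a (x j))) ⊗ₜ[A] y j) b = g a * f (τ a (x j * τ (a⁻¹ * b) (y j))) := by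
        intro j
        rw [Φ_tmul, map_mul (τ a), ← τ_mul, mul_inv_cancel_left, map_mul f, mul_assoc]
      rw [Finset.sum_congr rfl fun j _ => h2 j, ← Finset.mul_sum, ← map_sum, ← map_sum, hxy]
      by_cases hab : a = b
      · rw [hab, inv_mul_cancel, if_pos rfl, if_pos rfl, map_one, map_one, mul_one]
      · rw [if_neg (fun e => hab (inv_mul_eq_one.1 e)), if_neg hab, map_zero, map_zero, mul_zero]
    rw [Finset.sum_congr rfl fun a _ => h1 a, Finset.sum_ite_eq' Finset.univ b g, if_pos (Finset.mem_univ _)]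

end pairs

include h in
theorem finite : Module.Finite A B := by
  obtain ⟨ι, _, x, y, hxy⟩ := exists_pairs h
  refine ⟨Submodule.fg_def.2 ⟨Set.range y, Set.finite_range y, ?_⟩⟩
  rw [eq_top_iff]
  intro b _
  rw [← sum_tr h hxy b]
  exact Submodule.sum_mem _ fun j _ => Submodule.smul_mem _ _ (Submodule.subset_span ⟨j, rfl⟩)

include h in
theorem projective : Module.Projective A B := by
  obtain ⟨ι, _, x, y, hxy⟩ := exists_pairs h
  let i : B →ₗ[A] (ι → A) := LinearMap.pi fun j => (tr h).comp (LinearMap.mulRight A (x j))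
  let s : (ι → A) →ₗ[A] B := Fintype.linearCombination A y
  refine Module.Projective.of_split i s ?_
  ext b
  change Fintype.linearCombination A y (i b) = b
  rw [Fintype.linearCombination_apply]
  exact sum_tr h hxy b

end K828.GalRing
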