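import Groth.Agent.TateGlob.K828.LSheaf

/-!
# Čech acyclicity passes to limits (helper828)
-/

set_option autoImplicit false

universe u

open CategoryTheory CategoryTheory.Limits AlgebraicGeometry Opposite
open Groth.Agent.Etrest.FppfCoch K828.LExt K828.Cech K828.LPre K828.LSheaf

namespace K828.LAcy

section general

variable {C : Type (u + 1)} [Category.{u} C]

/-- Čech cocycles of positive degree for the base change of `p : T' ⟶ T` along `e : U ⟶ T` are coboundaries. -/
def AcyE (P : Cᵒᵖ ⥤ AddCommGrpCat.{u + 1}) {T' T U : C} (p : T' ⟶ T) (e : U ⟶ T) : Prop :=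
  ∀ (n : ℕ) (c : Fam P U T' (n + 1)), IsCoch p e c → IsCocycle p e c →
    ∃ b : Fam P U T' n, IsCoch p e b ∧ IsCob p e b c

variable {P Q : Cᵒᵖ ⥤ AddCommGrpCat.{u + 1}}

theorem acyE_congr {T' T U : C} {p : T' ⟶ T} {e e' : U ⟶ T} (h : AcyE P p e) (he : e = e') : AcyE P p e' := he ▸ h

/-- Acyclicity of the base change. -/
theorem acy_of_acyE {T' T U U' : C} {p : T' ⟶ T} {e : U ⟶ T} {q : U' ⟶ T'} {p' : U' ⟶ U}
    (sq : IsPullback q p' p e) (h : AcyE P p e) : Acy P p' := by
  intro n c hc hz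
  let lft : ∀ {W : C} (a : W ⟶ U) (x : W ⟶ T') (_ : x ≫ p = a ≫ e), (W ⟶ U') := fun a x hx => sq.lift x a hx
  open Classical in
  let c' : Fam P U T' (n + 1) := fun W a x =>
    if hx : Compat p e a x then c W a (fun i => lft a (x i) (hx i)) else 0
  have hc'_eq : ∀ {W : C} (a : W ⟶ U) (x : Fin (n + 2) → (W ⟶ T')) (hx : Compat p e a x),
      c' W a x = c W a (fun i => lft a (x i) (hx i)) := fun a x hx => dif_pos hx
  have hl : ∀ {W : C} (a : W ⟶ U) (m : ℕ) (x : Fin m → (W ⟶ T')) (hx : Compat p e a x),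
      Compat p' (𝟙 U) a (fun i => lft a (x i) (hx i)) := fun a m x hx i => by
    rw [Category.comp_id]
    exact sq.lift_snd _ _ _
  have hcomp : ∀ {W W' : C} (f : W' ⟶ W) (a : W ⟶ U) (x : W ⟶ T') (hx : x ≫ p = a ≫ e)
      (hx' : (f ≫ x) ≫ p = (f ≫ a) ≫ e), lft (f ≫ a) (f ≫ x) hx' = f ≫ lft a x hx := fun f a x hx hx' => by
    apply sq.hom_ext
    · rw [Category.assoc]
      erw [sq.lift_fst, sq.lift_fst]
    · rw [Category.assoc]
      erw [sq.lift_snd, sq.lift_snd]
  obtain ⟨b, hb, hbc⟩ := h n c' (by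
    intro W W' f a x hx
    rw [hc'_eq a x hx, hc'_eq (f ≫ a) _ (hx.comp f), hc f a _ (hl a _ x hx)]
    congr 1
    funext i
    exact (hcomp f a (x i) (hx i) _).symm) (by
    intro W a x hx
    have e1 : dS (c' W a) x = dS (c W a) (fun i => lft a (x i) (hx i)) := by
      unfold dS
      refine Finset.sum_congr rfl fun i _ => ?_
      rw [hc'_eq a _ (hx.face i)]
    rw [e1]
    exact hz a _ (hl a _ x hx))
  have hq : ∀ {W : C} (a : W ⟶ U) (m : ℕ) (x : Fin m → (W ⟶ U')), Compat p' (𝟙 U) a x →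
      Compat p e a (fun i => x i ≫ q) := fun a m x hx i => by
    have := hx i
    rw [Category.comp_id] at this
    rw [Category.assoc, sq.w, ← Category.assoc, this]
  refine ⟨fun W a x => b W a (fun i => x i ≫ q), ?_, ?_⟩
  · intro W W' f a x hx
    have := hb f a _ (hq a _ x hx)
    refine this.trans ?_
    congr 1
    funext i
    exact (Category.assoc _ _ _).symm
  · intro W a x hx
    have e1 : dS ((fun W a x => b W a (fun i => x i ≫ q) : Fam P U U' n) W a) x = dS (b W a) (fun i => x i ≫ q) := rfl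
    rw [e1, hbc a _ (hq a _ x hx), hc'_eq a _ (hq a _ x hx)]
    congr 1
    funext i
    apply sq.hom_ext
    · exact sq.lift_fst _ _ _
    · refine (sq.lift_snd _ _ _).trans ?_
      have := hx i
      rw [Category.comp_id] at this
      exact this.symm

/-- Transfer of acyclicity along a map which is bijective on the relevant objects. -/
theorem acyE_of_bijective (κ : P ⟶ Q) {T' T U : C} {p : T' ⟶ T} {e : U ⟶ T} (hQ : AcyE Q p e)
    (hR : ∀ n : ℕ, ∃ R : Rep p e n, (∀ s : Q.obj (op R.Y), ∃ t : P.obj (op R.Y), κ.app (op R.Y) t = s) ∧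
      (∀ t : P.obj (op R.Y), κ.app (op R.Y) t = 0 → t = 0)) : AcyE P p e := by
  intro n c hc hz
  obtain ⟨b', hb', hbc'⟩ := hQ n (mapF κ c) (hc.map κ) (hz.map κ)
  obtain ⟨R, hRs, -⟩ := hR n
  obtain ⟨R₁, -, hRi⟩ := hR (n + 1)
  obtain ⟨t, ht⟩ := hRs (b' R.Y R.π R.y)
  have hb := isCoch_ofSec (P := P) R t
  have hκ : ∀ {W : C} (a : W ⟶ U) (x : Fin (n + 1) → (W ⟶ T')), Compat p e a x →
      κ.app (op W) (ofSec R t W a x) = b' W a x := by
    intro W a x hx
    rw [ofSec_apply R t a x hx, nat_apply, ht, ← ofSec_apply R (b' R.Y R.π R.y) a x hx, ofSec_eq R b' hb' a x hx]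
  refine ⟨ofSec R t, hb, ?_⟩
  -- the difference vanishes at the universal element
  have h0 : dF (ofSec R t) R₁.Y R₁.π R₁.y = c R₁.Y R₁.π R₁.y := by
    rw [← sub_eq_zero]
    apply hRi
    rw [map_sub, sub_eq_zero]
    have e1 : κ.app (op R₁.Y) (dF (ofSec R t) R₁.Y R₁.π R₁.y) = dS (b' R₁.Y R₁.π) R₁.y :=
      (dS_mapF κ (ofSec R t) R₁.Y R₁.π R₁.y).symm.trans (dS_congr fun i => hκ _ _ (R₁.compat.face i))
    rw [e1, hbc' _ _ R₁.compat]
    rfl
  intro W a x hx
  have e1 := ofSec_eq R₁ (dF (ofSec R t)) hb.dF a x hx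
  have e2 := ofSec_eq R₁ c hc a x hx
  rw [h0] at e1
  exact e1.symm.trans e2

end general

section limit

variable {S : Scheme.{u}}

theorem allEvSurj {P : (Over S)ᵒᵖ ⥤ AddCommGrpCat.{u + 1}} (h : LP P) :
    K601.SheafifyLim.AllEvSurj (P ⋙ forget AddCommGrpCat.{u + 1}) := K601.SheafifyLim.allEvSurj h

theorem allEvInj {P : (Over S)ᵒᵖ ⥤ AddCommGrpCat.{u + 1}} (h : LP P) :
    K601.SheafifyLim.AllEvInjVia (𝟙 (P ⋙ forget AddCommGrpCat.{u + 1})) := K601.SheafifyLim.allEvInjVia_id h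

/-- morphisms of `S`-schemes which are affine -/
abbrev AffHom (S : Scheme.{u}) : MorphismProperty (Over S) :=
  MorphismProperty.inverseImage @IsAffineHom (Over.forget S)

instance isStableUnderBaseChange_affHom : (AffHom S).IsStableUnderBaseChange :=
  ⟨fun sq hg => MorphismProperty.of_isPullback (P := @IsAffineHom) (sq.map (Over.forget S)) hg⟩

theorem affHom_of_affine {X Y : Over S} (f : X ⟶ Y) (hX : IsAffine X.left) (hY : IsAffine Y.left) : AffHom S f := by
  change IsAffineHom f.left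
  infer_instance

theorem affine_of_affHom {X Y : Over S} (f : X ⟶ Y) (hf : AffHom S f) (hY : IsAffine Y.left) : IsAffine X.left := by
  have : IsAffineHom f.left := hf
  exact isAffine_of_isAffineHom f.left

variable {P : (Over S)ᵒᵖ ⥤ AddCommGrpCat.{u + 1}} (hP : LP P) {I : Type u} [SmallCategory I] [IsCofiltered I]
  {D : I ⥤ Over S} {c : Cone D} (hc : IsLimit ((Over.forget S).mapCone c)) (hD : ∀ i, IsAffine (D.obj i).left)
  (hT : IsAffine c.pt.left) {T T' : Over S} (hTa : IsAffine T.left) (hTa' : IsAffine T'.left) (p : T' ⟶ T)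

include hP hc hD hT hTa hTa' in
/-- A cochain over the limit comes from a cochain over a stage. -/
theorem exists_cochain {k : I} (e : D.obj k ⟶ T) {m : ℕ} (z : Fam P c.pt T' m) (hz : IsCoch p (c.π.app k ≫ e) z) :
    ∃ (j : I) (φ : j ⟶ k) (y : Fam P (D.obj j) T' m), IsCoch p (D.map φ ≫ e) y ∧
      ∀ {W : Over S} (a : W ⟶ c.pt) (x : Fin (m + 1) → (W ⟶ T')), Compat p (c.π.app k ≫ e) a x →
        y W (a ≫ c.π.app j) x = z W a x := by
  obtain ⟨R, hR⟩ := exists_rep (AffHom S) p e (affHom_of_affine p hTa' hTa) m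
  let R' : Rep p (c.π.app k ≫ e) m := R.baseChange (c.π.app k) (pullback.fst R.π (c.π.app k))
    (pullback.snd R.π (c.π.app k)) (IsPullback.of_hasPullback _ _)
  obtain ⟨j, y, hy⟩ := K601.SheafifyLim.evSurj_pb hc hD hT (allEvSurj hP) R.π (affine_of_affHom _ hR (hD k))
    (IsPullback.of_hasPullback R.π (c.π.app k)) (z R'.Y R'.π R'.y)
  let Rj : Rep p (D.map j.hom ≫ e) m := R.baseChange (D.map j.hom) (pullback.fst R.π (D.map j.hom))
    (pullback.snd R.π (D.map j.hom)) (IsPullback.of_hasPullback _ _)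
  refine ⟨j.left, j.hom, ofSec Rj y, isCoch_ofSec Rj y, fun {W} a x hx => ?_⟩
  have hx' : Compat p (D.map j.hom ≫ e) (a ≫ c.π.app j.left) x := fun i => by
    rw [hx i, Category.assoc]
    congr 1
    rw [← Category.assoc, c.w]
  rw [ofSec_apply Rj y _ x hx', ← ofSec_eq R' z hz a x hx, ofSec_apply R' _ a x hx]
  let g : pullback R.π (c.π.app k) ⟶ pullback R.π (D.map j.hom) :=
    pullback.lift (pullback.fst R.π (c.π.app k)) (pullback.snd R.π (c.π.app k) ≫ c.π.app j.left)
      (by rw [Category.assoc, c.w]; exact pullback.condition)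
  let l : W ⟶ pullback R.π (c.π.app k) := R'.lift a x hx
  have hl1 : l ≫ pullback.snd R.π (c.π.app k) = a := R'.lift_π a x hx
  have hl2 : ∀ i, l ≫ pullback.fst R.π (c.π.app k) ≫ R.y i = x i := R'.lift_y a x hx
  have e1 : Rj.lift (a ≫ c.π.app j.left) x hx' = l ≫ g := by
    apply Rj.hom_ext
    · rw [Rj.lift_π]
      change _ = (_ ≫ pullback.lift _ _ _) ≫ pullback.snd R.π (D.map j.hom)
      rw [Category.assoc, pullback.lift_snd, ← Category.assoc, hl1]
    · intro i
      rw [Rj.lift_y]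
      change _ = (_ ≫ pullback.lift _ _ _) ≫ pullback.fst R.π (D.map j.hom) ≫ R.y i
      rw [Category.assoc, pullback.lift_fst_assoc, hl2]
  rw [e1]
  exact (Cech.res_comp P l g y).symm.trans (congrArg _ hy)

include hP hc hD hT hTa hTa' in
/-- A cochain over a stage which vanishes over the limit vanishes over a later stage. -/
theorem exists_vanish {k : I} (e : D.obj k ⟶ T) {m : ℕ} (z : Fam P (D.obj k) T' m) (hz : IsCoch p e z)
    (h0 : ∀ {W : Over S} (a : W ⟶ c.pt) (x : Fin (m + 1) → (W ⟶ T')), Compat p (c.π.app k ≫ e) a x →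
      z W (a ≫ c.π.app k) x = 0) :
    ∃ (j : I) (φ : j ⟶ k), ∀ {W : Over S} (a : W ⟶ D.obj j) (x : Fin (m + 1) → (W ⟶ T')),
      Compat p (D.map φ ≫ e) a x → z W (a ≫ D.map φ) x = 0 := by
  obtain ⟨R, hR⟩ := exists_rep (AffHom S) p e (affHom_of_affine p hTa' hTa) m
  let t : P.obj (op R.Y) := z R.Y R.π R.y
  have ht : P.map (pullback.fst R.π (c.π.app k)).op t = 0 := by
    refine (hz (pullback.fst R.π (c.π.app k)) _ _ R.compat).trans ?_
    rw [pullback.condition]
    apply h0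
    intro i
    rw [Category.assoc, R.compat i, ← Category.assoc, pullback.condition, Category.assoc]
  obtain ⟨j, hj⟩ := K601.SheafifyLim.evInjVia_pb hc hD hT (allEvInj hP) R.π (affine_of_affHom _ hR (hD k))
    (IsPullback.of_hasPullback R.π (c.π.app k)) t (0 : P.obj (op R.Y)) (ht.trans (map_zero (P.map _).hom).symm)
  have hj' : P.map (pullback.fst R.π (D.map j.hom)).op t = 0 := Eq.trans hj (map_zero (P.map _).hom)
  refine ⟨j.left, j.hom, fun {W} a x hx => ?_⟩
  have hx' : Compat p e (a ≫ D.map j.hom) x := fun i => by rw [hx i, Category.assoc]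
  rw [← ofSec_eq R z hz _ x hx', ofSec_apply R _ _ x hx']
  have e1 : R.lift (a ≫ D.map j.hom) x hx' =
      pullback.lift (R.lift (a ≫ D.map j.hom) x hx') a (R.lift_π _ _ _) ≫ pullback.fst R.π (D.map j.hom) :=
    (pullback.lift_fst _ _ _).symm
  rw [e1, ← Cech.res_comp]
  exact (congrArg _ hj').trans (map_zero _)

include hP hc hD hT hTa hTa' in
/-- Čech acyclicity over all later stages gives Čech acyclicity over the limit. -/
theorem acyE_limit {k : I} (e : D.obj k ⟶ T) (h : ∀ (j : I) (φ : j ⟶ k), AcyE P p (D.map φ ≫ e)) :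
    AcyE P p (c.π.app k ≫ e) := by
  intro n z hz hzz
  obtain ⟨j, φ, y, hy, hyz⟩ := exists_cochain hP hc hD hT hTa hTa' p e z hz
  have he : c.π.app j ≫ D.map φ ≫ e = c.π.app k ≫ e := by rw [← Category.assoc, c.w]
  obtain ⟨l, ψ, hl⟩ := exists_vanish hP hc hD hT hTa hTa' p (D.map φ ≫ e) (dF y) hy.dF (fun {W} a x hx => by
    rw [he] at hx
    have e1 : dF y W (a ≫ c.π.app j) x = dS (z W a) x := dS_congr fun i => hyz a _ (hx.face i)
    rw [e1]
    exact hzz a x hx)
  have e1 : D.map (ψ ≫ φ) ≫ e = D.map ψ ≫ D.map φ ≫ e := by rw [D.map_comp, Category.assoc]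
  obtain ⟨b, hb, hbc⟩ := acyE_congr (h l (ψ ≫ φ)) e1 n (resF (D.map ψ) y) (hy.res _) (fun W a x hx => hl a x hx)
  have he' : c.π.app l ≫ D.map ψ ≫ D.map φ ≫ e = c.π.app k ≫ e := by
    rw [← Category.assoc, c.w, he]
  have hb' := hb.res (c.π.app l)
  have hbc' := hbc.res (c.π.app l)
  rw [he'] at hb' hbc'
  refine ⟨resF (c.π.app l) b, hb', fun W a x hx => ?_⟩
  rw [hbc' a x hx]
  change y W ((a ≫ c.π.app l) ≫ D.map ψ) x = z W a x
  rw [Category.assoc, c.w]
  exact hyz a x hx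

end limit

end K828.LAcy
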