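import Groth.Agent.Ega43.FPOfComp
import Mathlib.AlgebraicGeometry.Morphisms.FinitePresentation
import Mathlib.AlgebraicGeometry.Morphisms.Separated
import Mathlib.CategoryTheory.Functor.KanExtension.Adjunction
import Mathlib.CategoryTheory.Limits.Types.Filtered
import Mathlib.CategoryTheory.Filtered.Final
import Mathlib.Algebra.Category.Grp.FilteredColimits
import Mathlib.Algebra.Category.Grp.Colimits
import Mathlib.Algebra.Category.Grp.Limits
import Mathlib.CategoryTheory.Limits.Preserves.Filtered
import Mathlib.CategoryTheory.Limits.Constructions.Over.Basic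

/-!
# The limit preserving extension of a presheaf (helper828)

`S` affine.  `FP S`: affine `S`-schemes of finite presentation.  For a presheaf of abelian groups `G` on `Over S`,
`pre G` is the left Kan extension of its restriction to `FP S`: `pre G T = colim_{T ⟶ X} G X`, `X` in `FP S`.
Elements are written `el X f s` (`f : T ⟶ X`, `s ∈ G X`); `exists_el`, `el_eq_zero_iff`.
-/

set_option autoImplicit false

universe u

open CategoryTheory CategoryTheory.Limits AlgebraicGeometry Opposite

namespace K828.LExt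

variable (S : Scheme.{u})

/-- affine and of finite presentation over `S` -/
def fpProp : ObjectProperty (Over S) := fun T => IsAffine T.left ∧ LocallyOfFinitePresentation T.hom

/-- affine `S`-schemes of finite presentation -/
abbrev FP : Type (u + 1) := (fpProp S).FullSubcategory

/-- the inclusion -/
abbrev u : FP S ⥤ Over S := (fpProp S).ι

variable {S}

/-- the index category of the Kan extension at `T` -/
abbrev Ix (T : Over S) := CostructuredArrow (u S).op (op T)

/-- an object of the index category -/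
def mkc {T : Over S} (X : FP S) (f : T ⟶ X.obj) : Ix T := CostructuredArrow.mk (S := (u S).op) (Y := op X) f.op

/-- a morphism of the index category -/
def homc {T : Over S} {X Y : FP S} (f : T ⟶ X.obj) (f' : T ⟶ Y.obj) (h : Y ⟶ X) (e : f' ≫ h.hom = f) :
    mkc X f ⟶ mkc Y f' :=
  CostructuredArrow.homMk h.op (by
    apply Quiver.Hom.unop_inj
    exact e)

theorem exists_mkc {T : Over S} (i : Ix T) : ∃ (X : FP S) (f : T ⟶ X.obj), i = mkc X f :=
  ⟨i.left.unop, i.hom.unop, by
    obtain ⟨⟨X⟩, ⟨⟨⟩⟩, f⟩ := i
    rfl⟩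

section filtered

variable [IsAffine S]

/-- products in `FP S` -/
theorem exists_prod {T : Over S} (X Y : FP S) (f : T ⟶ X.obj) (g : T ⟶ Y.obj) :
    ∃ (Z : FP S) (h : T ⟶ Z.obj) (a : Z ⟶ X) (b : Z ⟶ Y), h ≫ a.hom = f ∧ h ≫ b.hom = g := by
  have h1 := X.property.1
  have h2 := X.property.2
  have h3 := Y.property.1
  have h4 := Y.property.2
  let Z : Over S := Over.mk (pullback.fst X.obj.hom Y.obj.hom ≫ X.obj.hom)
  have hZ : fpProp S Z := by
    constructor
    · change IsAffine (pullback X.obj.hom Y.obj.hom)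
      infer_instance
    · change LocallyOfFinitePresentation (pullback.fst X.obj.hom Y.obj.hom ≫ X.obj.hom)
      infer_instance
  refine ⟨⟨Z, hZ⟩, Over.homMk (pullback.lift f.left g.left (by rw [Over.w, Over.w])) ?_,
    ObjectProperty.homMk (Over.homMk (pullback.fst _ _) rfl), ObjectProperty.homMk (Over.homMk (pullback.snd _ _) ?_), ?_, ?_⟩
  · change pullback.lift _ _ _ ≫ pullback.fst _ _ ≫ _ = _
    rw [pullback.lift_fst_assoc, Over.w]
  · exact pullback.condition.symm
  · apply Over.OverMorphism.ext
    exact pullback.lift_fst _ _ _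
  · apply Over.OverMorphism.ext
    exact pullback.lift_snd _ _ _

omit [IsAffine S] in
/-- equalizers in `FP S` -/
theorem exists_eq {T : Over S} (X Y : FP S) (a b : X ⟶ Y) (f : T ⟶ X.obj) (e : f ≫ a.hom = f ≫ b.hom) :
    ∃ (Z : FP S) (h : T ⟶ Z.obj) (c : Z ⟶ X), h ≫ c.hom = f ∧ c ≫ a = c ≫ b := by
  have h1 := X.property.1
  have h2 := X.property.2
  have h3 := Y.property.1
  have h4 := Y.property.2
  let δ : Y.obj.left ⟶ pullback Y.obj.hom Y.obj.hom := pullback.diagonal Y.obj.hom
  let ab : X.obj.left ⟶ pullback Y.obj.hom Y.obj.hom := pullback.lift a.hom.left b.hom.left (by rw [Over.w, Over.w])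
  have hδ1 : IsClosedImmersion δ := inferInstance
  have hδ2 : LocallyOfFinitePresentation δ := by
    have : LocallyOfFinitePresentation (δ ≫ pullback.fst _ _) := by
      rw [pullback.diagonal_fst]
      infer_instance
    exact Groth.Agent.Ega43.FPOfComp.locallyOfFinitePresentation_of_comp _ (pullback.fst Y.obj.hom Y.obj.hom)
  let Z : Over S := Over.mk (pullback.fst ab δ ≫ X.obj.hom)
  have hZ : fpProp S Z := by
    constructor
    · change IsAffine (pullback ab δ)
      infer_instance
    · change LocallyOfFinitePresentation (pullback.fst ab δ ≫ X.obj.hom)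
      infer_instance
  have ea : ab ≫ pullback.fst _ _ = a.hom.left := pullback.lift_fst _ _ _
  have eb : ab ≫ pullback.snd _ _ = b.hom.left := pullback.lift_snd _ _ _
  have e' : f.left ≫ a.hom.left = f.left ≫ b.hom.left := congrArg CommaMorphism.left e
  refine ⟨⟨Z, hZ⟩, Over.homMk (pullback.lift f.left (f.left ≫ a.hom.left) ?_) ?_,
    ObjectProperty.homMk (Over.homMk (pullback.fst _ _) rfl), ?_, ?_⟩
  · apply pullback.hom_ext
    · rw [Category.assoc, ea, Category.assoc, pullback.diagonal_fst, Category.comp_id]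
    · rw [Category.assoc, eb, Category.assoc, pullback.diagonal_snd, Category.comp_id, e']
  · change pullback.lift _ _ _ ≫ pullback.fst _ _ ≫ _ = _
    rw [pullback.lift_fst_assoc, Over.w]
  · apply Over.OverMorphism.ext
    exact pullback.lift_fst _ _ _
  · apply ObjectProperty.hom_ext
    apply Over.OverMorphism.ext
    change pullback.fst ab δ ≫ a.hom.left = pullback.fst ab δ ≫ b.hom.left
    rw [← ea, ← eb, ← Category.assoc, ← Category.assoc, pullback.condition, Category.assoc, Category.assoc,
      pullback.diagonal_fst, pullback.diagonal_snd]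

theorem isFiltered_ix (T : Over S) : IsFiltered (Ix T) := by
  have : Nonempty (Ix T) := by
    refine ⟨mkc (⟨Over.mk (𝟙 S), ?_, ?_⟩) (Over.homMk T.hom (Category.comp_id _))⟩
    · change IsAffine S
      infer_instance
    · change LocallyOfFinitePresentation (𝟙 S)
      infer_instance
  refine @IsFiltered.mk _ _ ⟨?_, ?_⟩ this
  · intro i j
    obtain ⟨X, f, rfl⟩ := exists_mkc i
    obtain ⟨Y, g, rfl⟩ := exists_mkc j
    obtain ⟨Z, h, a, b, ha, hb⟩ := exists_prod X Y f g
    exact ⟨mkc Z h, homc f h a ha, homc g h b hb, trivial⟩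
  · intro i j α β
    obtain ⟨X, f, rfl⟩ := exists_mkc i
    obtain ⟨Y, g, rfl⟩ := exists_mkc j
    have e1 : g ≫ α.left.unop.hom = f := congrArg Quiver.Hom.unop (CostructuredArrow.w α)
    have e2 : g ≫ β.left.unop.hom = f := congrArg Quiver.Hom.unop (CostructuredArrow.w β)
    obtain ⟨Z, h, c, hc, hc'⟩ := exists_eq Y X α.left.unop β.left.unop g (e1.trans e2.symm)
    refine ⟨mkc Z h, homc g h c hc, ?_⟩
    apply CostructuredArrow.hom_ext
    apply Quiver.Hom.unop_inj
    exact hc'

end filtered

section ext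

variable (G : (Over S)ᵒᵖ ⥤ AddCommGrpCat.{u + 1})

/-- the extension -/
noncomputable def pre : (Over S)ᵒᵖ ⥤ AddCommGrpCat.{u + 1} := (u S).op.leftKanExtension ((u S).op ⋙ G)

/-- the unit -/
noncomputable def unit : (u S).op ⋙ G ⟶ (u S).op ⋙ pre G := (u S).op.leftKanExtensionUnit ((u S).op ⋙ G)

variable {G}

/-- the element of `pre G T` given by `f : T ⟶ X` and a section over `X` -/
noncomputable def el {T : Over S} (X : FP S) (f : T ⟶ X.obj) (s : G.obj (op X.obj)) : (pre G).obj (op T) :=
  (pre G).map f.op ((unit G).app (op X) s)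

theorem el_add {T : Over S} (X : FP S) (f : T ⟶ X.obj) (s s' : G.obj (op X.obj)) :
    el X f (s + s') = el X f s + el X f s' := by
  rw [el, el, el, ← map_add, ← map_add]

theorem el_zero {T : Over S} (X : FP S) (f : T ⟶ X.obj) : el X f (0 : G.obj (op X.obj)) = 0 := by
  have h : ((unit G).app (op X)) (0 : G.obj (op X.obj)) = 0 := map_zero _
  rw [el]
  exact (congrArg _ h).trans (map_zero _)

theorem map_el {T T' : Over S} (g : T' ⟶ T) (X : FP S) (f : T ⟶ X.obj) (s : G.obj (op X.obj)) :
    (pre G).map g.op (el X f s) = el X (g ≫ f) s := by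
  rw [el, el, op_comp, (pre G).map_comp, ConcreteCategory.comp_apply]

theorem el_comp {T : Over S} {X Y : FP S} (f' : T ⟶ Y.obj) (h : Y ⟶ X) (s : G.obj (op X.obj)) :
    el X (f' ≫ h.hom) s = el Y f' (G.map h.hom.op s) := by
  have e := ConcreteCategory.congr_hom ((unit G).naturality h.op) s
  rw [ConcreteCategory.comp_apply, ConcreteCategory.comp_apply] at e
  rw [el, el, op_comp, (pre G).map_comp, ConcreteCategory.comp_apply]
  exact congrArg _ e.symm

theorem el_congr {T : Over S} {X : FP S} {f f' : T ⟶ X.obj} (h : f = f') (s : G.obj (op X.obj)) :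
    el X f s = el X f' s := by rw [h]

/-- The colimit cocone. -/
noncomputable def cc (T : Over S) := Functor.isPointwiseLeftKanExtensionLeftKanExtensionUnit (u S).op ((u S).op ⋙ G) (op T)

theorem preserves_forget [IsAffine S] (T : Over S) :
    PreservesColimitsOfShape (Ix T) (forget AddCommGrpCat.{u + 1}) := by
  have := isFiltered_ix T
  have : PreservesFilteredColimitsOfSize.{u, u + 1} (forget AddCommGrpCat.{u + 1}) :=
    preservesFilteredColimitsOfSize_shrink.{u + 1, u + 1, u, u + 1} _
  exact PreservesFilteredColimitsOfSize.preserves_filtered_colimits (Ix T)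

theorem exists_el [IsAffine S] {T : Over S} (x : (pre G).obj (op T)) :
    ∃ (X : FP S) (f : T ⟶ X.obj) (s : G.obj (op X.obj)), x = el X f s := by
  have := isFiltered_ix T
  have := preserves_forget T
  obtain ⟨i, y, hy⟩ := Types.jointly_surjective_of_isColimit
    (isColimitOfPreserves (forget AddCommGrpCat.{u + 1}) (cc (G := G) T)) x
  obtain ⟨X, f, rfl⟩ := exists_mkc i
  exact ⟨X, f, y, hy.symm⟩

theorem exists_of_el_eq_zero [IsAffine S] {T : Over S} {X : FP S} {f : T ⟶ X.obj} {s : G.obj (op X.obj)}
    (h : el X f s = 0) : ∃ (Y : FP S) (a : Y ⟶ X) (f' : T ⟶ Y.obj), f' ≫ a.hom = f ∧ G.map a.hom.op s = 0 := by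
  have := isFiltered_ix T
  have := preserves_forget T
  have h0 : el X f s = el X f 0 := h.trans (el_zero X f).symm
  obtain ⟨k, α, hα⟩ := (Types.FilteredColimit.isColimit_eq_iff'
    (isColimitOfPreserves (forget AddCommGrpCat.{u + 1}) (cc (G := G) T)) (i := mkc X f) s (0 : G.obj (op X.obj))).1 h0
  obtain ⟨Y, f', rfl⟩ := exists_mkc k
  refine ⟨Y, α.left.unop, f', congrArg Quiver.Hom.unop (CostructuredArrow.w α), ?_⟩
  have hα' : G.map α.left.unop.hom.op s = G.map α.left.unop.hom.op 0 := hα
  exact hα'.trans (map_zero (G.map α.left.unop.hom.op).hom)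

/-- Functoriality. -/
noncomputable def preMap {G G' : (Over S)ᵒᵖ ⥤ AddCommGrpCat.{u + 1}} (φ : G ⟶ G') : pre G ⟶ pre G' :=
  (u S).op.lan.map (Functor.whiskerLeft (u S).op φ)

theorem preMap_el {G G' : (Over S)ᵒᵖ ⥤ AddCommGrpCat.{u + 1}} (φ : G ⟶ G') {T : Over S} (X : FP S) (f : T ⟶ X.obj)
    (s : G.obj (op X.obj)) : (preMap φ).app (op T) (el X f s) = el X f (φ.app (op X.obj) s) := by
  have e1 := ConcreteCategory.congr_hom ((preMap φ).naturality f.op) ((unit G).app (op X) s)
  rw [ConcreteCategory.comp_apply, ConcreteCategory.comp_apply] at e1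
  have h := congr_app ((u S).op.lanUnit.naturality (Functor.whiskerLeft (u S).op φ)) (op X)
  have e2 := ConcreteCategory.congr_hom h s
  rw [el, el, e1]
  exact congrArg _ e2.symm

variable (G) in
/-- The counit. -/
noncomputable def counit : pre G ⟶ G :=
  Functor.descOfIsLeftKanExtension (L := (u S).op) (F := (u S).op ⋙ G)
    ((u S).op.leftKanExtension ((u S).op ⋙ G)) ((u S).op.leftKanExtensionUnit ((u S).op ⋙ G)) G (𝟙 _)

theorem counit_el {T : Over S} (X : FP S) (f : T ⟶ X.obj) (s : G.obj (op X.obj)) :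
    (counit G).app (op T) (el X f s) = G.map f.op s := by
  have e1 := ConcreteCategory.congr_hom ((counit G).naturality f.op) ((unit G).app (op X) s)
  rw [ConcreteCategory.comp_apply, ConcreteCategory.comp_apply] at e1
  have h := Functor.descOfIsLeftKanExtension_fac_app (L := (u S).op) (F := (u S).op ⋙ G)
    ((u S).op.leftKanExtension ((u S).op ⋙ G)) ((u S).op.leftKanExtensionUnit ((u S).op ⋙ G)) G (𝟙 _) (op X)
  have e2 := ConcreteCategory.congr_hom h s
  rw [el, e1]
  exact congrArg (G.map f.op) e2

end ext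

end K828.LExt
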