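import Groth.Agent.TateGlob.K828.LPre
import Mathlib.CategoryTheory.Sites.LocallyBijective

/-!
# The limit preserving sheaf attached to a sheaf (helper828)

`lps I`: sheafification of `pre I.obj`; `kap I : lps I ⟶ I`.  It is limit preserving, `kap I` is bijective on affine
schemes of finite presentation, and `kap F` is an isomorphism if `F` is limit preserving.
-/

set_option autoImplicit false

universe u

open CategoryTheory CategoryTheory.Limits AlgebraicGeometry Opposite
open K828.LExt K828.Cech K828.LPre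

namespace K828.LSheaf

variable {S : Scheme.{u}}

/-- abelian fppf sheaves -/
abbrev AbF (S : Scheme.{u}) := BigSite.Ab Scheme.fppfPrecoverage S

/-- the fppf topology on schemes over `S` -/
abbrev JF (S : Scheme.{u}) : GrothendieckTopology (Over S) := QuotSh.J Scheme.fppfPrecoverage S

/-- A sheaf locally presented by a limit preserving presheaf is limit preserving. -/
theorem lp_of_locally {P Q : (Over S)ᵒᵖ ⥤ AddCommGrpCat.{u + 1}} (η : P ⟶ Q)
    (hinj : ∀ {T : Over S} (x : P.obj (op T)), η.app (op T) x = 0 →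
      ∃ R ∈ JF S T, ∀ {W : Over S} (p : W ⟶ T), R p → P.map p.op x = 0)
    (hsurj : ∀ {T : Over S} (s : Q.obj (op T)), ∃ R ∈ JF S T, ∀ {W : Over S} (p : W ⟶ T), R p →
      ∃ x : P.obj (op W), η.app (op W) x = Q.map p.op s)
    (hQ : Presheaf.IsSheaf (JF S) Q) (hP : LP P) : LP Q := by
  refine K601.SheafifyLim.isLimitPreserving_sheaf K601.Stage.admissible_flat
    (J := JF S) K601.SheafifyLim.hasAffCovers_fppf (Functor.whiskerRight η (forget AddCommGrpCat.{u + 1})) ?_ ?_
    (isSheaf_ty hQ) hP
  · intro T x y e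
    change P.obj (op T) at x y
    have e' : η.app (op T) x = η.app (op T) y := e
    obtain ⟨R, hR, h⟩ := hinj (x - y) (by rw [map_sub, e', sub_self])
    refine ⟨R, hR, fun {W} p hp => ?_⟩
    have := h p hp
    rw [map_sub, sub_eq_zero] at this
    exact this
  · intro T s
    exact hsurj s

/-- Every point of `T` has an affine open neighbourhood: to check that a sieve is a covering it is enough that it
contains the morphisms from affine schemes. -/
theorem mem_of_affine {T : Over S} (R : Sieve T) (h : ∀ (W : Over S) (p : W ⟶ T), IsAffine W.left → R p) :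
    R ∈ JF S T := by
  refine (K601.FppfSieve.mem_J_iff R).2 fun t => ?_
  obtain ⟨V, hV, htV⟩ : ∃ V : T.left.Opens, IsAffineOpen V ∧ t ∈ V := by
    obtain ⟨U, ⟨V, hV, rfl⟩, htU⟩ := T.left.isBasis_affineOpens.exists_subset_of_mem_open (Set.mem_univ t) isOpen_univ
    exact ⟨V, hV, htU.1⟩
  have : IsAffine V.toScheme := hV
  exact ⟨Over.mk (V.ι ≫ T.hom), (Over.homMk V.ι rfl : Over.mk (V.ι ≫ T.hom) ⟶ T), ⟨t, htV⟩, h _ _ this,
    inferInstanceAs (Flat V.ι), inferInstanceAs (LocallyOfFinitePresentation V.ι), rfl⟩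

section lps

/-- the limit preserving sheaf attached to a sheaf -/
noncomputable def lps (F : AbF S) : AbF S := (presheafToSheaf (JF S) AddCommGrpCat.{u + 1}).obj (pre F.obj)

/-- the unit -/
noncomputable def eta (F : AbF S) : pre F.obj ⟶ (lps F).obj := toSheafify (JF S) (pre F.obj)

/-- the canonical map to `F` -/
noncomputable def kap (F : AbF S) : lps F ⟶ F := ⟨sheafifyLift (JF S) (counit F.obj) F.property⟩

theorem kap_eta (F : AbF S) {T : Over S} (x : (pre F.obj).obj (op T)) :
    (kap F).hom.app (op T) ((eta F).app (op T) x) = (counit F.obj).app (op T) x := by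
  have h := congr_app (toSheafify_sheafifyLift (JF S) (counit F.obj) F.property) (op T)
  exact ConcreteCategory.congr_hom h x

theorem eta_inj (F : AbF S) {T : Over S} (x : (pre F.obj).obj (op T)) (hx : (eta F).app (op T) x = 0) :
    ∃ R ∈ JF S T, ∀ {W : Over S} (p : W ⟶ T), R p → (pre F.obj).map p.op x = 0 := by
  have h0 : (eta F).app (op T) x = (eta F).app (op T) 0 := hx.trans (map_zero _).symm
  have h1 : Presheaf.IsLocallyInjective (JF S) (eta F) :=
    inferInstanceAs (Presheaf.IsLocallyInjective (JF S) (toSheafify (JF S) (pre F.obj)))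
  refine ⟨_, Presheaf.equalizerSieve_mem (JF S) (eta F) (X := op T) x 0 h0, fun {W} p hp => ?_⟩
  exact Eq.trans hp (map_zero ((pre F.obj).map p.op).hom)

theorem eta_surj (F : AbF S) {T : Over S} (s : (lps F).obj.obj (op T)) :
    ∃ R ∈ JF S T, ∀ {W : Over S} (p : W ⟶ T), R p → ∃ x : (pre F.obj).obj (op W),
      (eta F).app (op W) x = (lps F).obj.map p.op s := by
  have h1 : Presheaf.IsLocallySurjective (JF S) (eta F) :=
    inferInstanceAs (Presheaf.IsLocallySurjective (JF S) (toSheafify (JF S) (pre F.obj)))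
  exact ⟨_, Presheaf.imageSieve_mem (JF S) (eta F) s, fun {W} p hp => hp⟩

theorem lp_lps [IsAffine S] (F : AbF S) : LP (lps F).obj :=
  lp_of_locally (eta F) (eta_inj F) (eta_surj F) (lps F).property (lp_pre F.obj)

/-- `kap` is surjective on affine schemes of finite presentation -/
theorem kap_surj (F : AbF S) (X : FP S) (s : F.obj.obj (op X.obj)) :
    ∃ y : (lps F).obj.obj (op X.obj), (kap F).hom.app (op X.obj) y = s :=
  ⟨(eta F).app _ (el X (𝟙 _) s), by rw [kap_eta, counit_el, Cech.res_id]⟩

/-- `kap` is injective on affine schemes of finite presentation -/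
theorem kap_inj [IsAffine S] (F : AbF S) (X : FP S) (y : (lps F).obj.obj (op X.obj))
    (hy : (kap F).hom.app (op X.obj) y = 0) : y = 0 := by
  obtain ⟨R, hR, h⟩ := eta_surj F y
  have hX := X.property.1
  have hX' := X.property.2
  obtain ⟨A, _, W, p, hp, hs⟩ := K601.FppfSieve.exists_finite_affine_cover (S := S) (T := X.obj) hR
  have hcov : Sieve.ofArrows W p ∈ JF S X.obj := K601.FppfSieve.ofArrows_mem_J W p (fun a => (hp a).2.2.1)
    (fun a => (hp a).2.2.2) hs
  refine eq_of_cover (lps F).property hcov _ _ ?_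
  rintro Y f ⟨Z, g, _, ⟨a⟩, rfl⟩
  rw [← Cech.res_comp, ← Cech.res_comp]
  congr 1
  obtain ⟨x, hx⟩ := h (p a) (hp a).1
  have hWa : fpProp S (W a) := by
    refine ⟨(hp a).2.1, ?_⟩
    have := (hp a).2.2.2
    rw [← Over.w (p a)]
    infer_instance
  obtain ⟨Z', f', s, rfl⟩ := exists_el x
  let Wa : FP S := ⟨W a, hWa⟩
  have e1 : el (G := F.obj) Z' f' s = el Wa (𝟙 _) (F.obj.map f'.op s) := by
    exact (el_congr (Category.id_comp f').symm s).trans
      (el_comp (G := F.obj) (X := Z') (Y := Wa) (𝟙 _) (ObjectProperty.homMk f') s)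
  have e2 : F.obj.map f'.op s = 0 := by
    rw [← counit_el (G := F.obj) Z' f' s, ← kap_eta, hx, Cech.nat_apply, hy, map_zero]
  rw [← hx, e1, e2, el_zero, map_zero, map_zero]

end lps

/-- the counit is bijective on affine schemes if `F` is limit preserving -/
theorem counit_inj [IsAffine S] {F : (Over S)ᵒᵖ ⥤ AddCommGrpCat.{u + 1}} (hF : LP F) {T : Over S}
    (hT : IsAffine T.left) (x : (pre F).obj (op T)) (hx : (counit F).app (op T) x = 0) : x = 0 := by
  obtain ⟨I, _, _, D, c, ⟨hc⟩, hD, rfl⟩ := exists_system T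
  obtain ⟨i, y, rfl⟩ := (lp_pre F).surj hc (fun i => (hD i).1) hT x
  obtain ⟨X, f, s, rfl⟩ := exists_el y
  rw [map_el, counit_el, ← Cech.res_comp] at hx
  obtain ⟨j, φ, hj⟩ := hF.inj hc (fun i => (hD i).1) hT _ hx
  rw [Cech.res_comp] at hj
  let Xj : FP S := ⟨D.obj j, hD j⟩
  have e1 : el X (D.map φ ≫ f) s = el (G := F) Xj (𝟙 _) (F.map (D.map φ ≫ f).op s) := by
    exact (el_congr (Category.id_comp (D.map φ ≫ f)).symm s).trans
      (el_comp (G := F) (X := X) (Y := Xj) (𝟙 _) (ObjectProperty.homMk (D.map φ ≫ f)) s)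
  rw [map_el, ← c.w φ, Category.assoc, ← map_el, e1, hj, el_zero, map_zero]

theorem counit_surj [IsAffine S] {F : (Over S)ᵒᵖ ⥤ AddCommGrpCat.{u + 1}} (hF : LP F) {T : Over S}
    (hT : IsAffine T.left) (s : F.obj (op T)) : ∃ x : (pre F).obj (op T), (counit F).app (op T) x = s := by
  obtain ⟨I, _, _, D, c, ⟨hc⟩, hD, rfl⟩ := exists_system T
  obtain ⟨i, y, rfl⟩ := hF.surj hc (fun i => (hD i).1) hT s
  exact ⟨el ⟨D.obj i, hD i⟩ (c.π.app i) y, by rw [counit_el]⟩

theorem isIso_counit [IsAffine S] {F : (Over S)ᵒᵖ ⥤ AddCommGrpCat.{u + 1}} (hF : LP F) :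
    IsIso ((presheafToSheaf (JF S) AddCommGrpCat.{u + 1}).map (counit F)) := by
  rw [← GrothendieckTopology.W_iff, GrothendieckTopology.W_iff_isLocallyBijective]
  constructor
  · constructor
    intro T x y e
    refine mem_of_affine _ fun W p hW => ?_
    change (pre F).map p.op x = (pre F).map p.op y
    rw [← sub_eq_zero, ← map_sub]
    apply counit_inj hF hW
    rw [Cech.nat_apply, map_sub]
    have e' : (counit F).app T x = (counit F).app T y := e
    rw [show (counit F).app (op (unop T)) x = (counit F).app (op (unop T)) y from e', sub_self, map_zero]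
  · constructor
    intro T s
    refine mem_of_affine _ fun W p hW => ?_
    exact counit_surj hF hW _

theorem mono_preMap [IsAffine S] {F G : (Over S)ᵒᵖ ⥤ AddCommGrpCat.{u + 1}} (φ : F ⟶ G)
    (hφ : ∀ (T : Over S) (s : F.obj (op T)), φ.app (op T) s = 0 → s = 0) : Mono (preMap φ) := by
  have h : ∀ T : (Over S)ᵒᵖ, Mono ((preMap φ).app T) := fun T => by
    rw [AddCommGrpCat.mono_iff_injective, injective_iff_map_eq_zero]
    intro x hx
    obtain ⟨X, f, s, rfl⟩ := exists_el (T := unop T) x
    have hx' : (preMap φ).app (op (unop T)) (el X f s) = 0 := hx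
    rw [preMap_el] at hx'
    obtain ⟨Y, a, f', hf', hs⟩ := exists_of_el_eq_zero hx'
    rw [← Cech.nat_apply] at hs
    rw [el_congr hf'.symm, el_comp, hφ _ _ hs, el_zero]
  exact NatTrans.mono_of_mono_app _

/-- A limit preserving sheaf embeds into the limit preserving sheaf of a sheaf containing it. -/
theorem exists_mono [IsAffine S] {F I : AbF S} (hF : LP F.obj) (φ : F ⟶ I)
    (hφ : ∀ (T : Over S) (s : F.obj.obj (op T)), φ.hom.app (op T) s = 0 → s = 0) : ∃ ι : F ⟶ lps I, Mono ι := by
  have h1 := isIso_counit hF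
  have h2 := mono_preMap φ.hom hφ
  have h3 : Mono ((presheafToSheaf (JF S) AddCommGrpCat.{u + 1}).map (preMap φ.hom)) := inferInstance
  let e1 : lps F ≅ F := (@asIso _ _ _ _ ((presheafToSheaf (JF S) AddCommGrpCat.{u + 1}).map (counit F.obj)) h1) ≪≫
    (sheafificationIso F).symm
  exact ⟨e1.inv ≫ (presheafToSheaf (JF S) AddCommGrpCat.{u + 1}).map (preMap φ.hom), mono_comp' inferInstance h3⟩

end K828.LSheaf
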