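import Groth.Agent.TateGlob.K828.Unram

/-!
# Unramified extensions: the Galois action (helper828)
-/

set_option autoImplicit false
set_option linter.unusedSectionVars false

universe u

open scoped TensorProduct
open IsLocalRing K828.GalSch

namespace K828.Unram

section

variable {A : Type u} [CommRing A] [HenselianLocalRing A] [Finite (ResidueField A)]
  {B : Type u} [CommRing B] [HenselianLocalRing B] [Algebra A B] [Module.Finite A B] [Algebra.Etale A B]
  [IsLocalHom (algebraMap A B)]

theorem finite_residueField (A : Type u) [CommRing A] [HenselianLocalRing A] [Finite (ResidueField A)]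
    (B : Type u) [CommRing B] [HenselianLocalRing B] [Algebra A B] [Module.Finite A B] [IsLocalHom (algebraMap A B)] :
    Finite (ResidueField B) := Module.finite_of_finite (ResidueField A)

/-- Frobenius of the residue field. -/
noncomputable def Fr (A B : Type u) [CommRing A] [HenselianLocalRing A] [Finite (ResidueField A)] [CommRing B]
    [HenselianLocalRing B] [Algebra A B] [IsLocalHom (algebraMap A B)] :
    ResidueField B →ₐ[ResidueField A] ResidueField B :=
  letI := Fintype.ofFinite (ResidueField A)
  FiniteField.frobeniusAlgHom (ResidueField A) (ResidueField B)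

theorem Fr_apply (x : ResidueField B) : Fr A B x = x ^ Nat.card (ResidueField A) := by
  letI := Fintype.ofFinite (ResidueField A)
  rw [Nat.card_eq_fintype_card]
  rfl

theorem Fr_pow_eq_one : (Fr A B) ^ Module.finrank (ResidueField A) (ResidueField B) = 1 := by
  letI := Fintype.ofFinite (ResidueField A)
  have := finite_residueField A B
  have h := FiniteField.orderOf_frobeniusAlgHom (ResidueField A) (ResidueField B)
  rw [← h]
  exact pow_orderOf_eq_one _

theorem Fr_pow_ne_one {j : ℕ} (h0 : 0 < j) (h1 : j < Module.finrank (ResidueField A) (ResidueField B)) :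
    (Fr A B) ^ j ≠ 1 := by
  letI := Fintype.ofFinite (ResidueField A)
  have := finite_residueField A B
  have h := FiniteField.orderOf_frobeniusAlgHom (ResidueField A) (ResidueField B)
  rw [← h] at h1
  exact fun e => (orderOf_le_of_pow_eq_one h0 e).not_gt h1

variable (A B)

/-- Frobenius. -/
theorem exists_frob : ∃ σ : B →ₐ[A] B, ∀ b, residue B (σ b) = (residue B b) ^ Nat.card (ResidueField A) := by
  obtain ⟨σ, hσ⟩ := exists_lift (A := A) B B (((Fr A B).restrictScalars A).comp
    (IsScalarTower.toAlgHom A B (ResidueField B)))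
  refine ⟨σ, fun b => ?_⟩
  rw [hσ]
  exact Fr_apply _

/-- Frobenius. -/
noncomputable def frob : B →ₐ[A] B := (exists_frob A B).choose

theorem residue_frob (b : B) : residue B (frob A B b) = Fr A B (residue B b) :=
  ((exists_frob A B).choose_spec b).trans (Fr_apply _).symm

theorem residue_frob_pow (j : ℕ) (b : B) : residue B ((frob A B ^ j) b) = (Fr A B ^ j) (residue B b) := by
  induction j generalizing b with
  | zero => rfl
  | succ j ih =>
    rw [pow_succ, pow_succ]
    change residue B ((frob A B ^ j) (frob A B b)) = (Fr A B ^ j) (Fr A B (residue B b))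
    rw [ih, residue_frob]

theorem frob_pow_eq_one : frob A B ^ Module.finrank (ResidueField A) (ResidueField B) = 1 := by
  refine lift_unique B B _ _ fun c => ?_
  rw [residue_frob_pow, Fr_pow_eq_one]
  rfl

/-- The action of the cyclic group. -/
noncomputable def cyc (m : ℕ) [NeZero m] (hm : Module.finrank (ResidueField A) (ResidueField B) = m) :
    Multiplicative (ZMod m) →* (B →ₐ[A] B) where
  toFun a := frob A B ^ (Multiplicative.toAdd a).val
  map_one' := by
    rw [toAdd_one, ZMod.val_zero, pow_zero]
  map_mul' a b := by
    rw [toAdd_mul, ZMod.val_add, ← pow_add]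
    refine (pow_eq_pow_mod _ ?_).symm
    rw [← hm]
    exact frob_pow_eq_one A B

theorem residue_cyc (m : ℕ) [NeZero m] (hm : Module.finrank (ResidueField A) (ResidueField B) = m)
    (a : Multiplicative (ZMod m)) (b : B) :
    residue B (cyc A B m hm a b) = (Fr A B ^ (Multiplicative.toAdd a).val) (residue B b) := residue_frob_pow A B _ b

theorem exists_isUnit (m : ℕ) [NeZero m] (hm : Module.finrank (ResidueField A) (ResidueField B) = m)
    (a : Multiplicative (ZMod m)) (ha : a ≠ 1) : ∃ b, IsUnit (b - cyc A B m hm a b) := by
  have h0 : 0 < (Multiplicative.toAdd a).val := by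
    rw [Nat.pos_iff_ne_zero]
    intro h
    apply ha
    have := (ZMod.val_eq_zero _).1 h
    exact this
  have h1 := Fr_pow_ne_one (A := A) (B := B) h0 (by rw [hm]; exact ZMod.val_lt _)
  obtain ⟨x, hx⟩ : ∃ x, (Fr A B ^ (Multiplicative.toAdd a).val) x ≠ x := by
    by_contra hc
    push Not at hc
    exact h1 (AlgHom.ext hc)
  obtain ⟨b, rfl⟩ := residue_surjective x
  refine ⟨b, ?_⟩
  rw [← residue_ne_zero_iff_isUnit, map_sub, residue_cyc]
  exact sub_ne_zero.2 hx.symm

theorem injective : Function.Injective (algebraMap A B) := by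
  have : Module.Flat A B := inferInstance
  have : Module.Free A B := Module.free_of_flat_of_isLocalRing
  exact FaithfulSMul.algebraMap_injective A B

theorem mem_range_of_pow_eq {k l : Type u} [Field k] [Field l] [Algebra k l] [Fintype k] (x : l)
    (hx : x ^ Fintype.card k = x) : x ∈ Set.range (algebraMap k l) := by
  classical
  by_contra hn
  let p : Polynomial l := Polynomial.X ^ Fintype.card k - Polynomial.X
  have hq : 1 < Fintype.card k := Fintype.one_lt_card
  have hp0 : p ≠ 0 := FiniteField.X_pow_card_sub_X_ne_zero l hq
  let S : Finset l := insert x (Finset.univ.image (algebraMap k l))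
  have hS : S.card = Fintype.card k + 1 := by
    rw [Finset.card_insert_of_notMem, Finset.card_image_of_injective _ (algebraMap k l).injective, Finset.card_univ]
    intro h
    obtain ⟨y, -, hy⟩ := Finset.mem_image.1 h
    exact hn ⟨y, hy⟩
  have hsub : S ⊆ p.roots.toFinset := by
    intro y hy
    rw [Multiset.mem_toFinset, Polynomial.mem_roots hp0, Polynomial.IsRoot.def, Polynomial.eval_sub,
      Polynomial.eval_pow, Polynomial.eval_X, sub_eq_zero]
    rcases Finset.mem_insert.1 hy with rfl | hy
    · exact hx
    · obtain ⟨z, -, rfl⟩ := Finset.mem_image.1 hy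
      rw [← map_pow, FiniteField.pow_card]
  have h1 : S.card ≤ p.natDegree :=
    (Finset.card_le_card hsub).trans ((Multiset.toFinset_card_le _).trans (Polynomial.card_roots' p))
  rw [FiniteField.X_pow_card_sub_X_natDegree_eq l hq, hS] at h1
  omega

theorem mem_range_of_Fr_eq (x : ResidueField B) (hx : Fr A B x = x) : ∃ a : A, residue B (algebraMap A B a) = x := by
  let := Fintype.ofFinite (ResidueField A)
  rw [Fr_apply, Nat.card_eq_fintype_card] at hx
  obtain ⟨r, hr⟩ := mem_range_of_pow_eq (k := ResidueField A) x hx
  obtain ⟨a, rfl⟩ := residue_surjective r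
  exact ⟨a, hr⟩

/-- The trace of the residue field extension is not zero. -/
theorem exists_trace_ne_zero (m : ℕ) [NeZero m] (hm : Module.finrank (ResidueField A) (ResidueField B) = m) :
    ∃ x : ResidueField B, ∑ a : Multiplicative (ZMod m), (Fr A B ^ (Multiplicative.toAdd a).val) x ≠ 0 := by
  classical
  by_contra hc
  push Not at hc
  have hli := linearIndependent_monoidHom (ResidueField B) (ResidueField B)
  let g : Multiplicative (ZMod m) → (ResidueField B →* ResidueField B) := fun a =>
    ((Fr A B ^ (Multiplicative.toAdd a).val : ResidueField B →ₐ[ResidueField A] ResidueField B) :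
      ResidueField B →* ResidueField B)
  have hg : Function.Injective g := by
    have key : ∀ i j : ℕ, i < m → j < m → i ≤ j → (Fr A B ^ i = Fr A B ^ j) → i = j := by
      intro i j hi hj hij h
      by_contra hne
      have h1 : Fr A B ^ (j - i) = 1 := by
        refine AlgHom.ext fun x => ?_
        have hinj : Function.Injective (Fr A B ^ i : ResidueField B →ₐ[ResidueField A] ResidueField B) :=
          (Fr A B ^ i : ResidueField B →ₐ[ResidueField A] ResidueField B).toRingHom.injective
        apply hinj
        change ((Fr A B ^ i) * (Fr A B ^ (j - i))) x = (Fr A B ^ i) x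
        rw [← pow_add, Nat.add_sub_cancel' hij, h]
      exact Fr_pow_ne_one (A := A) (B := B) (by omega) (by rw [hm]; omega) h1
    intro a b hab
    have h1 : Fr A B ^ (Multiplicative.toAdd a).val = Fr A B ^ (Multiplicative.toAdd b).val :=
      AlgHom.ext fun x => DFunLike.congr_fun hab x
    have h2 : (Multiplicative.toAdd a).val = (Multiplicative.toAdd b).val := by
      rcases le_total (Multiplicative.toAdd a).val (Multiplicative.toAdd b).val with h | h
      · exact key _ _ (ZMod.val_lt _) (ZMod.val_lt _) h h1
      · exact (key _ _ (ZMod.val_lt _) (ZMod.val_lt _) h h1.symm).symm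
    exact Multiplicative.toAdd.injective (ZMod.val_injective m h2)
  have hli' := hli.comp g hg
  rw [Fintype.linearIndependent_iff] at hli'
  have h3 := hli' (fun _ => 1) (by
    funext x
    rw [Finset.sum_apply]
    refine Eq.trans ?_ (hc x)
    exact Finset.sum_congr rfl fun a _ => by rw [one_smul]; rfl) 1
  exact one_ne_zero h3

theorem mem_range_of_cyc_eq (m : ℕ) [NeZero m] (hm : Module.finrank (ResidueField A) (ResidueField B) = m)
    (b : B) (hb : ∀ a, cyc A B m hm a b = b) : b ∈ Set.range (algebraMap A B) := by
  classical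
  let N : Submodule A B :=
    { carrier := {b | ∀ a, cyc A B m hm a b = b}
      add_mem' := fun {x y} hx hy a => by rw [map_add, hx, hy]
      zero_mem' := fun a => map_zero _
      smul_mem' := fun r x hx a => by rw [map_smul, hx] }
  let T : B →ₗ[A] B := ∑ a, (cyc A B m hm a).toLinearMap
  have hT : ∀ x, T x = ∑ a, cyc A B m hm a x := fun x => by
    rw [LinearMap.sum_apply]
    rfl
  have hTN : ∀ x, T x ∈ N := by
    intro x c
    rw [hT, map_sum]
    refine Eq.trans ?_ (Equiv.sum_comp (Equiv.mulLeft c) (fun a => cyc A B m hm a x))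
    refine Finset.sum_congr rfl fun a _ => ?_
    rw [Equiv.coe_mulLeft, map_mul]
    rfl
  obtain ⟨x, hx⟩ := exists_trace_ne_zero A B m hm
  obtain ⟨c, rfl⟩ := residue_surjective x
  have hu : IsUnit (T c) := by
    rw [← residue_ne_zero_iff_isUnit, hT, map_sum]
    simp_rw [residue_cyc]
    exact hx
  obtain ⟨u, hu⟩ := hu
  have huN : ∀ a, cyc A B m hm a (↑u⁻¹ : B) = ↑u⁻¹ := by
    intro a
    have h1 : cyc A B m hm a (↑u : B) = ↑u := by
      rw [hu]
      exact hTN c a
    have h2 := congrArg (cyc A B m hm a) u.mul_inv
    rw [map_mul, h1, map_one] at h2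
    calc cyc A B m hm a (↑u⁻¹ : B) = ↑u⁻¹ * (↑u * cyc A B m hm a (↑u⁻¹ : B)) := by
          rw [← mul_assoc, u.inv_mul, one_mul]
      _ = ↑u⁻¹ := by rw [h2, mul_one]
  let c' : B := ↑u⁻¹ * c
  have hc' : T c' = 1 := by
    rw [hT]
    have : ∀ a, cyc A B m hm a c' = ↑u⁻¹ * cyc A B m hm a c := fun a => by rw [map_mul, huN]
    rw [Finset.sum_congr rfl fun a _ => this a, ← Finset.mul_sum, ← hT, ← hu, u.inv_mul]
  let P : B →ₗ[A] B := T ∘ₗ LinearMap.mulLeft A c'
  have hP : ∀ y ∈ N, P y = y := by
    intro y hy
    change T (c' * y) = y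
    rw [hT]
    have : ∀ a, cyc A B m hm a (c' * y) = cyc A B m hm a c' * y := fun a => by rw [map_mul, hy]
    rw [Finset.sum_congr rfl fun a _ => this a, ← Finset.sum_mul, ← hT, hc', one_mul]
  have hPr : LinearMap.range P = N := by
    apply le_antisymm
    · rintro _ ⟨y, rfl⟩
      exact hTN _
    · intro y hy
      exact ⟨y, hP y hy⟩
  have hfg : N.FG := by
    rw [← hPr, LinearMap.range_eq_map]
    exact Module.Finite.fg_top.map P
  have hle : N ≤ Submodule.span A {1} ⊔ maximalIdeal A • N := by
    intro y hy
    obtain ⟨a, ha⟩ := mem_range_of_Fr_eq A B (residue B y) (by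
      rcases Nat.lt_or_ge 1 m with h1 | h1
      · have h2 := hy (Multiplicative.ofAdd 1)
        have h3 := congrArg (residue B) h2
        rw [residue_cyc, toAdd_ofAdd, ZMod.val_one'' (by omega), pow_one] at h3
        exact h3
      · have hm1 : m = 1 := le_antisymm h1 (NeZero.one_le)
        have h4 := Fr_pow_eq_one (A := A) (B := B)
        rw [hm, hm1, pow_one] at h4
        rw [h4]
        rfl)
    have h1 : y - algebraMap A B a ∈ maximalIdeal B := by
      rw [← residue_eq_zero_iff, map_sub, ha, sub_self]
    rw [← Algebra.FormallyUnramified.map_maximalIdeal (R := A) (S := B)] at h1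
    have h2 : y - algebraMap A B a ∈ maximalIdeal A • (⊤ : Submodule A B) := by
      rw [Ideal.smul_top_eq_map]
      exact h1
    have h3 : P (y - algebraMap A B a) ∈ maximalIdeal A • N := by
      have h4 := Submodule.mem_map_of_mem (f := P) h2
      rw [Submodule.map_smul'', Submodule.map_top, hPr] at h4
      exact h4
    rw [hP _ (N.sub_mem hy fun b => (cyc A B m hm b).commutes a)] at h3
    have h5 : y = algebraMap A B a + (y - algebraMap A B a) := by ring
    rw [h5]
    refine Submodule.add_mem_sup ?_ h3
    rw [Algebra.algebraMap_eq_smul_one]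
    exact Submodule.smul_mem _ _ (Submodule.mem_span_singleton_self _)
  have hfin := Submodule.le_of_le_smul_of_le_jacobson_bot hfg (IsLocalRing.maximalIdeal_le_jacobson _) hle hb
  obtain ⟨a, ha⟩ := Submodule.mem_span_singleton.1 hfin
  exact ⟨a, by rw [← ha, Algebra.algebraMap_eq_smul_one]⟩

/-- The action by ring homomorphisms. -/
noncomputable def cycH (m : ℕ) [NeZero m] (hm : Module.finrank (ResidueField A) (ResidueField B) = m) :
    Multiplicative (ZMod m) →* (B →+* B) where
  toFun a := (cyc A B m hm a : B →+* B)
  map_one' := by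
    rw [map_one]
    rfl
  map_mul' a b := by
    rw [map_mul]
    rfl

theorem cycH_apply (m : ℕ) [NeZero m] (hm : Module.finrank (ResidueField A) (ResidueField B) = m)
    (a : Multiplicative (ZMod m)) (b : B) : cycH A B m hm a b = cyc A B m hm a b := rfl

theorem isGalH (m : ℕ) [NeZero m] (hm : Module.finrank (ResidueField A) (ResidueField B) = m) :
    IsGalH (algebraMap A B) (cycH A B m hm) where
  comm a x := (cyc A B m hm a).commutes x
  inj := injective A B
  inv b hb := mem_range_of_cyc_eq A B m hm b hb
  sep a ha := exists_isUnit A B m hm a ha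

include A in
theorem goodR : GoodR B := ⟨inferInstance, finite_residueField A B⟩

end

/-- Existence of the unramified extension of degree `m`. -/
theorem exists_unram (A : Type u) [CommRing A] [HenselianLocalRing A] [Finite (ResidueField A)] (m : ℕ) [NeZero m] :
    ∃ (B : Type u) (_ : CommRing B) (_ : HenselianLocalRing B) (_ : Algebra A B) (_ : IsLocalHom (algebraMap A B)),
      Module.Finite A B ∧ Algebra.Etale A B ∧ Module.finrank (ResidueField A) (ResidueField B) = m := by
  obtain ⟨l, _, _, hfin, hrank⟩ := exists_field_ext (ResidueField A) m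
  have hsep : Algebra.IsSeparable (ResidueField A) l := inferInstance
  have hfe : Algebra.FormallyEtale (ResidueField A) l := Algebra.FormallyEtale.of_isSeparable (ResidueField A) l
  have het : Algebra.Etale (ResidueField A) l :=
    { formallyEtale := hfe
      finitePresentation := Algebra.FinitePresentation.of_finiteType.1 inferInstance }
  obtain ⟨B, _, _, hB, hBe, ⟨e⟩⟩ := Groth.Agent.S0518.result A l
  have hloc : IsLocalRing B := isLocalRing e
  have hhen : HenselianLocalRing B := Groth.Agent.S0505.result A B
  have hlocal : IsLocalHom (algebraMap A B) := by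
    refine ((IsLocalRing.local_hom_TFAE (algebraMap A B)).out 4 0).1 ?_
    exact (eq_maximalIdeal (Ideal.isMaximal_comap_of_isIntegral_of_isMaximal (maximalIdeal B)))
  obtain ⟨e'⟩ := exists_residue_equiv e
  exact ⟨B, inferInstance, hhen, inferInstance, hlocal, hB, hBe, by rw [← e'.toLinearEquiv.finrank_eq, hrank]⟩

end K828.Unram
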