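import Groth.Agent.StackCount.K815.TwLang
import Groth.Agent.TateGlob.K828.Unram2
import Mathlib.AlgebraicGeometry.Morphisms.Flat
import Mathlib.AlgebraicGeometry.Morphisms.Preimmersion
import Mathlib.FieldTheory.IsAlgClosed.AlgebraicClosure
import Mathlib.FieldTheory.Finite.Basic

/-!
# Lang's theorem and norms of points over finite fields (helper828)

`G` a smooth connected commutative group scheme over a finite field `k`, `L/k` a finite extension of degree `m`,
`F = (· ≫ Fr G)` Frobenius on `G(L)`: `∏_{i<m} F^i x = 1` implies `x = F y / y`; `F x = x` implies `x = ∏_{i<m} F^i y`.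
-/

set_option autoImplicit false
set_option linter.unusedSectionVars false
universe u
open CategoryTheory Limits MonoidalCategory CartesianMonoidalCategory MonObj GrpObj AlgebraicGeometry

namespace K828.LangPt

open K815.Frob K815.PtsBC K815.TwLang Groth.Agent.Sga3B.BcPts GalTw

section grp

theorem mul_mul_mul_comm' {H : Type u} [CommGroup H] (a b c d : H) : a * b * (c * d) = a * c * (b * d) :=
  _root_.mul_mul_mul_comm a b c d

variable {H : Type u} [CommGroup H] (φ : Monoid.End H)

theorem prod_telescope (y : H) (m : ℕ) : ∏ i ∈ Finset.range m, (φ ^ i) (φ y * y⁻¹) = (φ ^ m) y * y⁻¹ := by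
  induction m with
  | zero =>
    rw [Finset.range_zero, Finset.prod_empty, pow_zero]
    exact (mul_inv_cancel y).symm
  | succ m ih =>
    rw [Finset.prod_range_succ, ih, map_mul, map_inv]
    have h : (φ ^ m) (φ y) = (φ ^ (m + 1)) y := by
      rw [pow_succ]
      rfl
    rw [h, _root_.mul_comm ((φ ^ m) y * y⁻¹), _root_.mul_assoc, inv_mul_cancel_left]

end grp

section pts

variable {k : Type u} [Field k] [Finite k] (G : Over (Spec (CommRingCat.of k))) [GrpObj G] [IsCommMonObj G]

/-- Frobenius on `T`-points. -/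
noncomputable def F (T : Over (Spec (CommRingCat.of k))) : Monoid.End (T ⟶ G) where
  toFun x := x ≫ Fr G
  map_one' := by
    rw [comp_Fr]
    exact MonObj.comp_one _
  map_mul' x y := MonObj.mul_comp x y (Fr G)

theorem F_apply (T : Over (Spec (CommRingCat.of k))) (x : T ⟶ G) : F G T x = x ≫ Fr G := rfl

theorem F_pow_apply (T : Over (Spec (CommRingCat.of k))) (r : ℕ) (x : T ⟶ G) :
    (F G T ^ r) x = x ≫ (Nat.iterate (· ≫ Fr G) r (𝟙 G)) := by
  induction r generalizing x with
  | zero => exact (Category.comp_id x).symm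
  | succ r ih =>
    rw [pow_succ', Function.iterate_succ_apply']
    change F G T ((F G T ^ r) x) = _
    rw [ih, F_apply, Category.assoc]

theorem F_pow_apply' (T : Over (Spec (CommRingCat.of k))) (r : ℕ) (x : T ⟶ G) :
    (F G T ^ r) x = (Nat.iterate (· ≫ Fr T) r (𝟙 T)) ≫ x := by
  induction r generalizing x with
  | zero => exact (Category.id_comp x).symm
  | succ r ih =>
    rw [pow_succ', Function.iterate_succ_apply']
    change F G T ((F G T ^ r) x) = _
    rw [ih, F_apply, Category.assoc, comp_Fr, Category.assoc]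

theorem comp_prod {T T' : Over (Spec (CommRingCat.of k))} (f : T' ⟶ T) (s : Finset ℕ) (g : ℕ → (T ⟶ G)) :
    f ≫ (∏ i ∈ s, g i) = ∏ i ∈ s, f ≫ g i :=
  map_prod (MonoidHom.mk' (fun z => f ≫ z) (fun a b => MonObj.comp_mul f a b) : (T ⟶ G) →* (T' ⟶ G)) g s

theorem F_comp {T T' : Over (Spec (CommRingCat.of k))} (f : T' ⟶ T) (r : ℕ) (x : T ⟶ G) :
    f ≫ (F G T ^ r) x = (F G T' ^ r) (f ≫ x) := by
  rw [F_pow_apply, F_pow_apply, Category.assoc]

instance isMonHom_iterate (r : ℕ) : IsMonHom (Nat.iterate (· ≫ Fr G) r (𝟙 G)) := by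
  induction r with
  | zero => exact inferInstanceAs (IsMonHom (𝟙 G))
  | succ r ih =>
    rw [Function.iterate_succ_apply']
    infer_instance

theorem infKill_iterate (r : ℕ) : K815.Lang.InfKill (Nat.iterate (· ≫ Fr G) (r + 1) (𝟙 G)) := by
  rw [Function.iterate_succ_apply']
  exact (infKill_Fr G).comp_left _

/-- **Lang's theorem** for the powers of Frobenius. -/
theorem exists_lang [Smooth G.hom] [ConnectedSpace G.left] {kb : Type u} [Field kb] [Algebra k kb] [IsAlgClosed kb]
    (r : ℕ) (hr : r ≠ 0) (y : SGA7.Pts kb G) : ∃ x : SGA7.Pts kb G, (F G _ ^ r) x * x⁻¹ = y := by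
  obtain ⟨r, rfl⟩ := Nat.exists_eq_succ_of_ne_zero hr
  have h1 : ConnectedSpace (bcK kb G).left := connectedSpace_bcK G
  have h2 : Smooth (bcK kb G).hom := inferInstanceAs (Smooth (pullback.snd _ _))
  let Φ : bcK kb G ⟶ bcK kb G := (Over.pullback (SGA7.pt (K := k) kb).hom).map (Nat.iterate (· ≫ Fr G) (r + 1) (𝟙 G))
  have h3 : IsMonHom Φ := inferInstance
  obtain ⟨x, hx⟩ := K815.Lang.exists_pt Φ (infKill_bc (infKill_iterate G r) _) (secOfPt kb (y⁻¹))
  obtain ⟨x, rfl⟩ := (secE G).surjective x
  refine ⟨x, ?_⟩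
  change secOfPt kb x * (secOfPt kb x ≫ Φ)⁻¹ = _ at hx
  rw [sec_comp, ← sec_inv, ← sec_mul] at hx
  have h4 := sec_injective hx
  rw [F_pow_apply, ← inv_inj, ← h4, _root_.mul_inv_rev, _root_.inv_inv]

end pts

section descend

variable {k : Type u} [Field k] [Finite k] {L : Type u} [Field L] [Algebra k L] [Finite L]
  {kb : Type u} [Field kb] [Algebra k kb] (j : L →ₐ[k] kb)

/-- `Spec kb ⟶ Spec L`. -/
noncomputable def ptHom : SGA7.pt (K := k) kb ⟶ SGA7.pt (K := k) L :=
  Over.homMk (Spec.map (CommRingCat.ofHom (j : L →+* kb))) (by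
    change Spec.map _ ≫ Spec.map _ = Spec.map _
    rw [← Spec.map_comp, ← CommRingCat.ofHom_comp]
    congr 2
    exact j.comp_algebraMap)

theorem ptHom_left : (ptHom j).left = Spec.map (CommRingCat.ofHom (j : L →+* kb)) := rfl

theorem epi_left : Epi (ptHom j).left := by
  have h1 : Flat (Spec.map (CommRingCat.ofHom (j : L →+* kb))) := by
    rw [HasRingHomProperty.Spec_iff (P := @Flat)]
    let := (j : L →+* kb).toAlgebra
    exact (inferInstance : Module.Flat L kb)
  have h2 : Surjective (Spec.map (CommRingCat.ofHom (j : L →+* kb))) := by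
    refine ⟨fun x => ?_⟩
    have : Subsingleton (Spec (CommRingCat.of L)) := inferInstanceAs (Subsingleton (PrimeSpectrum L))
    exact ⟨IsLocalRing.closedPoint kb, Subsingleton.elim _ _⟩
  exact Flat.epi_of_flat_of_surjective (Spec.map (CommRingCat.ofHom (j : L →+* kb)))

instance epi_ptHom : Epi (ptHom j) := (Over.forget _).epi_of_epi_map (epi_left j)

theorem iterate_Fr_pt (r : ℕ) : ∃ ψ : kb →+* kb, (∀ c, ψ c = c ^ Nat.card k ^ r) ∧
    ((Nat.iterate (· ≫ Fr (SGA7.pt (K := k) kb)) r (𝟙 _)).left) = Spec.map (CommRingCat.ofHom ψ) := by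
  obtain ⟨φ, hφ1, hφ2⟩ := exists_Fr_left (k := k) kb (Spec.map (CommRingCat.ofHom (algebraMap k kb)))
  induction r with
  | zero => exact ⟨RingHom.id _, fun c => by simp, (Spec.map_id _).symm⟩
  | succ r ih =>
    obtain ⟨ψ, hψ1, hψ2⟩ := ih
    refine ⟨ψ.comp φ, fun c => ?_, ?_⟩
    · rw [RingHom.comp_apply, hφ1, hψ1, ← pow_mul, ← pow_succ']
    · rw [Function.iterate_succ_apply', Over.comp_left, hψ2, CommRingCat.ofHom_comp, Spec.map_comp]
      congr 1

/-- Points over `kb` fixed by the `m`-th power of Frobenius are defined over `L`. -/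
theorem exists_descend (X : Over (Spec (CommRingCat.of k))) (y : SGA7.pt (K := k) kb ⟶ X)
    (hy : (Nat.iterate (· ≫ Fr (SGA7.pt (K := k) kb)) (Module.finrank k L) (𝟙 _)) ≫ y = y) :
    ∃ y' : SGA7.pt (K := k) L ⟶ X, ptHom j ≫ y' = y := by
  obtain ⟨ψ, hψ1, hψ2⟩ := iterate_Fr_pt (k := k) (kb := kb) (Module.finrank k L)
  obtain ⟨pt, h, hh⟩ : ∃ (pt : X.left) (h : X.left.residueField pt ⟶ CommRingCat.of kb),
      Spec.map h ≫ X.left.fromSpecResidueField pt = y.left :=
    ⟨_, _, Scheme.descResidueField_stalkClosedPointTo_fromSpecResidueField kb X.left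
      (show Spec (CommRingCat.of kb) ⟶ X.left from y.left)⟩
  have hfix : h ≫ CommRingCat.ofHom ψ = h := by
    apply Spec.map_injective
    rw [Spec.map_comp, ← cancel_mono (X.left.fromSpecResidueField pt), Category.assoc, hh, ← hψ2]
    exact congrArg (fun f => f.left) hy
  have hrange : ∀ c, h.hom c ∈ (j : L →+* kb).range := by
    intro c
    have h1 : h.hom c ^ Nat.card k ^ Module.finrank k L = h.hom c := by
      rw [← hψ1]
      exact ConcreteCategory.congr_hom hfix c
    have := Fintype.ofFinite L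
    have h2 : Nat.card k ^ Module.finrank k L = Fintype.card L := by
      rw [← Nat.card_eq_fintype_card]
      exact (Module.natCard_eq_pow_finrank (K := k)).symm
    rw [h2] at h1
    let := (j : L →+* kb).toAlgebra
    exact K828.Unram.mem_range_of_pow_eq (k := L) (l := kb) _ h1
  let e : L ≃+* (j : L →+* kb).range := RingEquiv.ofBijective (j : L →+* kb).rangeRestrict
    ⟨fun a b hab => (j : L →+* kb).injective (congrArg Subtype.val hab), (j : L →+* kb).rangeRestrict_surjective⟩
  let h' : X.left.residueField pt →+* L := e.symm.toRingHom.comp (h.hom.codRestrict (j : L →+* kb).range hrange)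
  have hjh : (j : L →+* kb).comp h' = h.hom := by
    ext c
    exact congrArg Subtype.val (e.apply_symm_apply (h.hom.codRestrict (j : L →+* kb).range hrange c))
  let y₁ : Spec (CommRingCat.of L) ⟶ X.left := Spec.map (CommRingCat.ofHom h') ≫ X.left.fromSpecResidueField pt
  have hy₁ : (ptHom j).left ≫ y₁ = y.left := by
    rw [ptHom_left, ← hh]
    change Spec.map _ ≫ Spec.map _ ≫ _ = _
    rw [← Category.assoc, ← Spec.map_comp, ← CommRingCat.ofHom_comp, hjh]
    rfl
  have hepi := epi_left j
  refine ⟨Over.homMk y₁ ?_, ?_⟩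
  · rw [← cancel_epi (ptHom j).left, ← Category.assoc, hy₁]
    exact (Over.w y).trans (Over.w (ptHom j)).symm
  · ext1
    exact hy₁

end descend

section main

variable {k : Type u} [Field k] [Finite k] (G : Over (Spec (CommRingCat.of k))) [GrpObj G] [IsCommMonObj G]
  [Smooth G.hom] [ConnectedSpace G.left] {L : Type u} [Field L] [Algebra k L] [Finite L]

theorem exists_of_norm_eq_one (x : SGA7.pt (K := k) L ⟶ G)
    (hx : ∏ i ∈ Finset.range (Module.finrank k L), (F G _ ^ i) x = 1) : ∃ y, F G _ y * y⁻¹ = x := by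
  have hfin : Module.Finite k L := Module.Finite.of_finite
  have hint : Algebra.IsAlgebraic k L := inferInstance
  let kb := AlgebraicClosure k
  let j : L →ₐ[k] kb := IsAlgClosed.lift
  obtain ⟨y, hy⟩ := exists_lang G (kb := kb) 1 one_ne_zero (ptHom j ≫ x)
  rw [pow_one] at hy
  have h1 : (F G _ ^ Module.finrank k L) y = y := by
    have h2 := prod_telescope (F G (SGA7.pt kb)) y (Module.finrank k L)
    rw [hy] at h2
    have h3 : ∏ i ∈ Finset.range (Module.finrank k L), (F G (SGA7.pt kb) ^ i) (ptHom j ≫ x) = 1 := by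
      have h4 : ptHom j ≫ (∏ i ∈ Finset.range (Module.finrank k L), (F G _ ^ i) x) = 1 := by
        rw [hx, MonObj.comp_one]
      rw [← h4, comp_prod]
      exact Finset.prod_congr rfl fun i _ => (F_comp G (ptHom j) i x).symm
    rw [h3] at h2
    exact mul_inv_eq_one.1 h2.symm
  rw [F_pow_apply'] at h1
  obtain ⟨y', rfl⟩ := exists_descend j G y h1
  refine ⟨y', ?_⟩
  rw [← cancel_epi (ptHom j), ← hy, MonObj.comp_mul, GrpObj.comp_inv]
  rfl

theorem exists_norm (x : SGA7.pt (K := k) L ⟶ G) (hx : F G _ x = x) :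
    ∃ y, ∏ i ∈ Finset.range (Module.finrank k L), (F G _ ^ i) y = x := by
  have hfin : Module.Finite k L := Module.Finite.of_finite
  have hint : Algebra.IsAlgebraic k L := inferInstance
  let kb := AlgebraicClosure k
  let j : L →ₐ[k] kb := IsAlgClosed.lift
  have hm : Module.finrank k L ≠ 0 := Module.finrank_pos.ne'
  obtain ⟨z, hz⟩ := exists_lang G (kb := kb) (Module.finrank k L) hm (ptHom j ≫ x)
  let φ := F G (SGA7.pt (K := k) kb)
  let y := φ z * z⁻¹
  have hx' : φ (ptHom j ≫ x) = ptHom j ≫ x := by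
    have := F_comp G (ptHom j) 1 x
    rw [pow_one, pow_one, hx] at this
    exact this.symm
  have h1 : (φ ^ Module.finrank k L) y = y := by
    have h2 : (φ ^ Module.finrank k L) z = (ptHom j ≫ x) * z := by
      rw [← hz]
      exact (inv_mul_cancel_right _ _).symm
    have h3 : (φ ^ Module.finrank k L) (φ z) = φ ((φ ^ Module.finrank k L) z) := by
      change ((φ ^ Module.finrank k L) * φ) z = (φ * φ ^ Module.finrank k L) z
      rw [← pow_succ, ← pow_succ']
    change (φ ^ Module.finrank k L) (φ z * z⁻¹) = _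
    rw [map_mul, map_inv, h3, h2, map_mul, hx', _root_.mul_inv, mul_mul_mul_comm', mul_inv_cancel, _root_.one_mul]
  have h1' := h1
  rw [F_pow_apply'] at h1'
  obtain ⟨y', hy'⟩ := exists_descend j G y h1'
  refine ⟨y', ?_⟩
  rw [← cancel_epi (ptHom j)]
  rw [comp_prod, ← hz, ← prod_telescope φ z]
  refine Finset.prod_congr rfl fun i _ => ?_
  rw [F_comp, hy']

end main

end K828.LangPt
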