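import Groth.Agent.TateLoc.K809.SmoothFun
import Groth.Agent.Sga3B.Hens.CocHens
import Mathlib.RingTheory.Henselian

/-!
# Lifting solutions of `d y = z` from the residue field of a henselian local ring (helper828)
-/

set_option autoImplicit false

universe u

open CategoryTheory MonoidalCategory CartesianMonoidalCategory AlgebraicGeometry Limits MonObj IsLocalRing
open scoped TensorProduct

namespace K828.LocLift

noncomputable section

open Groth.Agent.Books.AffBridge Groth.Agent.Sga3B.Hens K809.KerGrp K809.SmoothFun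

variable {A : Type u} [CommRing A] [HenselianLocalRing A] {𝒢 : Over (Spec (CommRingCat.of A))} [GrpObj 𝒢]

/-- The unit section of a smooth group over a local ring factors through a smooth chart. -/
theorem exists_unit_chart [Smooth 𝒢.hom] : ∃ (E : Type u) (_ : CommRing E) (_ : Algebra A E) (_ : Algebra.Smooth A E)
    (j : SpecOver A E ⟶ 𝒢) (_ : IsOpenImmersion j.left) (ε : E →ₐ[A] A), specMap A ε ≫ j = 1 := by
  let e : SpecOver A A ⟶ 𝒢 := 1
  obtain ⟨E, _, _, hE, j, hj, f, hf⟩ := CocHens.exists_charts 𝒢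
    (specMap A (Algebra.ofId A (ResidueField A)) ≫ e)
  have hr : Set.range e.left ⊆ Set.range j.left := by
    rintro _ ⟨a, rfl⟩
    let c : (SpecOver A A).left := closedPoint A
    have hc : e.left c ∈ Set.range j.left := by
      refine ⟨(specMap A f).left (closedPoint (ResidueField A)), ?_⟩
      rw [← Scheme.Hom.comp_apply, ← Over.comp_left, hf, Over.comp_left, Scheme.Hom.comp_apply]
      congr 1
      exact IsLocalRing.comap_closedPoint (residue A)
    have hac : a ⤳ c := IsLocalRing.specializes_closedPoint a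
    exact (hac.map e.left.continuous).mem_open j.left.isOpenEmbedding.isOpen_range hc
  let l := IsOpenImmersion.lift j.left e.left hr
  have hl : l ≫ j.left = e.left := IsOpenImmersion.lift_fac _ _ _
  let l' : SpecOver A A ⟶ SpecOver A E := Over.homMk l (by
    rw [← Over.w j, ← Category.assoc, hl, Over.w e])
  have hl' : l' ≫ j = e := by ext1; exact hl
  exact ⟨E, inferInstance, inferInstance, hE, j, hj, specPreimage A l', by rw [specMap_specPreimage, hl']⟩

/-- Solutions of `d y = z` lift from the residue field. -/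
theorem exists_sol [IsCommMonObj 𝒢] [IsSeparated 𝒢.hom] [Smooth 𝒢.hom] {B : Type u} [CommRing B] [Algebra A B]
    [Module.Finite A B] [Module.Free A B] (hf : IsField (ResidueField A ⊗[A] B))
    {κ κ' : Type*} [Fintype κ] [Fintype κ'] (s : κ → ℤ) (δ : κ → (B →ₐ[A] B)) (s' : κ' → ℤ) (δ' : κ' → (B →ₐ[A] B))
    (hdd : ∀ (G : Type u) [AddCommGroup G] (H : (B →ₐ[A] B) → G),
      ∑ i', s' i' • ∑ i, s i • H ((δ' i').comp (δ i)) = 0)
    (hex : ∀ (M : Type u) [AddCommGroup M] [Module A M] (z : M ⊗[A] B), LinearMap.lTensor M (lin s' δ') z = 0 →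
      ∃ y, LinearMap.lTensor M (lin s δ) y = z)
    (z : Pt 𝒢 B) (hz : ∑ i, s' i • res (δ' i) z = 0) (y₀ : Pt 𝒢 (ResidueField A ⊗[A] B))
    (hy₀ : cob s δ (ResidueField A) y₀ = cst (ResidueField A) z) :
    ∃ y : Pt 𝒢 B, ∑ i, s i • res (δ i) y = z := by
  obtain ⟨E₀, _, _, _, j₀, _, ε, hε⟩ := exists_unit_chart (𝒢 := 𝒢)
  obtain ⟨E, _, _, _, j, _, e, he⟩ := CocHens.exists_charts' 𝒢 hf y₀.toMul
  obtain ⟨Q, _, _, _, ev, hev, huniv⟩ := exists_smooth (s := s) (δ := δ) (s' := s') (δ' := δ') hdd hex j₀ hε j z hz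
  obtain ⟨q, hq⟩ := huniv (ResidueField A) e (by
    rw [he]
    exact hy₀)
  obtain ⟨q', hq'⟩ := CocHens.exists_algHom_lift Q q
  obtain ⟨y', hy'⟩ : ∃ y' : Pt 𝒢 (A ⊗[A] B), cob s δ A y' = cst A z :=
    ⟨res (bcR B q') (Additive.ofMul (specMap A ev ≫ j)), by rw [cob_res, hev, res_cst]⟩
  let lid : A ⊗[A] B →ₐ[A] B := (Algebra.TensorProduct.lid A B).toAlgHom
  refine ⟨res lid y', ?_⟩
  have h1 : ∀ i, res (δ i) (res lid y') = res lid (res (bcL A (δ i)) y') := by
    intro i
    have h3 : (δ i).comp lid = lid.comp (bcL A (δ i)) := by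
      ext b
      simp [lid]
    rw [res_comp, res_comp, h3]
  rw [Finset.sum_congr rfl fun i _ => by rw [h1 i, ← map_zsmul], ← map_sum, ← cob_apply, hy', cst, res_comp]
  have h2 : lid.comp Algebra.TensorProduct.includeRight = AlgHom.id A B := by
    ext b
    simp [lid]
  rw [h2, res_id]

end

end K828.LocLift
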