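import Groth.Agent.TateGlob.K828.TateOp
import Groth.Agent.TateGlob.K828.BcPt
import Groth.Agent.TateGlob.K828.LangPt
import Groth.Agent.TateGlob.K828.LocLift

/-!
# Vanishing of the Tate cohomology of `𝒢(B)`, `B/A` unramified (helper828)
-/

set_option autoImplicit false
set_option linter.unusedSectionVars false

universe u

open CategoryTheory MonoidalCategory CartesianMonoidalCategory AlgebraicGeometry Limits MonObj IsLocalRing
open Groth.Agent.Sga3B.BcPts Groth.Agent.Books.AffBridge K809.KerGrp K809.SmoothFun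
open scoped TensorProduct

namespace K828.LocTate

noncomputable section

section equiv'

variable {A k L : Type u} [CommRing A] [CommRing k] [CommRing L] [Algebra A k] [Algebra k L] [Algebra A L]
  [IsScalarTower A k L] (𝒢 : Over (Spec (CommRingCat.of A))) [GrpObj 𝒢]

/-- The comparison of the two structures of scheme over `A`. -/
def iso' : (Over.map (Spec.map (CommRingCat.ofHom (algebraMap A k)))).obj (SpecOver k L) ≅ SpecOver A L :=
  Over.isoMk (Iso.refl _) (by
    change 𝟙 _ ≫ Spec.map (CommRingCat.ofHom (algebraMap A L)) =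
      Spec.map (CommRingCat.ofHom (algebraMap k L)) ≫ Spec.map (CommRingCat.ofHom (algebraMap A k))
    rw [Category.id_comp, ← Spec.map_comp, ← CommRingCat.ofHom_comp, IsScalarTower.algebraMap_eq A k L])

/-- `L`-points of the base change. -/
def equiv' : (SpecOver A L ⟶ 𝒢) ≃* (SpecOver k L ⟶ BcPt.bcA (algebraMap A k) 𝒢) where
  toFun x := bcEquiv _ (SpecOver k L) 𝒢 ((iso' (A := A) (k := k) (L := L)).hom ≫ x)
  invFun y := (iso' (A := A) (k := k) (L := L)).inv ≫ (bcEquiv _ (SpecOver k L) 𝒢).symm y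
  left_inv x := by
    change (iso' (A := A) (k := k) (L := L)).inv ≫ (bcEquiv _ (SpecOver k L) 𝒢).symm
      (bcEquiv _ (SpecOver k L) 𝒢 ((iso' (A := A) (k := k) (L := L)).hom ≫ x)) = x
    rw [Equiv.symm_apply_apply, Iso.inv_hom_id_assoc]
  right_inv y := by
    change bcEquiv _ (SpecOver k L) 𝒢 ((iso' (A := A) (k := k) (L := L)).hom ≫
      (iso' (A := A) (k := k) (L := L)).inv ≫ (bcEquiv _ (SpecOver k L) 𝒢).symm y) = y
    rw [Iso.hom_inv_id_assoc, Equiv.apply_symm_apply]
  map_mul' x y := by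
    rw [MonObj.comp_mul, bcEquiv_mul]

theorem equiv'_apply (x : SpecOver A L ⟶ 𝒢) :
    equiv' (k := k) 𝒢 x = bcEquiv _ (SpecOver k L) 𝒢 ((iso' (A := A) (k := k) (L := L)).hom ≫ x) := rfl

theorem equiv'_comp (δ : L →ₐ[k] L) (x : SpecOver A L ⟶ 𝒢) :
    equiv' (k := k) 𝒢 (specMap A (δ.restrictScalars A) ≫ x) = specMap k δ ≫ equiv' (k := k) 𝒢 x := by
  rw [equiv'_apply, equiv'_apply, ← comp_bcEquiv]
  congr 1

end equiv'

section unram

variable (A B : Type u) [CommRing A] [HenselianLocalRing A] [Finite (ResidueField A)]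
  [CommRing B] [HenselianLocalRing B] [Algebra A B] [Module.Finite A B] [Algebra.Etale A B]
  [IsLocalHom (algebraMap A B)]

/-- The residue field of `B` as fibre. -/
theorem exists_e : ∃ e : ResidueField A ⊗[A] B ≃ₐ[A] ResidueField B, ∀ b, e (1 ⊗ₜ b) = residue B b := by
  let θ : ResidueField A ⊗[A] B →ₐ[A] ResidueField B :=
    Algebra.TensorProduct.lift (IsScalarTower.toAlgHom A (ResidueField A) (ResidueField B))
      (IsScalarTower.toAlgHom A B (ResidueField B)) fun _ _ => Commute.all _ _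
  have hθ : ∀ b, θ (1 ⊗ₜ b) = residue B b := fun b => by
    rw [Algebra.TensorProduct.lift_tmul, _root_.map_one, _root_.one_mul]
    rfl
  have hone : ∀ z : ResidueField A ⊗[A] B, ∃ b : B, z = 1 ⊗ₜ b := by
    intro z
    induction z using TensorProduct.induction_on with
    | zero => exact ⟨0, (TensorProduct.tmul_zero _ _).symm⟩
    | add x y hx hy =>
      obtain ⟨b, rfl⟩ := hx
      obtain ⟨c, rfl⟩ := hy
      exact ⟨b + c, (TensorProduct.tmul_add _ _ _).symm⟩
    | tmul r b =>
      obtain ⟨r, rfl⟩ := residue_surjective r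
      refine ⟨r • b, ?_⟩
      rw [← TensorProduct.smul_tmul, Algebra.smul_def, _root_.mul_one]
      rfl
  have hzero : ∀ b ∈ maximalIdeal B, (1 : ResidueField A) ⊗ₜ[A] b = 0 := by
    intro b hb
    rw [← Algebra.FormallyUnramified.map_maximalIdeal (R := A) (S := B)] at hb
    induction hb using Submodule.span_induction with
    | mem x hx =>
      obtain ⟨a, ha, rfl⟩ := hx
      rw [Algebra.algebraMap_eq_smul_one, ← TensorProduct.smul_tmul, Algebra.smul_def, _root_.mul_one]
      have : algebraMap A (ResidueField A) a = 0 := (residue_eq_zero_iff a).2 ha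
      rw [this, TensorProduct.zero_tmul]
    | zero => exact TensorProduct.tmul_zero _ _
    | add x y _ _ hx hy => rw [TensorProduct.tmul_add, hx, hy, add_zero]
    | smul a x _ hx =>
      rw [smul_eq_mul]
      have : (1 : ResidueField A) ⊗ₜ[A] (a * x) = ((1 : ResidueField A) ⊗ₜ[A] a) * (1 ⊗ₜ x) := by
        rw [Algebra.TensorProduct.tmul_mul_tmul, _root_.mul_one]
      rw [this, hx, mul_zero]
  refine ⟨AlgEquiv.ofBijective θ ⟨?_, fun y => ?_⟩, hθ⟩
  · rw [injective_iff_map_eq_zero]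
    intro z hz
    obtain ⟨b, rfl⟩ := hone z
    rw [hθ, residue_eq_zero_iff] at hz
    exact hzero b hz
  · obtain ⟨b, rfl⟩ := residue_surjective y
    exact ⟨1 ⊗ₜ b, hθ b⟩

theorem isField : IsField (ResidueField A ⊗[A] B) := by
  obtain ⟨e, -⟩ := exists_e A B
  exact e.toMulEquiv.isField (Field.toIsField _)

/-- residue map as algebra map -/
abbrev ρ : B →ₐ[A] ResidueField B := IsScalarTower.toAlgHom A B (ResidueField B)

/-- the power of Frobenius on the residue field, over `A` -/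
abbrev fr (j : ℕ) : ResidueField B →ₐ[A] ResidueField B := (Unram.Fr A B ^ j).restrictScalars A

theorem ρ_frob (j : ℕ) : (ρ A B).comp (Unram.frob A B ^ j) = (fr A B j).comp (ρ A B) := by
  ext b
  exact Unram.residue_frob_pow A B j b

variable {A B} {𝒢 : Over (Spec (CommRingCat.of A))} [GrpObj 𝒢]

theorem exists_y₀ [IsCommMonObj 𝒢] {κ : Type*} [Fintype κ] (s : κ → ℤ) (d : κ → ℕ) (z : Pt 𝒢 B)
    (y₁ : Pt 𝒢 (ResidueField B)) (hy₁ : ∑ i, s i • res (fr A B (d i)) y₁ = res (ρ A B) z) :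
    ∃ y₀ : Pt 𝒢 (ResidueField A ⊗[A] B), cob s (fun i => Unram.frob A B ^ d i) (ResidueField A) y₀ =
      cst (ResidueField A) z := by
  obtain ⟨e, he⟩ := exists_e A B
  have h1 : ∀ j, (e : ResidueField A ⊗[A] B →ₐ[A] ResidueField B).comp (bcL (ResidueField A) (Unram.frob A B ^ j)) =
      (fr A B j).comp (e : ResidueField A ⊗[A] B →ₐ[A] ResidueField B) := by
    intro j
    have h2 : ∀ x : ResidueField A ⊗[A] B, e (bcL (ResidueField A) (Unram.frob A B ^ j) x) = fr A B j (e x) := by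
      intro x
      induction x using TensorProduct.induction_on with
      | zero => rw [map_zero, map_zero, map_zero]
      | add x y hx hy => rw [map_add, map_add, hx, hy, map_add, map_add]
      | tmul r b =>
        obtain ⟨r, rfl⟩ := residue_surjective r
        have h3 : residue A r ⊗ₜ[A] b = (1 : ResidueField A) ⊗ₜ[A] (r • b) := by
          rw [← TensorProduct.smul_tmul, Algebra.smul_def, _root_.mul_one]
          rfl
        rw [h3, Algebra.TensorProduct.map_tmul, _root_.map_one, he, he]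
        exact Unram.residue_frob_pow A B j _
    exact AlgHom.ext h2
  refine ⟨res (e.symm : ResidueField B →ₐ[A] ResidueField A ⊗[A] B) y₁, ?_⟩
  have hinj : ∀ x y : Pt 𝒢 (ResidueField A ⊗[A] B), res (e : ResidueField A ⊗[A] B →ₐ[A] ResidueField B) x =
      res (e : ResidueField A ⊗[A] B →ₐ[A] ResidueField B) y → x = y := by
    intro x y hxy
    have h4 : ∀ x : Pt 𝒢 (ResidueField A ⊗[A] B), res (e.symm : _ →ₐ[A] _) (res (e : ResidueField A ⊗[A] B →ₐ[A] ResidueField B) x) = x := by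
      intro x
      rw [res_comp, AlgEquiv.symm_comp, res_id]
    rw [← h4 x, hxy, h4]
  apply hinj
  rw [cob_apply, map_sum, cst, res_comp]
  have h5 : (e : ResidueField A ⊗[A] B →ₐ[A] ResidueField B).comp Algebra.TensorProduct.includeRight = ρ A B := by
    ext b
    exact he b
  rw [h5, ← hy₁]
  refine Finset.sum_congr rfl fun i _ => ?_
  rw [map_zsmul, res_comp, h1, ← res_comp, res_comp (e.symm : ResidueField B →ₐ[A] ResidueField A ⊗[A] B), AlgEquiv.comp_symm, res_id]

variable (m : ℕ) [NeZero m] (hm : Module.finrank (ResidueField A) (ResidueField B) = m)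

/-- The special fibre. -/
abbrev Gk (𝒢 : Over (Spec (CommRingCat.of A))) : Over (Spec (CommRingCat.of (ResidueField A))) :=
  BcPt.bcA (algebraMap A (ResidueField A)) 𝒢

theorem specMap_Fr (j : ℕ) :
    (specMap (ResidueField A) (Unram.Fr A B ^ j) : SpecOver (ResidueField A) (ResidueField B) ⟶ _) =
      Nat.iterate (· ≫ K815.Frob.Fr _) j (𝟙 _) := by
  obtain ⟨φ, hφ1, hφ2⟩ := K815.Frob.exists_Fr_left (k := ResidueField A) (ResidueField B)
    (Spec.map (CommRingCat.ofHom (algebraMap (ResidueField A) (ResidueField B))))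
  have h1 : K815.Frob.Fr (SpecOver (ResidueField A) (ResidueField B)) = specMap (ResidueField A) (Unram.Fr A B) := by
    ext1
    refine hφ2.trans ?_
    change Spec.map _ = Spec.map _
    congr 2
    ext c
    exact (hφ1 c).trans (Unram.Fr_apply c).symm
  induction j with
  | zero => exact specMap_id _
  | succ j ih =>
    rw [Function.iterate_succ_apply', ← ih, h1, pow_succ, ← specMap_comp]
    rfl

/-- Points of the special fibre. -/
def PtE (𝒢 : Over (Spec (CommRingCat.of A))) [GrpObj 𝒢] :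
    Pt 𝒢 (ResidueField B) ≃ (SGA7.pt (K := ResidueField A) (ResidueField B) ⟶ Gk 𝒢) :=
  Additive.toMul.trans (equiv' (k := ResidueField A) 𝒢).toEquiv

theorem PtE_add (x y : Pt 𝒢 (ResidueField B)) : PtE 𝒢 (x + y) = PtE 𝒢 x * PtE 𝒢 y :=
  map_mul (equiv' (k := ResidueField A) 𝒢) x.toMul y.toMul

theorem PtE_res [IsCommMonObj 𝒢] (j : ℕ) (x : Pt 𝒢 (ResidueField B)) :
    PtE 𝒢 (res (fr A B j) x) = (LangPt.F (Gk 𝒢) _ ^ j) (PtE 𝒢 x) := by
  rw [LangPt.F_pow_apply']
  refine (equiv'_comp (k := ResidueField A) 𝒢 (Unram.Fr A B ^ j) x.toMul).trans ?_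
  rw [specMap_Fr]
  rfl

theorem PtE_sum [IsCommMonObj 𝒢] (f : ℕ → Pt 𝒢 (ResidueField B)) (m : ℕ) :
    PtE 𝒢 (∑ j ∈ Finset.range m, f j) = ∏ j ∈ Finset.range m, PtE 𝒢 (f j) := by
  induction m with
  | zero =>
    rw [Finset.range_zero, Finset.sum_empty, Finset.prod_empty]
    exact _root_.map_one (equiv' (k := ResidueField A) 𝒢)
  | succ m ih => rw [Finset.sum_range_succ, Finset.prod_range_succ, PtE_add, ih]

end unram

section tate

variable {A B : Type u} [CommRing A] [HenselianLocalRing A] [Finite (ResidueField A)]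
  [CommRing B] [HenselianLocalRing B] [Algebra A B] [Module.Finite A B] [Algebra.Etale A B]
  [IsLocalHom (algebraMap A B)]

theorem lTensor_lin (M : Type u) [AddCommGroup M] [Module A M] {κ : Type*} [Fintype κ] (s : κ → ℤ)
    (δ : κ → (B →ₐ[A] B)) (z : M ⊗[A] B) :
    LinearMap.lTensor M (lin s δ) z = ∑ i, s i • LinearMap.lTensor M (δ i).toLinearMap z := by
  have h : LinearMap.lTensor M (lin s δ) = ∑ i, s i • LinearMap.lTensor M (δ i).toLinearMap := by
    change LinearMap.lTensorHom M _ = ∑ i, s i • LinearMap.lTensorHom M _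
    rw [lin, map_sum]
    exact Finset.sum_congr rfl fun i _ => map_zsmul _ _ _
  rw [h, LinearMap.sum_apply]
  rfl

/-- The operator on `M ⊗ B`. -/
abbrev opS (A B : Type u) [CommRing A] [HenselianLocalRing A] [Finite (ResidueField A)]
    [CommRing B] [HenselianLocalRing B] [Algebra A B] [Module.Finite A B] [Algebra.Etale A B]
    [IsLocalHom (algebraMap A B)] (M : Type u) [AddCommGroup M] [Module A M] : M ⊗[A] B →+ M ⊗[A] B :=
  (LinearMap.lTensor M (Unram.frob A B).toLinearMap).toAddMonoidHom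

theorem lTensor_frob_pow (M : Type u) [AddCommGroup M] [Module A M] (j : ℕ) (z : M ⊗[A] B) :
    LinearMap.lTensor M (Unram.frob A B ^ j).toLinearMap z = (opS A B M)^[j] z := by
  induction j with
  | zero => exact LinearMap.lTensor_id_apply _ _ _
  | succ j ih =>
    rw [Function.iterate_succ_apply', ← ih]
    change _ = LinearMap.lTensor M (Unram.frob A B).toLinearMap (LinearMap.lTensor M _ z)
    rw [← LinearMap.comp_apply, ← LinearMap.lTensor_comp, pow_succ']
    rfl

variable {𝒢 : Over (Spec (CommRingCat.of A))} [GrpObj 𝒢] [IsCommMonObj 𝒢]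
  [IsSeparated 𝒢.hom] [Smooth 𝒢.hom] [ConnectedSpace (Gk 𝒢).left]
  (m : ℕ) [NeZero m] (hm : Module.finrank (ResidueField A) (ResidueField B) = m)

theorem comp_pow (i j : ℕ) : (Unram.frob A B ^ i).comp (Unram.frob A B ^ j) = Unram.frob A B ^ (i + j) :=
  (pow_add _ _ _).symm

include hm in
theorem frob_pow_m : Unram.frob A B ^ m = 1 := by
  have h := Unram.frob_pow_eq_one A B
  rwa [hm] at h

theorem sum_pow_sub {G : Type*} [AddCommGroup G] (f : ℕ → G) (m : ℕ) :
    ∑ j ∈ Finset.range m, (f (j + 1) - f j) = f m - f 0 := Finset.sum_range_sub f m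

include hm in
/-- Points of norm zero. -/
theorem pt_sub (z : Pt 𝒢 B) (hz : ∑ j ∈ Finset.range m, res (Unram.frob A B ^ j) z = 0) :
    ∃ y : Pt 𝒢 B, res (Unram.frob A B) y - y = z := by
  have hfin := Unram.finite_residueField A B
  have : Module.Free A B := Module.free_of_flat_of_isLocalRing
  have hS := fun (M : Type u) [AddCommGroup M] [Module A M] => TateOp.exists_ops A B m hm M
  -- the residual solution
  obtain ⟨y₁, hy₁⟩ : ∃ y₁ : Pt 𝒢 (ResidueField B), res (fr A B 1) y₁ - y₁ = res (ρ A B) z := by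
    have h1 : ∏ i ∈ Finset.range (Module.finrank (ResidueField A) (ResidueField B)),
        (LangPt.F (Gk 𝒢) _ ^ i) (PtE 𝒢 (res (ρ A B) z)) = 1 := by
      rw [hm, ← Finset.prod_congr rfl fun i _ => PtE_res i (res (ρ A B) z), ← PtE_sum]
      have h2 : ∑ j ∈ Finset.range m, res (fr A B j) (res (ρ A B) z) = 0 := by
        rw [← map_zero (res (𝒢 := 𝒢) (ρ A B)), ← hz, map_sum]
        refine Finset.sum_congr rfl fun j _ => ?_
        rw [res_comp, res_comp, ρ_frob]
      rw [h2]
      exact _root_.map_one (equiv' (k := ResidueField A) 𝒢)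
    have hsm : Smooth (Gk 𝒢).hom := inferInstanceAs (Smooth (pullback.snd _ _))
    obtain ⟨y, hy⟩ := LangPt.exists_of_norm_eq_one (Gk 𝒢) _ h1
    obtain ⟨y₁, rfl⟩ := (PtE (B := B) 𝒢).surjective y
    refine ⟨y₁, (PtE (B := B) 𝒢).injective ?_⟩
    rw [← hy, sub_eq_add_neg, PtE_add, PtE_res, pow_one]
    congr 1
    exact _root_.map_inv (equiv' (k := ResidueField A) 𝒢) y₁.toMul
  let s : Fin 2 → ℤ := ![1, -1]
  let d : Fin 2 → ℕ := ![1, 0]
  let s' : Fin m → ℤ := fun _ => 1
  obtain ⟨y₀, hy₀⟩ := exists_y₀ s d z y₁ (by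
    rw [Fin.sum_univ_two]
    change (1 : ℤ) • res (fr A B 1) y₁ + (-1 : ℤ) • res (fr A B 0) y₁ = _
    rw [one_smul, neg_smul, one_smul, ← sub_eq_add_neg, ← hy₁]
    congr 1
    exact res_id _)
  obtain ⟨y, hy⟩ := LocLift.exists_sol (isField A B) s (fun i => Unram.frob A B ^ d i) s'
    (fun i : Fin m => Unram.frob A B ^ (i : ℕ)) (by
      intro G _ H
      change ∑ i' : Fin m, (1 : ℤ) • ∑ i : Fin 2, s i • H ((Unram.frob A B ^ (i' : ℕ)).comp (Unram.frob A B ^ d i)) = 0
      rw [Fin.sum_univ_eq_sum_range (fun i' => (1 : ℤ) • ∑ i : Fin 2, s i •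
        H ((Unram.frob A B ^ (i' : ℕ)).comp (Unram.frob A B ^ d i))) m]
      have : ∀ i' : ℕ, (1 : ℤ) • ∑ i : Fin 2, s i • H ((Unram.frob A B ^ i').comp (Unram.frob A B ^ d i)) =
          H (Unram.frob A B ^ (i' + 1)) - H (Unram.frob A B ^ i') := by
        intro i'
        rw [Fin.sum_univ_two, one_smul]
        change (1 : ℤ) • H ((Unram.frob A B ^ i').comp (Unram.frob A B ^ 1)) +
          (-1 : ℤ) • H ((Unram.frob A B ^ i').comp (Unram.frob A B ^ 0)) = _
        rw [comp_pow, comp_pow, one_smul, neg_smul, one_smul, ← sub_eq_add_neg, add_zero]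
      rw [Finset.sum_congr rfl fun i' _ => this i', sum_pow_sub (fun j => H (Unram.frob A B ^ j)), frob_pow_m m hm, pow_zero,
        sub_self]) (by
      intro M _ _ z hz
      obtain ⟨μ', h1, h2, h3⟩ := hS M
      rw [lTensor_lin] at hz
      obtain ⟨y, hy⟩ := TateOp.exists_sub (opS A B M) μ' m h1 h2 h3 z (by
        rw [← hz]
        change _ = ∑ i : Fin m, (1 : ℤ) • LinearMap.lTensor M (Unram.frob A B ^ (i : ℕ)).toLinearMap z
        rw [Fin.sum_univ_eq_sum_range (fun i => (1 : ℤ) • LinearMap.lTensor M (Unram.frob A B ^ i).toLinearMap z) m]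
        refine Finset.sum_congr rfl fun j _ => ?_
        rw [one_smul, lTensor_frob_pow])
      refine ⟨y, ?_⟩
      rw [lTensor_lin, Fin.sum_univ_two, ← hy]
      change (1 : ℤ) • LinearMap.lTensor M (Unram.frob A B ^ 1).toLinearMap y +
        (-1 : ℤ) • LinearMap.lTensor M (Unram.frob A B ^ 0).toLinearMap y = _
      rw [one_smul, neg_smul, one_smul, ← sub_eq_add_neg, lTensor_frob_pow, lTensor_frob_pow]
      rfl) z (by
      change ∑ i : Fin m, (1 : ℤ) • res (Unram.frob A B ^ (i : ℕ)) z = 0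
      rw [Fin.sum_univ_eq_sum_range (fun i => (1 : ℤ) • res (Unram.frob A B ^ i) z) m, ← hz]
      exact Finset.sum_congr rfl fun j _ => one_smul _ _) y₀ hy₀
  refine ⟨y, ?_⟩
  rw [← hy, Fin.sum_univ_two]
  change _ = (1 : ℤ) • res (Unram.frob A B ^ 1) y + (-1 : ℤ) • res (Unram.frob A B ^ 0) y
  rw [one_smul, neg_smul, one_smul, ← sub_eq_add_neg, pow_one]
  congr 1
  exact (res_id _).symm

include hm in
/-- Invariant points are norms. -/
theorem pt_norm (z : Pt 𝒢 B) (hz : res (Unram.frob A B) z = z) :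
    ∃ y : Pt 𝒢 B, ∑ j ∈ Finset.range m, res (Unram.frob A B ^ j) y = z := by
  have hfin := Unram.finite_residueField A B
  have : Module.Free A B := Module.free_of_flat_of_isLocalRing
  have hS := fun (M : Type u) [AddCommGroup M] [Module A M] => TateOp.exists_ops A B m hm M
  -- the residual solution
  obtain ⟨y₁, hy₁⟩ : ∃ y₁ : Pt 𝒢 (ResidueField B), ∑ j ∈ Finset.range m, res (fr A B j) y₁ = res (ρ A B) z := by
    have h1 : LangPt.F (Gk 𝒢) _ (PtE 𝒢 (res (ρ A B) z)) = PtE 𝒢 (res (ρ A B) z) := by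
      have h2 := PtE_res 1 (res (ρ A B) z)
      rw [pow_one] at h2
      rw [← h2]
      congr 1
      rw [res_comp, ← ρ_frob, ← res_comp, pow_one, hz]
    have hsm : Smooth (Gk 𝒢).hom := inferInstanceAs (Smooth (pullback.snd _ _))
    obtain ⟨y, hy⟩ := LangPt.exists_norm (Gk 𝒢) _ h1
    obtain ⟨y₁, rfl⟩ := (PtE (B := B) 𝒢).surjective y
    refine ⟨y₁, (PtE (B := B) 𝒢).injective ?_⟩
    rw [← hy, PtE_sum, hm]
    exact Finset.prod_congr rfl fun i _ => PtE_res i y₁
  let s' : Fin 2 → ℤ := ![1, -1]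
  let d' : Fin 2 → ℕ := ![1, 0]
  let s : Fin m → ℤ := fun _ => 1
  obtain ⟨y₀, hy₀⟩ := exists_y₀ s (fun j : Fin m => (j : ℕ)) z y₁ (by
    change ∑ i : Fin m, (1 : ℤ) • res (fr A B (i : ℕ)) y₁ = _
    rw [Fin.sum_univ_eq_sum_range (fun i => (1 : ℤ) • res (fr A B i) y₁) m, ← hy₁]
    exact Finset.sum_congr rfl fun j _ => one_smul _ _)
  obtain ⟨y, hy⟩ := LocLift.exists_sol (isField A B) s (fun i : Fin m => Unram.frob A B ^ (i : ℕ)) s'
    (fun i => Unram.frob A B ^ d' i) (by
      intro G _ H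
      rw [Fin.sum_univ_two]
      change (1 : ℤ) • ∑ i : Fin m, (1 : ℤ) • H ((Unram.frob A B ^ 1).comp (Unram.frob A B ^ (i : ℕ))) +
        (-1 : ℤ) • ∑ i : Fin m, (1 : ℤ) • H ((Unram.frob A B ^ 0).comp (Unram.frob A B ^ (i : ℕ))) = 0
      rw [one_smul, neg_smul, one_smul, ← sub_eq_add_neg, ← Finset.sum_sub_distrib]
      have : ∀ i : Fin m, (1 : ℤ) • H ((Unram.frob A B ^ 1).comp (Unram.frob A B ^ (i : ℕ))) -
          (1 : ℤ) • H ((Unram.frob A B ^ 0).comp (Unram.frob A B ^ (i : ℕ))) =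
          H (Unram.frob A B ^ ((i : ℕ) + 1)) - H (Unram.frob A B ^ (i : ℕ)) := by
        intro i
        rw [one_smul, one_smul, comp_pow, comp_pow, zero_add, add_comm 1]
      rw [Finset.sum_congr rfl fun i _ => this i, Fin.sum_univ_eq_sum_range (fun i =>
        H (Unram.frob A B ^ (i + 1)) - H (Unram.frob A B ^ i)) m, sum_pow_sub (fun j => H (Unram.frob A B ^ j)),
        frob_pow_m m hm, pow_zero, sub_self]) (by
      intro M _ _ z hz
      obtain ⟨μ', h1, h2, -⟩ := hS M
      rw [lTensor_lin, Fin.sum_univ_two] at hz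
      change (1 : ℤ) • LinearMap.lTensor M (Unram.frob A B ^ 1).toLinearMap z +
        (-1 : ℤ) • LinearMap.lTensor M (Unram.frob A B ^ 0).toLinearMap z = 0 at hz
      rw [one_smul, neg_smul, one_smul, ← sub_eq_add_neg, lTensor_frob_pow, lTensor_frob_pow] at hz
      obtain ⟨y, hy⟩ := TateOp.exists_norm (opS A B M) μ' m h1 h2 z (sub_eq_zero.1 hz)
      refine ⟨y, ?_⟩
      rw [lTensor_lin, ← hy]
      change ∑ i : Fin m, (1 : ℤ) • LinearMap.lTensor M (Unram.frob A B ^ (i : ℕ)).toLinearMap y = _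
      rw [Fin.sum_univ_eq_sum_range (fun i => (1 : ℤ) • LinearMap.lTensor M (Unram.frob A B ^ i).toLinearMap y) m]
      refine Finset.sum_congr rfl fun j _ => ?_
      rw [one_smul, lTensor_frob_pow]) z (by
      rw [Fin.sum_univ_two]
      change (1 : ℤ) • res (Unram.frob A B ^ 1) z + (-1 : ℤ) • res (Unram.frob A B ^ 0) z = 0
      rw [one_smul, neg_smul, one_smul, ← sub_eq_add_neg, pow_one, hz, sub_eq_zero]
      exact (res_id _).symm) y₀ hy₀
  refine ⟨y, ?_⟩
  rw [← hy]
  change _ = ∑ i : Fin m, (1 : ℤ) • res (Unram.frob A B ^ (i : ℕ)) y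
  rw [Fin.sum_univ_eq_sum_range (fun i => (1 : ℤ) • res (Unram.frob A B ^ i) y) m]
  exact Finset.sum_congr rfl fun j _ => (one_smul _ _).symm

end tate

end

end K828.LocTate
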