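import Groth.Agent.TateGlob.K828.LocTate
import Groth.Agent.TateGlob.K828.GalSch
import Groth.Agent.TateGlob.K827.Pts

/-!
# Tate cohomology of the points over a product of unramified extensions (helper828)
-/

set_option autoImplicit false
set_option linter.unusedSectionVars false

universe u

open CategoryTheory MonoidalCategory CartesianMonoidalCategory AlgebraicGeometry Limits MonObj IsLocalRing
open Groth.Agent.Books.AffBridge K809.KerGrp
open scoped TensorProduct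

namespace K828.LocTate

section loc

variable {O : Type u} [CommRing O] {A B : Type u} [CommRing A] [HenselianLocalRing A] [Finite (ResidueField A)]
  [CommRing B] [HenselianLocalRing B] [Algebra A B] [Module.Finite A B] [Algebra.Etale A B]
  [IsLocalHom (algebraMap A B)] {𝒢 : Over (Spec (CommRingCat.of O))} [GrpObj 𝒢] [IsCommMonObj 𝒢]
  [IsSeparated 𝒢.hom] [Smooth 𝒢.hom] (φ : O →+* A)
  (m : ℕ) [NeZero m] (hm : Module.finrank (ResidueField A) (ResidueField B) = m)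

/-- The action of the cyclic group on `Spec B`. -/
noncomputable def act (a : Multiplicative (ZMod m)) :
    AdFn.specOf ((algebraMap A B).comp φ) ⟶ AdFn.specOf ((algebraMap A B).comp φ) :=
  AdFn.specOfHom _ _ (Unram.cycH A B m hm a) (RingHom.ext fun x => (Unram.isGalH A B m hm).comm a (φ x))

theorem equiv_act (a : Multiplicative (ZMod m)) (z : AdFn.specOf ((algebraMap A B).comp φ) ⟶ 𝒢) :
    Additive.ofMul (BcPt.equiv φ 𝒢 B (act φ m hm a ≫ z)) =
      res (Unram.frob A B ^ (Multiplicative.toAdd a).val) (Additive.ofMul (BcPt.equiv φ 𝒢 B z)) :=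
  congrArg Additive.ofMul (BcPt.equiv_comp φ 𝒢 (Unram.cyc A B m hm a) _ z)

theorem equiv_prod (z : AdFn.specOf ((algebraMap A B).comp φ) ⟶ 𝒢) :
    Additive.ofMul (BcPt.equiv φ 𝒢 B (∏ a, act φ m hm a ≫ z)) =
      ∑ j ∈ Finset.range m, res (Unram.frob A B ^ j) (Additive.ofMul (BcPt.equiv φ 𝒢 B z)) := by
  rw [map_prod, ofMul_prod, Finset.sum_congr rfl fun a _ => equiv_act φ m hm a z]
  exact TateOp.sum_zmod m (fun j => res (Unram.frob A B ^ j) (Additive.ofMul (BcPt.equiv φ 𝒢 B z)))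

include hm in
theorem frob_val_one : Unram.frob A B ^ (Multiplicative.toAdd (Multiplicative.ofAdd (1 : ZMod m))).val =
    Unram.frob A B := by
  rw [toAdd_ofAdd, ZMod.val_one_eq_one_mod, ← pow_eq_pow_mod 1 (frob_pow_m m hm), pow_one]

variable (hconn : ConnectedSpace (BcPt.bcA ((algebraMap A (ResidueField A)).comp φ) 𝒢).left)

include hconn in
theorem connectedSpace_Gk : ConnectedSpace (Gk (BcPt.bcA φ 𝒢)).left := by
  have h1 : IsPullback (pullback.fst (pullback.snd 𝒢.hom (Spec.map (CommRingCat.ofHom φ)))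
      (Spec.map (CommRingCat.ofHom (algebraMap A (ResidueField A)))) ≫ pullback.fst 𝒢.hom (Spec.map (CommRingCat.ofHom φ)))
      (pullback.snd (pullback.snd 𝒢.hom (Spec.map (CommRingCat.ofHom φ)))
      (Spec.map (CommRingCat.ofHom (algebraMap A (ResidueField A))))) 𝒢.hom
      (Spec.map (CommRingCat.ofHom (algebraMap A (ResidueField A))) ≫ Spec.map (CommRingCat.ofHom φ)) :=
    ((IsPullback.of_hasPullback _ _).paste_horiz (IsPullback.of_hasPullback _ _))
  have h3 : Spec.map (CommRingCat.ofHom (algebraMap A (ResidueField A))) ≫ Spec.map (CommRingCat.ofHom φ) =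
      Spec.map (CommRingCat.ofHom ((algebraMap A (ResidueField A)).comp φ)) := by
    rw [← Spec.map_comp, ← CommRingCat.ofHom_comp]
  rw [h3] at h1
  have h2 : ConnectedSpace ↑(pullback 𝒢.hom (Spec.map (CommRingCat.ofHom ((algebraMap A (ResidueField A)).comp φ)))) :=
    hconn
  exact (Scheme.homeoOfIso h1.isoPullback.symm).surjective.connectedSpace (Scheme.homeoOfIso h1.isoPullback.symm).continuous

include hconn in
theorem loc_sub (z : AdFn.specOf ((algebraMap A B).comp φ) ⟶ 𝒢) (hz : ∏ a, act φ m hm a ≫ z = 1) :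
    ∃ y : AdFn.specOf ((algebraMap A B).comp φ) ⟶ 𝒢, (act φ m hm (Multiplicative.ofAdd 1) ≫ y) * y⁻¹ = z := by
  have h1 := connectedSpace_Gk φ hconn
  have h2 : Smooth (BcPt.bcA φ 𝒢).hom := inferInstanceAs (Smooth (pullback.snd _ _))
  have h3 : IsSeparated (BcPt.bcA φ 𝒢).hom := inferInstanceAs (IsSeparated (pullback.snd _ _))
  obtain ⟨y, hy⟩ := pt_sub m hm (Additive.ofMul (BcPt.equiv φ 𝒢 B z)) (by
    rw [← equiv_prod φ m hm, hz, _root_.map_one]
    rfl)
  obtain ⟨y', hy'⟩ := (BcPt.equiv φ 𝒢 B).surjective y.toMul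
  refine ⟨y', (BcPt.equiv φ 𝒢 B).injective ?_⟩
  rw [_root_.map_mul, _root_.map_inv]
  apply Additive.ofMul.injective
  rw [← hy, ofMul_mul, ofMul_inv, equiv_act, frob_val_one m hm, hy', ← sub_eq_add_neg]
  rfl

include hconn in
theorem loc_norm (z : AdFn.specOf ((algebraMap A B).comp φ) ⟶ 𝒢) (hz : act φ m hm (Multiplicative.ofAdd 1) ≫ z = z) :
    ∃ y : AdFn.specOf ((algebraMap A B).comp φ) ⟶ 𝒢, ∏ a, act φ m hm a ≫ y = z := by
  have h1 := connectedSpace_Gk φ hconn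
  have h2 : Smooth (BcPt.bcA φ 𝒢).hom := inferInstanceAs (Smooth (pullback.snd _ _))
  have h3 : IsSeparated (BcPt.bcA φ 𝒢).hom := inferInstanceAs (IsSeparated (pullback.snd _ _))
  obtain ⟨y, hy⟩ := pt_norm m hm (Additive.ofMul (BcPt.equiv φ 𝒢 B z)) (by
    have := equiv_act φ m hm (Multiplicative.ofAdd 1) z
    rw [frob_val_one m hm, hz] at this
    exact this.symm)
  obtain ⟨y', hy'⟩ := (BcPt.equiv φ 𝒢 B).surjective y.toMul
  refine ⟨y', (BcPt.equiv φ 𝒢 B).injective ?_⟩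
  apply Additive.ofMul.injective
  rw [← hy, equiv_prod, hy']
  rfl

end loc

section pi

variable {O : Type u} [CommRing O] {I : Type u} {A B : I → Type u} [∀ i, CommRing (A i)] [∀ i, HenselianLocalRing (A i)]
  [∀ i, Finite (ResidueField (A i))] [∀ i, CommRing (B i)] [∀ i, HenselianLocalRing (B i)] [∀ i, Algebra (A i) (B i)]
  [∀ i, Module.Finite (A i) (B i)] [∀ i, Algebra.Etale (A i) (B i)]
  [∀ i, IsLocalHom (algebraMap (A i) (B i))] {𝒢 : Over (Spec (CommRingCat.of O))} [GrpObj 𝒢] [IsCommMonObj 𝒢]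
  [IsSeparated 𝒢.hom] [Smooth 𝒢.hom] [QuasiCompact 𝒢.hom] (φ : O →+* ∀ i, A i)
  (m : ℕ) [NeZero m] (hm : ∀ i, Module.finrank (ResidueField (A i)) (ResidueField (B i)) = m)
  (hconn : ∀ i, ConnectedSpace (BcPt.bcA ((algebraMap (A i) (ResidueField (A i))).comp ((Pi.evalRingHom A i).comp φ)) 𝒢).left)

/-- The ring homomorphism. -/
abbrev fpi (A B : I → Type u) [∀ i, CommRing (A i)] [∀ i, CommRing (B i)] [∀ i, Algebra (A i) (B i)] :
    (∀ i, A i) →+* ∀ i, B i := RingHom.pi fun i => (algebraMap (A i) (B i)).comp (Pi.evalRingHom A i)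

/-- The action. -/
noncomputable abbrev τpi (A B : I → Type u) [∀ i, CommRing (A i)] [∀ i, HenselianLocalRing (A i)]
  [∀ i, Finite (ResidueField (A i))] [∀ i, CommRing (B i)] [∀ i, HenselianLocalRing (B i)] [∀ i, Algebra (A i) (B i)]
  [∀ i, Module.Finite (A i) (B i)] [∀ i, Algebra.Etale (A i) (B i)]
  [∀ i, IsLocalHom (algebraMap (A i) (B i))] (m : ℕ) [NeZero m]
  (hm : ∀ i, Module.finrank (ResidueField (A i)) (ResidueField (B i)) = m) :
    Multiplicative (ZMod m) →* ((∀ i, B i) →+* (∀ i, B i)) := GalSch.piAct fun i => Unram.cycH (A i) (B i) m (hm i)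

include hm in
theorem isGalH_pi : GalSch.IsGalH (fpi A B) (τpi A B m hm) :=
  GalSch.IsGalH.pi (fun i => Unram.isGalH (A i) (B i) m (hm i)) _ fun _ _ _ => rfl

/-- The action on the spectrum. -/
noncomputable def actpi (a : Multiplicative (ZMod m)) :
    AdFn.specOf ((fpi A B).comp φ) ⟶ AdFn.specOf ((fpi A B).comp φ) :=
  AdFn.specOfHom _ _ (τpi A B m hm a) (RingHom.ext fun x => (isGalH_pi m hm).comm a (φ x))

/-- The projections. -/
noncomputable def pr (i : I) : AdFn.specOf ((algebraMap (A i) (B i)).comp ((Pi.evalRingHom A i).comp φ)) ⟶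
    AdFn.specOf ((fpi A B).comp φ) :=
  AdFn.specOfHom _ _ (Pi.evalRingHom B i) rfl

theorem pr_act (i : I) (a : Multiplicative (ZMod m)) :
    pr (B := B) φ i ≫ actpi φ m hm a = act ((Pi.evalRingHom A i).comp φ) m (hm i) a ≫ pr (B := B) φ i := by
  rw [pr, act, actpi, GalSch.specOfHom_comp, GalSch.specOfHom_comp]
  rfl

theorem pr_ext (y y' : AdFn.specOf ((fpi A B).comp φ) ⟶ 𝒢) (h : ∀ i, pr (B := B) φ i ≫ y = pr (B := B) φ i ≫ y') :
    y = y' :=
  K827.Pts.ext_of_jointly_injective 𝒢 _ B _ (fun i => Pi.evalRingHom B i) (fun _ => rfl) (fun _ ha => funext ha) y y' h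

theorem exists_pr (x : ∀ i, AdFn.specOf ((algebraMap (A i) (B i)).comp ((Pi.evalRingHom A i).comp φ)) ⟶ 𝒢) :
    ∃ y : AdFn.specOf ((fpi A B).comp φ) ⟶ 𝒢, ∀ i, pr (B := B) φ i ≫ y = x i :=
  K827.Pts.exists_point_pi 𝒢 B _ x

theorem comp_prod' {X Y : Over (Spec (CommRingCat.of O))} {J : Type*} (s : Finset J) (h : Y ⟶ X) (f : J → (X ⟶ 𝒢)) :
    h ≫ ∏ a ∈ s, f a = ∏ a ∈ s, h ≫ f a :=
  map_prod (MonoidHom.mk' (fun z => h ≫ z) (fun a b => MonObj.comp_mul h a b) : (X ⟶ 𝒢) →* (Y ⟶ 𝒢)) f s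

include hconn in
theorem pi_sub (z : AdFn.specOf ((fpi A B).comp φ) ⟶ 𝒢) (hz : ∏ a, actpi φ m hm a ≫ z = 1) :
    ∃ y : AdFn.specOf ((fpi A B).comp φ) ⟶ 𝒢, (actpi φ m hm (Multiplicative.ofAdd 1) ≫ y) * y⁻¹ = z := by
  have h : ∀ i, ∃ y : AdFn.specOf ((algebraMap (A i) (B i)).comp ((Pi.evalRingHom A i).comp φ)) ⟶ 𝒢,
      (act ((Pi.evalRingHom A i).comp φ) m (hm i) (Multiplicative.ofAdd 1) ≫ y) * y⁻¹ = pr (B := B) φ i ≫ z := by
    intro i
    refine loc_sub _ m (hm i) (hconn i) _ ?_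
    rw [← MonObj.comp_one (pr (B := B) φ i), ← hz, comp_prod']
    exact Finset.prod_congr rfl fun a _ => by rw [← Category.assoc, ← pr_act, Category.assoc]
  choose x hx using h
  obtain ⟨y, hy⟩ := exists_pr φ x
  refine ⟨y, pr_ext φ _ _ fun i => ?_⟩
  rw [MonObj.comp_mul, GrpObj.comp_inv, hy, ← hx, ← Category.assoc, pr_act, Category.assoc, hy]

include hconn in
theorem pi_norm (z : AdFn.specOf ((fpi A B).comp φ) ⟶ 𝒢) (hz : actpi φ m hm (Multiplicative.ofAdd 1) ≫ z = z) :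
    ∃ y : AdFn.specOf ((fpi A B).comp φ) ⟶ 𝒢, ∏ a, actpi φ m hm a ≫ y = z := by
  have h : ∀ i, ∃ y : AdFn.specOf ((algebraMap (A i) (B i)).comp ((Pi.evalRingHom A i).comp φ)) ⟶ 𝒢,
      ∏ a, act ((Pi.evalRingHom A i).comp φ) m (hm i) a ≫ y = pr (B := B) φ i ≫ z := by
    intro i
    refine loc_norm _ m (hm i) (hconn i) _ ?_
    rw [← Category.assoc, ← pr_act, Category.assoc, hz]
  choose x hx using h
  obtain ⟨y, hy⟩ := exists_pr φ x
  refine ⟨y, pr_ext φ _ _ fun i => ?_⟩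
  rw [comp_prod', ← hx]
  exact Finset.prod_congr rfl fun a _ => by rw [← Category.assoc, pr_act, Category.assoc, hy]

end pi

end K828.LocTate
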