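import Mathlib.RingTheory.Etale.StandardEtale
import Mathlib.FieldTheory.Finite.GaloisField
import Mathlib.FieldTheory.IntermediateField.Adjoin.Basic
import Mathlib.RingTheory.Spectrum.Prime.Basic

/-!
# Points of standard étale algebras in finite fields (helper828)
-/

set_option autoImplicit false

universe u

open scoped TensorProduct
open Polynomial

namespace K828.StdRes

theorem exists_algHom {A C k l : Type u} [CommRing A] [CommRing C] [Algebra A C]
    (P : StandardEtalePresentation A C) [Field k] [Field l] [Finite k] [Finite l] [Algebra A k] [Algebra k l]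
    [Algebra A l] [IsScalarTower A k l] (h : Nontrivial (k ⊗[A] C))
    (hdvd : ∀ d, 0 < d → d ≤ P.f.natDegree → d ∣ Module.finrank k l) : Nonempty (C →ₐ[A] l) := by
  obtain ⟨M, hM⟩ := Ideal.exists_maximal (k ⊗[A] C)
  let K' := (k ⊗[A] C) ⧸ M
  letI : Field K' := Ideal.Quotient.field M
  let θ : C →ₐ[A] K' := (Ideal.Quotient.mkₐ A M).comp Algebra.TensorProduct.includeRight
  have hst : IsScalarTower A k K' := inferInstance
  let x : K' := θ P.x
  have hx : P.HasMap x := P.hasMap.map θ
  let f' : k[X] := P.f.map (algebraMap A k)
  have hf' : f'.Monic := P.monic_f.map _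
  have hfx : aeval x f' = 0 := by
    rw [aeval_map_algebraMap]
    exact hx.1
  have hint : IsIntegral k x := ⟨f', hf', hfx⟩
  let E := IntermediateField.adjoin k {x}
  have hfd : FiniteDimensional k E := IntermediateField.adjoin.finiteDimensional hint
  have hE : Finite E := Module.finite_of_finite k
  have hrank : Module.finrank k E = (minpoly k x).natDegree := IntermediateField.adjoin.finrank hint
  have hdeg : (minpoly k x).natDegree ≤ P.f.natDegree := by
    refine (natDegree_le_of_dvd (minpoly.dvd k x hfx) hf'.ne_zero).trans ?_
    exact natDegree_map_le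
  obtain ⟨j⟩ : Nonempty (E →ₐ[k] l) := FiniteField.nonempty_algHom_of_finrank_dvd (by
    rw [hrank]
    exact hdvd _ (minpoly.natDegree_pos hint) hdeg)
  let g : E := IntermediateField.AdjoinSimple.gen k x
  have hg : (algebraMap E K') g = x := IntermediateField.AdjoinSimple.algebraMap_gen k x
  have hmap : P.HasMap (j g) := by
    constructor
    · rw [← aeval_map_algebraMap k, aeval_algHom_apply]
      have h1 : aeval g f' = 0 := by
        apply (algebraMap E K').injective
        rw [map_zero, ← aeval_algebraMap_apply, hg, hfx]
      rw [h1, map_zero]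
    · rw [isUnit_iff_ne_zero, ← aeval_map_algebraMap k, aeval_algHom_apply]
      intro h2
      have h3 := j.toRingHom.injective (h2.trans (map_zero _).symm)
      have h4 := congrArg (algebraMap E K') h3
      rw [map_zero, ← aeval_algebraMap_apply, hg, aeval_map_algebraMap] at h4
      exact hx.2.ne_zero h4
  exact ⟨(P.lift _ hmap).comp P.equivRing.toAlgHom⟩

end K828.StdRes
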