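import Groth.Agent.TateGlob.K828.Unram2
import Groth.Agent.TateGlob.K828.StdRes
import Groth.Agent.TateGlob.K828.DisjVan
import Groth.Agent.TateGlob.K828.EtDie
import Groth.Agent.CGrpSh.K731.SmCA
import Mathlib.RingTheory.Unramified.LocalStructure

/-!
# Étale coverings of products of henselian local rings with finite residue fields (helper828)
-/

set_option autoImplicit false

universe u

open CategoryTheory CategoryTheory.Limits AlgebraicGeometry Opposite
open K828.Cartan K828.GalSch
open scoped TensorProduct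

namespace K828.Refine

variable {O : Type u} [CommRing O]

/-- A standard étale neighbourhood refining an étale morphism. -/
theorem exists_standard {A : Type u} [CommRing A] (φ : O →+* A) {V : Over (Spec (CommRingCat.of O))}
    (g : V ⟶ AdFn.specOf φ) [Etale g.left] (v : V.left) :
    ∃ (C : Type u) (_ : CommRing C) (_ : Algebra A C) (_ : StandardEtalePresentation A C)
      (w : AdFn.specOf ((algebraMap A C).comp φ) ⟶ V) (z : PrimeSpectrum C),
      w ≫ g = AdFn.specOfHom φ _ (algebraMap A C) rfl ∧ w.left z = v := by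
  obtain ⟨C₀, _, _, w₀, z₀, hw₀, hz₀, hwg⟩ := K731.SmAlg.exists_affine_nbhd (A := A) g.left v
  have het : Etale (Spec.map (CommRingCat.ofHom (algebraMap A C₀))) := by
    rw [← hwg]
    infer_instance
  rw [HasRingHomProperty.Spec_iff (P := @Etale)] at het
  have hal : Algebra.Etale A C₀ := RingHom.etale_algebraMap.1 het
  have : (z₀ : PrimeSpectrum C₀).asIdeal.IsPrime := z₀.2
  obtain ⟨f, hf, ⟨⟨P⟩⟩⟩ := Algebra.IsEtaleAt.exists_isStandardEtale (R := A) (S := C₀) (z₀ : PrimeSpectrum C₀).asIdeal
  let C := Localization.Away f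
  obtain ⟨z, hz⟩ : (z₀ : PrimeSpectrum C₀) ∈ Set.range (PrimeSpectrum.comap (algebraMap C₀ C)) := by
    rw [PrimeSpectrum.localization_away_comap_range C f]
    exact hf
  have hst : (algebraMap C₀ C).comp (algebraMap A C₀) = algebraMap A C := (IsScalarTower.algebraMap_eq A C₀ C).symm
  refine ⟨C, inferInstance, inferInstance, P, Over.homMk (Spec.map (CommRingCat.ofHom (algebraMap C₀ C)) ≫ w₀) ?_, z,
    ?_, ?_⟩
  · have h1 : w₀ ≫ V.hom = Spec.map (CommRingCat.ofHom (algebraMap A C₀)) ≫ Spec.map (CommRingCat.ofHom φ) := by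
      rw [← hwg, Category.assoc]
      congr 1
      exact (Over.w g).symm
    rw [Category.assoc, h1, ← Spec.map_comp, ← Spec.map_comp, ← CommRingCat.ofHom_comp, ← CommRingCat.ofHom_comp,
      ← RingHom.comp_assoc, hst]
    rfl
  · ext1
    change (Spec.map (CommRingCat.ofHom (algebraMap C₀ C)) ≫ w₀) ≫ g.left = Spec.map (CommRingCat.ofHom (algebraMap A C))
    rw [Category.assoc, hwg, ← Spec.map_comp, ← CommRingCat.ofHom_comp, hst]
  · change (Spec.map (CommRingCat.ofHom (algebraMap C₀ C)) ≫ w₀) z = v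
    rw [Scheme.Hom.comp_apply, ← hz₀]
    congr 1

open IsLocalRing in
/-- The lift of a point of a standard étale algebra to an unramified extension. -/
theorem exists_hom {R A B C : Type u} [CommRing R] [CommRing A] [CommRing B] [CommRing C] [Algebra R C]
    (P : StandardEtalePresentation R C) [HenselianLocalRing A] [Finite (ResidueField A)] [HenselianLocalRing B]
    [Algebra A B] [Module.Finite A B] [IsLocalHom (algebraMap A B)] (e : R →+* A) (z : PrimeSpectrum C)
    (hz : PrimeSpectrum.comap (algebraMap R C) z = PrimeSpectrum.comap e (closedPoint A))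
    (hdvd : ∀ d, 0 < d → d ≤ P.f.natDegree → d ∣ Module.finrank (ResidueField A) (ResidueField B)) :
    ∃ f : C →+* B, f.comp (algebraMap R C) = (algebraMap A B).comp e := by
  let : Algebra R A := e.toAlgebra
  let : Algebra R B := ((algebraMap A B).comp e).toAlgebra
  have h1 : IsScalarTower R A B := IsScalarTower.of_algebraMap_eq' rfl
  have h2 : IsScalarTower R (ResidueField A) (ResidueField B) := IsScalarTower.of_algebraMap_eq' rfl
  have hfin : Finite (ResidueField B) := Unram.finite_residueField A B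
  have hstd : Algebra.IsStandardEtale R C := ⟨⟨P⟩⟩
  have het : Algebra.Etale R C := inferInstance
  have hnt : Nontrivial (ResidueField A ⊗[R] C) := by
    let f := Spec.map (CommRingCat.ofHom (algebraMap R (ResidueField A)))
    let g := Spec.map (CommRingCat.ofHom (algebraMap R C))
    let x : Spec (CommRingCat.of (ResidueField A)) := closedPoint (ResidueField A)
    have hx : f x = g z := by
      change PrimeSpectrum.comap (algebraMap R (ResidueField A)) (closedPoint (ResidueField A)) =
        PrimeSpectrum.comap (algebraMap R C) z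
      rw [hz]
      have h3 : algebraMap R (ResidueField A) = (residue A).comp e := rfl
      rw [h3, PrimeSpectrum.comap_comp_apply]
      congr 1
      exact IsLocalRing.comap_closedPoint (residue A)
    obtain ⟨y, -, -⟩ := Scheme.Pullback.exists_preimage_pullback (f := f) (g := g) x
      (show Spec (CommRingCat.of C) from z) hx
    let y' : PrimeSpectrum (ResidueField A ⊗[R] C) := (pullbackSpecIso R (ResidueField A) C).hom y
    exact PrimeSpectrum.nonempty_iff_nontrivial.1 ⟨y'⟩
  obtain ⟨θ⟩ := StdRes.exists_algHom (k := ResidueField A) (l := ResidueField B) P hnt hdvd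
  obtain ⟨f, -⟩ := Unram.exists_lift (A := R) C B θ
  exact ⟨f.toRingHom, f.comp_algebraMap⟩

open IsLocalRing in
/-- A class which dies étale-locally dies on the product of the unramified extensions of some degree. -/
theorem exists_dies (𝓗 : CohT Scheme.fppfPrecoverage (Spec (CommRingCat.of O))) {F : BigSite.Ab Scheme.fppfPrecoverage _}
    {n : ℕ} {I : Type u} (A : I → Type u) [∀ i, CommRing (A i)] [∀ i, HenselianLocalRing (A i)]
    [∀ i, Finite (ResidueField (A i))] (φ : O →+* ∀ i, A i) (x : 𝓗.H F n (AdFn.specOf φ))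
    (hx : ∀ t : (AdFn.specOf φ).left, ∃ (V : Over (Spec (CommRingCat.of O))) (g : V ⟶ AdFn.specOf φ), Etale g.left ∧
      t ∈ Set.range g.left ∧ 𝓗.res g x = 0) :
    ∃ m : ℕ, m ≠ 0 ∧ ∀ (B : I → Type u) [∀ i, CommRing (B i)] [∀ i, HenselianLocalRing (B i)]
      [∀ i, Algebra (A i) (B i)] [∀ i, IsLocalHom (algebraMap (A i) (B i))], (∀ i, Module.Finite (A i) (B i)) →
      (∀ i, Module.finrank (ResidueField (A i)) (ResidueField (B i)) = m) →
      𝓗.res (AdFn.specOfHom φ _ (RingHom.pi fun i => (algebraMap (A i) (B i)).comp (Pi.evalRingHom A i)) rfl) x = 0 := by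
  classical
  have h1 : ∀ t : PrimeSpectrum (∀ i, A i), ∃ (C : Type u) (_ : CommRing C) (_ : Algebra (∀ i, A i) C)
      (_ : StandardEtalePresentation (∀ i, A i) C) (z : PrimeSpectrum C),
      PrimeSpectrum.comap (algebraMap (∀ i, A i) C) z = t ∧
      𝓗.res (AdFn.specOfHom φ _ (algebraMap (∀ i, A i) C) rfl) x = 0 := by
    intro t
    obtain ⟨V, g, hg, ⟨v, hv⟩, hres⟩ := hx t
    obtain ⟨C, _, _, P, w, z, hwg, hwz⟩ := exists_standard φ g v
    refine ⟨C, inferInstance, inferInstance, P, z, ?_, ?_⟩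
    · rw [← hv, ← hwz, ← Scheme.Hom.comp_apply, ← Over.comp_left, hwg]
      rfl
    · rw [← hwg, 𝓗.res_comp, hres, map_zero]
  choose C i1 i2 P z hz hres using h1
  have hopen : ∀ t, IsOpen (Set.range (PrimeSpectrum.comap (algebraMap (∀ i, A i) (C t)))) := by
    intro t
    have h2 : Algebra.IsStandardEtale (∀ i, A i) (C t) := ⟨⟨P t⟩⟩
    have h3 : Algebra.Etale (∀ i, A i) (C t) := inferInstance
    have h4 : Etale (Spec.map (CommRingCat.ofHom (algebraMap (∀ i, A i) (C t)))) := by
      rw [HasRingHomProperty.Spec_iff (P := @Etale)]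
      exact RingHom.etale_algebraMap.2 h3
    exact (Spec.map (CommRingCat.ofHom (algebraMap (∀ i, A i) (C t)))).isOpenMap.isOpen_range
  obtain ⟨s, hs⟩ := CompactSpace.elim_nhds_subcover
    (fun t => Set.range (PrimeSpectrum.comap (algebraMap (∀ i, A i) (C t)))) (fun t => (hopen t).mem_nhds ⟨z t, hz t⟩)
  let D : ℕ := s.sup fun t => (P t).f.natDegree
  refine ⟨D.factorial, D.factorial_ne_zero, ?_⟩
  intro B _ _ _ _ hfin hrank
  -- each index is assigned to a standard étale piece
  have h5 : ∀ i : I, ∃ t : s, ∃ z' : PrimeSpectrum (C t), PrimeSpectrum.comap (algebraMap (∀ i, A i) (C t)) z' =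
      PrimeSpectrum.comap (Pi.evalRingHom A i) (closedPoint (A i)) := by
    intro i
    have h6 : PrimeSpectrum.comap (Pi.evalRingHom A i) (closedPoint (A i)) ∈ (⊤ : Set (PrimeSpectrum (∀ i, A i))) :=
      trivial
    rw [← hs] at h6
    obtain ⟨t, ht, z', hz'⟩ := Set.mem_iUnion₂.1 h6
    exact ⟨⟨t, ht⟩, z', hz'⟩
  choose j z' hz' using h5
  have h7 : ∀ i, ∃ f : C (j i) →+* B i, f.comp (algebraMap (∀ i, A i) (C (j i))) =
      (algebraMap (A i) (B i)).comp (Pi.evalRingHom A i) := by
    intro i
    have := hfin i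
    refine exists_hom (P (j i)) (Pi.evalRingHom A i) (z' i) (hz' i) ?_
    intro d hd hdle
    rw [hrank]
    exact Nat.dvd_factorial hd (hdle.trans (Finset.le_sup (f := fun t => (P t).f.natDegree) (j i).2))
  have h8 : ∀ (t : s) (i : {i : I // j i = t}), ∃ f : C t →+* B i, f.comp (algebraMap (∀ i, A i) (C t)) =
      (algebraMap (A i) (B i)).comp (Pi.evalRingHom A i) := by
    rintro _ ⟨i, rfl⟩
    exact h7 i
  choose f hf using h8
  -- the pieces
  let ι : Type u := s
  have hι : Finite ι := inferInstance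
  let R : ι → Type u := fun t => ∀ i : {i : I // j i = t}, B i
  let ρ : (∀ i, B i) →+* ∀ t, R t := RingHom.pi fun t => RingHom.pi fun i => Pi.evalRingHom B i
  have hρ : Function.Bijective ρ := by
    constructor
    · intro a b hab
      funext i
      exact congrFun (congrFun hab (j i)) ⟨i, rfl⟩
    · intro y
      refine ⟨fun i => y (j i) ⟨i, rfl⟩, ?_⟩
      funext t i
      obtain ⟨i, rfl⟩ := i
      rfl
  let r : (∀ i, B i) ≃+* ∀ t, R t := RingEquiv.ofBijective ρ hρ
  let ψ : O →+* ∀ i, B i := (RingHom.pi fun i => (algebraMap (A i) (B i)).comp (Pi.evalRingHom A i)).comp φ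
  have hdisj := isDisj_pi R (ρ.comp ψ) (fun t => (Pi.evalRingHom R t).comp (ρ.comp ψ)) (fun t => rfl)
  let q : AdFn.specOf (ρ.comp ψ) ⟶ AdFn.specOf ψ := AdFn.specOfHom ψ (ρ.comp ψ) ρ rfl
  let q' : AdFn.specOf ψ ⟶ AdFn.specOf (ρ.comp ψ) := AdFn.specOfHom (ρ.comp ψ) ψ (r.symm : _ →+* _) (by
    ext1 y
    exact r.symm_apply_apply (ψ y))
  have hqq : q' ≫ q = 𝟙 _ := by
    rw [specOfHom_comp, ← specOfHom_id]
    exact specOfHom_congr _ _ (by ext1 y; exact r.symm_apply_apply y) _
  let p : AdFn.specOf ψ ⟶ AdFn.specOf φ := AdFn.specOfHom φ ψ _ rfl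
  have hzero : 𝓗.res q (𝓗.res p x) = 0 := by
    refine DisjVan.eq_zero 𝓗 hdisj n F _ fun t => ?_
    let g : C t →+* R t := RingHom.pi fun i => f t i
    have hg : g.comp (algebraMap (∀ i, A i) (C t)) = ((Pi.evalRingHom R t).comp ρ).comp
        (RingHom.pi fun i => (algebraMap (A i) (B i)).comp (Pi.evalRingHom A i)) := by
      refine RingHom.ext fun y => funext fun i => ?_
      exact RingHom.congr_fun (hf t i) y
    have hfac : AdFn.specOfHom (ρ.comp ψ) ((Pi.evalRingHom R t).comp (ρ.comp ψ)) (Pi.evalRingHom R t) rfl ≫ q ≫ p =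
        AdFn.specOfHom ((algebraMap (∀ i, A i) (C t)).comp φ) ((Pi.evalRingHom R t).comp (ρ.comp ψ)) g (by
          rw [← RingHom.comp_assoc, hg]; rfl) ≫ AdFn.specOfHom φ _ (algebraMap (∀ i, A i) (C t)) rfl := by
      rw [specOfHom_comp, specOfHom_comp, specOfHom_comp]
      exact specOfHom_congr _ _ (by rw [hg]; rfl) _
    rw [← 𝓗.res_comp, ← 𝓗.res_comp, Category.assoc, hfac, 𝓗.res_comp, hres, map_zero]
  have h9 : 𝓗.res p x = 𝓗.res q' (𝓗.res q (𝓗.res p x)) := by
    rw [← 𝓗.res_comp, hqq, 𝓗.res_id]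
  exact h9.trans (by rw [hzero, map_zero])

end K828.Refine
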