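import Groth.Prelude.Def_AdFn
import Mathlib.Algebra.Category.Ring.FilteredColimits
import Mathlib.Algebra.Category.Ring.Colimits
import Mathlib.CategoryTheory.Limits.Types.Filtered
import Mathlib.CategoryTheory.Filtered.Basic
import Mathlib.AlgebraicGeometry.AffineScheme

/-!
# The spectrum of a directed union of subrings (helper828)
-/

set_option autoImplicit false

universe u

open CategoryTheory CategoryTheory.Limits AlgebraicGeometry Opposite

namespace K828.RingLim

variable {O A : Type u} [CommRing O] [CommRing A] (ρ : O →+* A) {P : Type u} [Preorder P] [IsDirectedOrder P]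
  [Nonempty P] (R : P →o Subring A) (hρ : ∀ i x, ρ x ∈ R i) (hR : ∀ a, ∃ i, a ∈ R i)

/-- structure map of the stage -/
abbrev st (i : P) : O →+* R i := ρ.codRestrict (R i) (hρ i)

/-- The diagram. -/
noncomputable def diag : Pᵒᵖ ⥤ Over (Spec (CommRingCat.of O)) where
  obj i := AdFn.specOf (st ρ R hρ i.unop)
  map {i j} f := AdFn.specOfHom _ _ (Subring.inclusion (R.monotone f.unop.le)) (RingHom.ext fun _ => rfl)
  map_id i := by
    ext1
    exact Spec.map_id _
  map_comp {i j l} f g := by
    ext1
    change Spec.map _ = Spec.map _ ≫ Spec.map _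
    rw [← Spec.map_comp]
    rfl

/-- The cone. -/
noncomputable def cone : Cone (diag ρ R hρ) where
  pt := AdFn.specOf ρ
  π :=
    { app := fun i => AdFn.specOfHom _ _ (R i.unop).subtype (RingHom.ext fun _ => rfl)
      naturality := fun i j f => by
        ext1
        change 𝟙 _ ≫ Spec.map _ = Spec.map _ ≫ Spec.map _
        rw [Category.id_comp, ← Spec.map_comp]
        rfl }

/-- ring diagram -/
def ringDiagram : P ⥤ CommRingCat.{u} where
  obj i := CommRingCat.of (R i)
  map f := CommRingCat.ofHom (Subring.inclusion (R.monotone f.le))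

/-- ring cocone -/
def ringCocone : Cocone (ringDiagram R) where
  pt := CommRingCat.of A
  ι := { app := fun i => CommRingCat.ofHom (R i).subtype }

include hR in
theorem nonempty_isColimit : Nonempty (IsColimit (ringCocone R)) := by
  haveI : ReflectsColimit (ringDiagram R) (forget CommRingCat) :=
    reflectsColimit_of_reflectsIsomorphisms _ _
  refine ⟨isColimitOfReflects (forget CommRingCat) ?_⟩
  refine Types.FilteredColimit.isColimitOf' _ _ ?_ ?_
  · intro a
    obtain ⟨i, hi⟩ := hR a
    exact ⟨i, ⟨a, hi⟩, rfl⟩
  · intro i x y h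
    exact ⟨i, 𝟙 _, congrArg _ (Subtype.ext h)⟩

include hR in
theorem nonempty_isLimit : Nonempty (IsLimit ((Over.forget _).mapCone (cone ρ R hρ))) := by
  obtain ⟨h⟩ := nonempty_isColimit R hR
  exact ⟨isLimitOfPreserves Scheme.Spec h.op⟩

instance : IsCofiltered Pᵒᵖ := isCofiltered_op_of_isFiltered P

instance (i : Pᵒᵖ) : IsAffine ((diag ρ R hρ).obj i).left := inferInstanceAs (IsAffine (Spec _))

instance : IsAffine (cone ρ R hρ).pt.left := inferInstanceAs (IsAffine (Spec _))

end K828.RingLim
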