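import Groth.Agent.TateGlob.K828.Unram2
import Mathlib.LinearAlgebra.TensorProduct.Tower

/-!
# Exactness of the norm and of `σ - 1` (helper828)
-/

set_option autoImplicit false
set_option linter.unusedSectionVars false

universe u v

open IsLocalRing
open scoped TensorProduct

namespace K828.TateOp

section op

variable {X : Type v} [AddCommGroup X] (S : X →+ X) (μ : ℕ → (X →+ X)) (m : ℕ)
  (hS : ∀ j x, S (μ j x) = μ (j + 1) (S x)) (hμ : ∀ x, ∑ j ∈ Finset.range m, μ j x = x)
  (hm : ∀ x, μ m x = μ 0 x)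

include hS in
theorem iterate_mul (j : ℕ) (x : X) : S^[j] (μ 0 x) = μ j (S^[j] x) := by
  induction j with
  | zero => rfl
  | succ j ih => rw [Function.iterate_succ_apply', ih, hS, Function.iterate_succ_apply']

include hS hμ in
/-- Invariants are norms. -/
theorem exists_norm (z : X) (hz : S z = z) : ∃ y, ∑ j ∈ Finset.range m, S^[j] y = z := by
  refine ⟨μ 0 z, ?_⟩
  have h1 : ∀ j, S^[j] z = z := fun j => by
    induction j with
    | zero => rfl
    | succ j ih => rw [Function.iterate_succ_apply', ih, hz]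
  rw [← hμ z]
  refine Finset.sum_congr rfl fun j _ => ?_
  rw [hμ, iterate_mul S μ hS, h1]

/-- partial norms -/
def part (z : X) (j : ℕ) : X := ∑ i ∈ Finset.range j, S^[i] z

theorem S_part (z : X) (j : ℕ) : S (part S z j) = part S z (j + 1) - z := by
  rw [part, part, map_sum, Finset.sum_range_succ', Function.iterate_zero_apply, add_sub_cancel_right]
  exact Finset.sum_congr rfl fun i _ => (Function.iterate_succ_apply' _ _ _).symm

include hS hμ hm in
/-- Elements of norm zero are of the form `S y - y`. -/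
theorem exists_sub (z : X) (hz : ∑ j ∈ Finset.range m, S^[j] z = 0) : ∃ y, S y - y = z := by
  refine ⟨- ∑ j ∈ Finset.range m, μ j (part S z j), ?_⟩
  have h0 : part S z 0 = 0 := rfl
  have hpm : part S z m = 0 := hz
  have h1 : S (∑ j ∈ Finset.range m, μ j (part S z j)) =
      ∑ j ∈ Finset.range m, μ (j + 1) (part S z (j + 1)) - ∑ j ∈ Finset.range m, μ (j + 1) z := by
    rw [map_sum, ← Finset.sum_sub_distrib]
    refine Finset.sum_congr rfl fun j _ => ?_
    rw [hS, S_part, map_sub]
  have h2 : ∑ j ∈ Finset.range m, μ (j + 1) (part S z (j + 1)) = ∑ j ∈ Finset.range m, μ j (part S z j) := by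
    have h3 := Finset.sum_range_succ' (fun j => μ j (part S z j)) m
    have h4 := Finset.sum_range_succ (fun j => μ j (part S z j)) m
    rw [h0, map_zero, add_zero] at h3
    rw [hpm, map_zero, add_zero] at h4
    rw [← h3, h4]
  have h5 : ∑ j ∈ Finset.range m, μ (j + 1) z = z := by
    have h3 := Finset.sum_range_succ' (fun j => μ j z) m
    have h4 := Finset.sum_range_succ (fun j => μ j z) m
    rw [hm] at h4
    have h6 := h3.symm.trans h4
    rw [hμ] at h6
    exact add_right_cancel h6
  rw [map_neg, h1, h2, h5]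
  abel

end op

section unram

variable (A B : Type u) [CommRing A] [HenselianLocalRing A] [Finite (ResidueField A)]
  [CommRing B] [HenselianLocalRing B] [Algebra A B] [Module.Finite A B] [Algebra.Etale A B]
  [IsLocalHom (algebraMap A B)]

theorem sum_zmod {M : Type*} [AddCommMonoid M] (m : ℕ) [NeZero m] (f : ℕ → M) :
    ∑ a : Multiplicative (ZMod m), f (Multiplicative.toAdd a).val = ∑ j ∈ Finset.range m, f j := by
  refine Finset.sum_nbij' (fun a => (Multiplicative.toAdd a).val) (fun j => Multiplicative.ofAdd (j : ZMod m)) ?_ ?_ ?_ ?_ ?_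
  · intro a _
    exact Finset.mem_range.2 (ZMod.val_lt _)
  · intro j _
    exact Finset.mem_univ _
  · intro a _
    rw [ZMod.natCast_zmod_val]
    rfl
  · intro j hj
    rw [toAdd_ofAdd, ZMod.val_natCast, Nat.mod_eq_of_lt (Finset.mem_range.1 hj)]
  · intro a _
    rfl

open Unram in
theorem exists_trace_one (m : ℕ) [NeZero m] (hm : Module.finrank (ResidueField A) (ResidueField B) = m) :
    ∃ c : B, ∑ j ∈ Finset.range m, (frob A B ^ j) c = 1 := by
  let T : B → B := fun x => ∑ j ∈ Finset.range m, (frob A B ^ j) x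
  have hT : ∀ x, T x = ∑ a, cyc A B m hm a x := fun x => (sum_zmod m (fun j => (frob A B ^ j) x)).symm
  obtain ⟨x, hx⟩ := exists_trace_ne_zero A B m hm
  obtain ⟨c, rfl⟩ := residue_surjective x
  have hu : IsUnit (T c) := by
    rw [← residue_ne_zero_iff_isUnit, hT, map_sum]
    simp_rw [residue_cyc]
    exact hx
  have hTinv : frob A B (T c) = T c := by
    have h1 := Finset.sum_range_succ' (fun j => (frob A B ^ j) c) m
    have h2 := Finset.sum_range_succ (fun j => (frob A B ^ j) c) m
    have h3 : (frob A B ^ m) c = (frob A B ^ 0) c := by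
      have := frob_pow_eq_one A B
      rw [hm] at this
      rw [this, pow_zero]
    rw [h3] at h2
    have h4 := add_right_cancel (h1.symm.trans h2)
    refine Eq.trans ?_ h4
    change frob A B (∑ j ∈ Finset.range m, (frob A B ^ j) c) = _
    rw [map_sum]
    exact Finset.sum_congr rfl fun j _ => by rw [pow_succ']; rfl
  obtain ⟨u, hu⟩ := hu
  have huN : frob A B (↑u⁻¹ : B) = ↑u⁻¹ := by
    have h1 : frob A B (↑u : B) = ↑u := by rw [hu]; exact hTinv
    have h2 := congrArg (frob A B) u.mul_inv
    rw [map_mul, h1, map_one] at h2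
    calc frob A B (↑u⁻¹ : B) = ↑u⁻¹ * (↑u * frob A B (↑u⁻¹ : B)) := by rw [← mul_assoc, u.inv_mul, one_mul]
      _ = ↑u⁻¹ := by rw [h2, mul_one]
  have huN' : ∀ j, (frob A B ^ j) (↑u⁻¹ : B) = ↑u⁻¹ := fun j => by
    induction j with
    | zero => rfl
    | succ j ih =>
      rw [pow_succ']
      change frob A B ((frob A B ^ j) _) = _
      rw [ih, huN]
  refine ⟨↑u⁻¹ * c, ?_⟩
  have : ∀ j, (frob A B ^ j) (↑u⁻¹ * c) = ↑u⁻¹ * (frob A B ^ j) c := fun j => by rw [map_mul, huN']
  rw [Finset.sum_congr rfl fun j _ => this j, ← Finset.mul_sum]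
  change ↑u⁻¹ * T c = 1
  rw [← hu, u.inv_mul]

open Unram in
/-- The operators on `M ⊗ B`. -/
theorem exists_ops (m : ℕ) [NeZero m] (hm : Module.finrank (ResidueField A) (ResidueField B) = m)
    (M : Type u) [AddCommGroup M] [Module A M] :
    ∃ μ : ℕ → (M ⊗[A] B →+ M ⊗[A] B),
      (∀ j x, LinearMap.lTensor M (frob A B).toLinearMap (μ j x) = μ (j + 1) (LinearMap.lTensor M (frob A B).toLinearMap x)) ∧
      (∀ x, ∑ j ∈ Finset.range m, μ j x = x) ∧ ∀ x, μ m x = μ 0 x := by
  obtain ⟨c, hc⟩ := exists_trace_one A B m hm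
  refine ⟨fun j => (LinearMap.lTensor M (LinearMap.mulLeft A ((frob A B ^ j) c))).toAddMonoidHom, ?_, ?_, ?_⟩
  · intro j x
    change LinearMap.lTensor M _ (LinearMap.lTensor M _ x) = LinearMap.lTensor M _ (LinearMap.lTensor M _ x)
    rw [← LinearMap.comp_apply, ← LinearMap.comp_apply, ← LinearMap.lTensor_comp, ← LinearMap.lTensor_comp]
    congr 2
    ext b
    change frob A B ((frob A B ^ j) c * b) = (frob A B ^ (j + 1)) c * frob A B b
    rw [map_mul, pow_succ']
    rfl
  · intro x
    change ∑ j ∈ Finset.range m, LinearMap.lTensor M (LinearMap.mulLeft A ((frob A B ^ j) c)) x = x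
    rw [← LinearMap.sum_apply]
    have h1 : ∑ j ∈ Finset.range m, LinearMap.lTensor M (LinearMap.mulLeft A ((frob A B ^ j) c)) =
        LinearMap.lTensor M (∑ j ∈ Finset.range m, LinearMap.mulLeft A ((frob A B ^ j) c)) :=
      (map_sum (LinearMap.lTensorHom (R := A) M (N := B) (P := B)) _ _).symm
    have h2 : ∑ j ∈ Finset.range m, LinearMap.mulLeft A ((frob A B ^ j) c) = LinearMap.id := by
      ext b
      rw [LinearMap.sum_apply]
      change ∑ j ∈ Finset.range m, (frob A B ^ j) c * b = b
      rw [← Finset.sum_mul, hc, one_mul]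
    rw [h1, h2, LinearMap.lTensor_id]
    rfl
  · intro x
    have h := frob_pow_eq_one A B
    rw [hm] at h
    change LinearMap.lTensor M (LinearMap.mulLeft A ((frob A B ^ m) c)) x =
      LinearMap.lTensor M (LinearMap.mulLeft A ((frob A B ^ 0) c)) x
    rw [h, pow_zero]

end unram

end K828.TateOp
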