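import Groth.Agent.TateGlob.K828.LocTate2
import Groth.Agent.TateGlob.K828.Refine
import Groth.Agent.TateGlob.K828.Cartan2
import Mathlib.RingTheory.Finiteness.ModuleFinitePresentation
import Mathlib.AlgebraicGeometry.Geometrically.Connected

/-!
# Vanishing of the cohomology of smooth connected groups over products of henselian local rings with finite residue
fields (helper828)
-/

set_option autoImplicit false
set_option linter.unusedSectionVars false

universe u

open CategoryTheory AlgebraicGeometry Limits MonObj IsLocalRing Opposite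
open K828.Cech K828.CycCech K828.GalSch Groth.Agent.Etrest.FppfCoch

namespace K828.Vanish

section cov

variable {O : Type u} [CommRing O]

theorem galH_cov {A B : Type u} [CommRing A] [CommRing B] {G : Type} [CommGroup G] [Finite G] {f : A →+* B}
    {τ : G →* (B →+* B)} (h : IsGalH f τ) (φ : O →+* A) :
    Flat (AdFn.specOfHom φ (f.comp φ) f rfl).left ∧ LocallyOfFinitePresentation (AdFn.specOfHom φ (f.comp φ) f rfl).left ∧
      Surjective (AdFn.specOfHom φ (f.comp φ) f rfl).left := by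
  classical
  have := Fintype.ofFinite G
  let : Algebra A B := f.toAlgebra
  have hg : GalRing.IsGal (toAlg (f := f) rfl h) := isGal rfl h
  have h1 : Module.Finite A B := GalRing.finite hg
  have h2 : Module.Projective A B := GalRing.projective hg
  have h3 : Module.FinitePresentation A B := Module.finitePresentation_of_projective A B
  have h4 : Algebra.FinitePresentation A B := inferInstance
  refine ⟨?_, ?_, ?_⟩
  · change Flat (Spec.map (CommRingCat.ofHom f))
    rw [HasRingHomProperty.Spec_iff (P := @Flat)]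
    exact (inferInstance : Module.Flat A B)
  · change LocallyOfFinitePresentation (Spec.map (CommRingCat.ofHom f))
    rw [HasRingHomProperty.Spec_iff (P := @LocallyOfFinitePresentation)]
    exact h4
  · refine ⟨?_⟩
    have h5 : f.IsIntegral := fun x => (Algebra.IsIntegral.isIntegral (R := A) x)
    exact h5.comap_surjective h.inj

theorem isTor_comp_iso {K : Precoverage Scheme.{u}} {S : Scheme.{u}} {𝒞 : ObjectProperty (Over S)} {G : Type}
    [CommGroup G] {T' T T₁ : Over S} {p : T' ⟶ T} {τ : G → (T' ⟶ T')} (h : IsTor K 𝒞 p τ) (e : T ≅ T₁) :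
    IsTor K 𝒞 (p ≫ e.hom) τ where
  one := h.one
  mul := h.mul
  comp a := by rw [← Category.assoc, h.comp]
  mem := h.mem
  disj {Y} k hY := by
    obtain ⟨Z, fst, snd, h1, h2, h3⟩ := h.disj k hY
    refine ⟨Z, fst, snd, ?_, h2, h3⟩
    refine h1.of_iso (Iso.refl _) (Iso.refl _) (Iso.refl _) e ?_ ?_ ?_ ?_
    · rw [Iso.refl_hom, Iso.refl_hom, Category.id_comp, Category.comp_id]
    · rw [Iso.refl_hom, Iso.refl_hom, Category.id_comp, Category.comp_id]
    · rw [Iso.refl_hom, Category.id_comp, Category.assoc]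
    · rw [Iso.refl_hom, Category.id_comp]

variable (P : ∀ (A : Type u) [CommRing A], (O →+* A) → Prop)

/-- The class of coverings. -/
def Cov (F : BigSite.Ab Scheme.fppfPrecoverage (Spec (CommRingCat.of O))) :
    MorphismProperty (Over (Spec (CommRingCat.of O))) := fun T' T p =>
  ∃ (m : ℕ) (_ : NeZero m) (τ : Multiplicative (ZMod m) → (T' ⟶ T')) (σ : Multiplicative (ZMod m)),
    IsTor Scheme.fppfPrecoverage (ClsP P) p τ ∧
    Sieve.generate (Presieve.singleton p) ∈ QuotSh.J Scheme.fppfPrecoverage (Spec (CommRingCat.of O)) T ∧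
    (∀ x, x ∈ Subgroup.zpowers σ) ∧
    (∀ x : F.obj.obj (op T'), ∑ g, F.obj.map (τ g).op x = 0 → ∃ y : F.obj.obj (op T'),
      F.obj.map (τ σ).op y - y = x) ∧
    (∀ x : F.obj.obj (op T'), F.obj.map (τ σ).op x = x → ∃ y : F.obj.obj (op T'), ∑ g, F.obj.map (τ g).op y = x)

theorem isGood_cov (F : BigSite.Ab Scheme.fppfPrecoverage (Spec (CommRingCat.of O))) :
    Cartan2.IsGood Scheme.fppfPrecoverage (ClsP P) (Cov P F) where
  rep {T' T} p _ hp n := by
    obtain ⟨m, _, τ, σ, h, -⟩ := hp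
    obtain ⟨R, hR, -⟩ := exists_rep_disj h n
    exact ⟨R, hR⟩
  cov {T' T} p _ hp := by
    obtain ⟨m, _, τ, σ, -, h, -⟩ := hp
    exact h

theorem acy_cov (F : BigSite.Ab Scheme.fppfPrecoverage (Spec (CommRingCat.of O))) {T' T : Over (Spec (CommRingCat.of O))}
    (p : T' ⟶ T) (hp : Cov P F p) : Acy F.obj p := by
  obtain ⟨m, _, τ, σ, h, -, hσ, h1, h2⟩ := hp
  exact acy h F σ hσ h1 h2

end cov

section main

variable {O : Type u} [CommRing O] (𝒢 : Over (Spec (CommRingCat.of O))) [GrpObj 𝒢] [IsCommMonObj 𝒢]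

/-- Sections are points. -/
noncomputable abbrev sE (T : Over (Spec (CommRingCat.of O))) :
    (CGrpSh.pts Scheme.fppfPrecoverage 𝒢).obj.obj (op T) ≃+ Additive (T ⟶ 𝒢) :=
  CGrpSh.sectEquiv Scheme.fppfPrecoverage 𝒢 T

theorem sE_map {T T' : Over (Spec (CommRingCat.of O))} (f : T' ⟶ T)
    (x : (CGrpSh.pts Scheme.fppfPrecoverage 𝒢).obj.obj (op T)) :
    sE 𝒢 T' ((CGrpSh.pts Scheme.fppfPrecoverage 𝒢).obj.map f.op x) = Additive.ofMul (f ≫ (sE 𝒢 T x).toMul) := rfl

theorem sE_sum {T T' : Over (Spec (CommRingCat.of O))} {J : Type*} [Fintype J] (f : J → (T' ⟶ T))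
    (x : (CGrpSh.pts Scheme.fppfPrecoverage 𝒢).obj.obj (op T)) :
    sE 𝒢 T' (∑ j, (CGrpSh.pts Scheme.fppfPrecoverage 𝒢).obj.map (f j).op x) =
      Additive.ofMul (∏ j, f j ≫ (sE 𝒢 T x).toMul) := by
  rw [map_sum, ofMul_prod]
  rfl

/-- The class of henselian local `O`-algebras `A` with finite residue field, the fibre of `𝒢` at the closed point being
geometrically connected. -/
def PG (A : Type u) [CommRing A] (φ : O →+* A) : Prop :=
  ∃ (_ : HenselianLocalRing A) (_ : Finite (ResidueField A)),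
    GeometricallyConnected (BcPt.bcA ((algebraMap A (ResidueField A)).comp φ) 𝒢).hom

omit [GrpObj 𝒢] [IsCommMonObj 𝒢] in
theorem geomConn_comp {k k' : Type u} [CommRing k] [CommRing k'] (ψ : O →+* k) (g : k →+* k')
    (h : GeometricallyConnected (BcPt.bcA ψ 𝒢).hom) : GeometricallyConnected (BcPt.bcA (g.comp ψ) 𝒢).hom := by
  let G := 𝒢.hom
  have h1 : IsPullback (pullback.fst G (Spec.map (CommRingCat.ofHom (g.comp ψ))))
      (pullback.snd G (Spec.map (CommRingCat.ofHom (g.comp ψ)))) G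
      (Spec.map (CommRingCat.ofHom g) ≫ Spec.map (CommRingCat.ofHom ψ)) := by
    have h2 : Spec.map (CommRingCat.ofHom g) ≫ Spec.map (CommRingCat.ofHom ψ) =
      Spec.map (CommRingCat.ofHom (g.comp ψ)) := by rw [← Spec.map_comp, ← CommRingCat.ofHom_comp]
    rw [h2]
    exact IsPullback.of_hasPullback _ _
  have h3 := IsPullback.of_hasPullback G (Spec.map (CommRingCat.ofHom ψ))
  have h4 : IsPullback (h3.lift (pullback.fst G (Spec.map (CommRingCat.ofHom (g.comp ψ))))
      (pullback.snd G (Spec.map (CommRingCat.ofHom (g.comp ψ))) ≫ Spec.map (CommRingCat.ofHom g))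
      (by rw [h1.w, Category.assoc])) (pullback.snd G (Spec.map (CommRingCat.ofHom (g.comp ψ))))
      (pullback.snd G (Spec.map (CommRingCat.ofHom ψ))) (Spec.map (CommRingCat.ofHom g)) :=
    IsPullback.of_right (by rw [h3.lift_fst]; exact h1) (h3.lift_snd _ _ _) h3
  exact MorphismProperty.of_isPullback (P := @GeometricallyConnected) h4 h

variable {𝒢} in
omit [GrpObj 𝒢] [IsCommMonObj 𝒢] in
theorem connectedSpace_of {A : Type u} [Field A] (ψ : O →+* A)
    (h : GeometricallyConnected (BcPt.bcA ψ 𝒢).hom) : ConnectedSpace (BcPt.bcA ψ 𝒢).left := by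
  have h1 : Subsingleton (Spec (CommRingCat.of A)) := inferInstanceAs (Subsingleton (PrimeSpectrum A))
  have h2 : Nonempty (Spec (CommRingCat.of A)) := inferInstanceAs (Nonempty (PrimeSpectrum A))
  exact GeometricallyConnected.connectedSpace_of_subsingleton (BcPt.bcA ψ 𝒢).hom

variable [Smooth 𝒢.hom] [IsSeparated 𝒢.hom] [QuasiCompact 𝒢.hom]

theorem dies (𝓗 : CohT Scheme.fppfPrecoverage (Spec (CommRingCat.of O))) :
    Cartan2.Dies (ClsP (PG 𝒢)) (Cov (PG 𝒢) (CGrpSh.pts Scheme.fppfPrecoverage 𝒢)) 𝓗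
      (CGrpSh.pts Scheme.fppfPrecoverage 𝒢) := by
  intro n T hT x
  obtain ⟨I, A, _, φ, hA, ⟨e⟩⟩ := hT
  have hA1 : ∀ i, HenselianLocalRing (A i) := fun i => (hA i).choose
  have hA2 : ∀ i, Finite (ResidueField (A i)) := fun i => (hA i).choose_spec.choose
  have hA3 : ∀ i, GeometricallyConnected (BcPt.bcA ((algebraMap (A i) (ResidueField (A i))).comp
      ((Pi.evalRingHom A i).comp φ)) 𝒢).hom := fun i => (hA i).choose_spec.choose_spec
  obtain ⟨m, hm0, hdie⟩ := Refine.exists_dies 𝓗 A φ (𝓗.res e.inv x) (fun t =>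
    EtDie.exists_etale_res_eq_zero 𝓗 n _ (K731.SmAlg.ca_pts 𝒢) _ t)
  have : NeZero m := ⟨hm0⟩
  choose B i1 i2 i3 i4 i5 i6 i7 using fun i => Unram.exists_unram (A i) m
  have hz := hdie B i5 i7
  have hg := LocTate.isGalH_pi (A := A) (B := B) m i7
  have hB : ∀ i, PG 𝒢 (B i) ((Pi.evalRingHom B i).comp ((LocTate.fpi A B).comp φ)) := fun i =>
    ⟨i2 i, Unram.finite_residueField (A i) (B i),
      geomConn_comp 𝒢 ((algebraMap (A i) (ResidueField (A i))).comp ((Pi.evalRingHom A i).comp φ))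
        (algebraMap (ResidueField (A i)) (ResidueField (B i))) (hA3 i)⟩
  have htor := isTor_comp_iso (isTorP (PG 𝒢) hg φ hB) e.symm
  have hc := galH_cov hg φ
  have hconn' : ∀ i, ConnectedSpace (BcPt.bcA ((algebraMap (A i) (ResidueField (A i))).comp
      ((Pi.evalRingHom A i).comp φ)) 𝒢).left := fun i => connectedSpace_of _ (hA3 i)
  let p : AdFn.specOf ((LocTate.fpi A B).comp φ) ⟶ T := AdFn.specOfHom φ _ (LocTate.fpi A B) rfl ≫ e.inv
  have hpl : p.left = (AdFn.specOfHom φ _ (LocTate.fpi A B) rfl).left ≫ e.inv.left := rfl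
  refine ⟨_, p, ⟨m, inferInstance, fun a => LocTate.actpi φ m i7 a, Multiplicative.ofAdd 1, htor, ?_, ?_, ?_, ?_⟩, ?_⟩
  · have h1 := hc.1
    have h2 := hc.2.1
    have h3 := hc.2.2
    have h4 : IsIso e.inv.left := inferInstance
    refine FppfDisj.generate_mem p ?_ ?_ ?_
    · rw [hpl]; infer_instance
    · rw [hpl]; infer_instance
    · rw [hpl]; infer_instance
  · intro a
    refine ⟨(Multiplicative.toAdd a).val, ?_⟩
    change (Multiplicative.ofAdd (1 : ZMod m)) ^ (((Multiplicative.toAdd a).val : ℕ) : ℤ) = a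
    rw [zpow_natCast, ← ofAdd_nsmul, nsmul_eq_mul, _root_.mul_one, ZMod.natCast_zmod_val]
    rfl
  · intro z hz0
    obtain ⟨y, hy⟩ := LocTate.pi_sub (𝒢 := 𝒢) φ m i7 hconn' (sE 𝒢 _ z).toMul (by
      have := sE_sum 𝒢 (fun a => LocTate.actpi φ m i7 a) z
      rw [hz0, map_zero] at this
      exact (congrArg Additive.toMul this).symm)
    refine ⟨(sE 𝒢 _).symm (Additive.ofMul y), (sE 𝒢 _).injective ?_⟩
    rw [map_sub, sE_map, AddEquiv.apply_symm_apply]
    refine Eq.trans ?_ (congrArg Additive.ofMul hy)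
    rw [ofMul_mul, ofMul_inv, ← sub_eq_add_neg]
    rfl
  · intro z hz0
    obtain ⟨y, hy⟩ := LocTate.pi_norm (𝒢 := 𝒢) φ m i7 hconn' (sE 𝒢 _ z).toMul (by
      exact (congrArg (fun w => (sE 𝒢 _ w).toMul) hz0))
    refine ⟨(sE 𝒢 _).symm (Additive.ofMul y), (sE 𝒢 _).injective ?_⟩
    have := sE_sum 𝒢 (fun a => LocTate.actpi φ m i7 a) ((sE 𝒢 _).symm (Additive.ofMul y))
    rw [AddEquiv.apply_symm_apply] at this
    exact this.trans (congrArg Additive.ofMul hy)
  · have h1 : 𝓗.res p x = 𝓗.res (AdFn.specOfHom φ _ (LocTate.fpi A B) rfl) (𝓗.res e.inv x) := 𝓗.res_comp _ _ _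
    exact h1.trans hz

/-- **Vanishing theorem**, `𝒢` smooth over `O`. -/
theorem eq_zeroP (𝓗 : CohT Scheme.fppfPrecoverage (Spec (CommRingCat.of O))) (n : ℕ)
    {T : Over (Spec (CommRingCat.of O))} (hT : ClsP (PG 𝒢) T)
    (x : 𝓗.H (CGrpSh.pts Scheme.fppfPrecoverage 𝒢) (n + 1) T) : x = 0 :=
  Cartan2.eq_zero (isGood_cov (PG 𝒢) (CGrpSh.pts Scheme.fppfPrecoverage 𝒢)) 𝓗 n _ (dies 𝒢 𝓗)
    (fun p _ hp => acy_cov _ _ p hp) hT x

/-- **Vanishing theorem** for the spectrum of a product of henselian local rings with finite residue fields. -/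
theorem eq_zero (𝓗 : CohT Scheme.fppfPrecoverage (Spec (CommRingCat.of O))) (n : ℕ) {I : Type u} (A : I → Type u)
    [∀ i, CommRing (A i)] (φ : O →+* ∀ i, A i) (hA : ∀ i, PG 𝒢 (A i) ((Pi.evalRingHom A i).comp φ))
    (x : 𝓗.H (CGrpSh.pts Scheme.fppfPrecoverage 𝒢) (n + 1) (AdFn.specOf φ)) : x = 0 :=
  eq_zeroP 𝒢 𝓗 n ⟨I, A, inferInstance, φ, hA, ⟨Iso.refl _⟩⟩ x

end main

end K828.Vanish
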